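import Cfsg.Agent.QTKE.LfEmpty.Node
import Cfsg.Agent.LocalEven.Goldschmidt.Setup
import Cfsg.Agent.JComp.Local

/-!
Two nodes on one 2-group: the largest subgroup normal in both, and the bound on the quotient.
-/

set_option autoImplicit false
set_option linter.unusedSectionVars false
set_option linter.style.haveILetI false

namespace Cfsg.Lib.QTLf

open Subgroup Cfsg.Lib.JComp

universe u

variable {G : Type u} [Group G]

theorem relC_norm [Finite G] (M W : Subgroup G) :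
    normalizer (M : Set G) ⊓ normalizer (W : Set G) ≤ normalizer (relC M W : Set G) := by
  refine le_normalizer_of_conj fun p hp g hg => ?_
  obtain ⟨⟨hgM, hgW⟩, hg'⟩ := mem_relC.1 hg
  obtain ⟨hpM, hpW⟩ := mem_inf.1 hp
  refine mem_relC.2 ⟨⟨mul_mem (mul_mem hpM hgM) (inv_mem hpM), mul_mem (mul_mem hpW hgW) (inv_mem hpW)⟩,
    fun m hm => ?_⟩
  rw [show p * g * p⁻¹ * m * (p * g * p⁻¹)⁻¹ * m⁻¹ =
    p * (g * (p⁻¹ * m * p⁻¹⁻¹) * g⁻¹ * (p⁻¹ * m * p⁻¹⁻¹)⁻¹) * p⁻¹ by group]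
  exact conj_mem hpW (hg' _ (conj_mem (inv_mem hpM) hm))

/-- The largest subgroup of `S` normal in `X`. -/
def coreIn (S X : Subgroup G) : Subgroup G := ((S.subgroupOf X).normalCore).map X.subtype

theorem coreIn_le (S X : Subgroup G) : coreIn S X ≤ S := by
  rintro _ ⟨y, hy, rfl⟩
  exact mem_subgroupOf.1 (normalCore_le _ hy)

variable [Finite G]

theorem coreIn_norm (S X : Subgroup G) : X ≤ normalizer (coreIn S X : Set G) := by
  refine le_normalizer_of_conj fun g hg => ?_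
  rintro _ ⟨y, hy, rfl⟩
  exact ⟨⟨g, hg⟩ * y * ⟨g, hg⟩⁻¹, (normalCore_normal _).conj_mem y hy _, rfl⟩

theorem le_coreIn {S X N : Subgroup G} (hNS : N ≤ S) (hNX : N ≤ X) (hn : X ≤ normalizer (N : Set G)) :
    N ≤ coreIn S X := by
  haveI : (N.subgroupOf X).Normal := normal_subgroupOf_of_le_normalizer hn
  rw [← map_subgroupOf_eq_of_le hNX]
  exact Subgroup.map_mono (normal_le_normalCore.2 (comap_mono hNS))

theorem le_of_inf_bot {W R : Subgroup G} (h : W ⊓ R = ⊥) {v : G} (hv : v ∈ W) (hvR : v ∈ R) : v = 1 :=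
  mem_bot.1 (h.le (mem_inf.2 ⟨hv, hvR⟩))

namespace Node

variable {S W : Subgroup G} {x w : G}

theorem le_Q_of_normal (n : Node S x W w) {R : Subgroup G} (hRS : R ≤ S)
    (hn : grp S x ≤ normalizer (R : Set G)) : R ≤ ker S W := fun r hr => by
  by_contra hrn
  exact n.x_not_mem (hRS (n.normal_mem hn (hRS hr) hrn hr))

theorem x_not_norm (n : Node S x W w) : x ∉ normalizer (S : Set G) := fun h => n.x_not_mem (by
  obtain ⟨s, hs, hsn, -⟩ := n.exists_out
  exact n.normal_mem (sup_le le_normalizer (zpowers_le.2 h)) hs hsn hs)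

theorem side (n : Node S x W w) {X R : Subgroup G} (hPX : grp S x ≤ X) (hRQ : R ≤ ker S W)
    [(R.subgroupOf X).Normal] (hXR : X ≤ normalizer (R : Set G)) (hWR : W ⊓ R = ⊥) :
    Cfsg.Lib.Goldschmidt.Side ((S.subgroupOf X).map (QuotientGroup.mk' (R.subgroupOf X)))
        (((grp S x).subgroupOf X).map (QuotientGroup.mk' (R.subgroupOf X))) ∧
      ((S.subgroupOf X).map (QuotientGroup.mk' (R.subgroupOf X))).relIndex
        (((grp S x).subgroupOf X).map (QuotientGroup.mk' (R.subgroupOf X))) = 3 := by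
  set π := QuotientGroup.mk' (R.subgroupOf X)
  set P := grp S x
  set Q := ker S W
  have hSP : S ≤ P := le_sup_left
  have hSX : S ≤ X := hSP.trans hPX
  have hQS : Q ≤ S := inf_le_left
  have hidx : ∀ {A B : Subgroup G}, R ≤ A → A ≤ B → B ≤ X →
      ((A.subgroupOf X).map π).relIndex ((B.subgroupOf X).map π) = A.relIndex B := by
    intro A B hA hAB hB
    rw [relIndex_map_map, QuotientGroup.ker_mk', sup_of_le_left (show R.subgroupOf X ≤ A.subgroupOf X from comap_mono hA),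
      sup_of_le_left (show R.subgroupOf X ≤ B.subgroupOf X from comap_mono (hA.trans hAB)), relIndex_subgroupOf hB]
  set Tb := (S.subgroupOf X).map π
  set Mb := (P.subgroupOf X).map π
  set Qb := (Q.subgroupOf X).map π
  have hle : Tb ≤ Mb := Subgroup.map_mono (comap_mono hSP)
  have hT2 : IsPGroup 2 Tb := (n.two.of_equiv (subgroupOfEquivOfLe hSX).symm).map π
  have h3 : Tb.relIndex Mb = 3 := (hidx (hRQ.trans hQS) hSP hPX).trans n.index_three
  have h2 : Qb.relIndex Tb = 2 := (hidx hRQ hQS hSX).trans n.index_two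
  have hQn : Mb ≤ normalizer (Qb : Set _) := by
    refine le_normalizer_of_conj ?_
    rintro _ ⟨g, hg, rfl⟩ _ ⟨q, hq, rfl⟩
    exact ⟨g * q * g⁻¹, mem_subgroupOf.2
      (conj_mem (n.grp_normQ (mem_subgroupOf.1 hg)) (mem_subgroupOf.1 hq)), by simp [map_mul, map_inv]⟩
  have hnn : ¬ Mb ≤ normalizer (Tb : Set _) := fun h => n.x_not_norm (mem_normalizer_of_cj_le (by
    rintro _ ⟨s, hs, rfl⟩
    have hxP : x ∈ P := mem_sup_right (mem_zpowers x)
    obtain ⟨t, ht, he⟩ := conj_mem (h (mem_map_of_mem π (mem_subgroupOf.2 hxP : (⟨x, hPX hxP⟩ : X) ∈ _)))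
      (mem_map_of_mem π (mem_subgroupOf.2 hs : (⟨s, hSX hs⟩ : X) ∈ S.subgroupOf X))
    rw [← map_inv, ← map_mul, ← map_mul] at he
    have h1 := QuotientGroup.eq.1 he
    rw [mem_subgroupOf] at h1
    have h4 := S.mul_mem (mem_subgroupOf.1 ht) ((hRQ.trans hQS) h1)
    simpa [mul_assoc] using h4))
  have hQle : Qb ≤ Cfsg.pCoreOf 2 Mb :=
    le_pCoreOf (((n.two.to_le hQS).of_equiv (subgroupOfEquivOfLe (hQS.trans hSX)).symm).map π)
      (Subgroup.map_mono (comap_mono (hQS.trans hSP))) hQn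
  have hcT : Cfsg.pCoreOf 2 Mb ≤ Tb :=
    sylowIn_normal_le ⟨hle, hT2, by rw [h3]; decide⟩ (isPGroup_pCoreOf Mb) (JComp.pCoreOf_le Mb)
      (le_normalizer.trans (normalizer_le_pCoreOf 2 Mb))
  have hcore : Cfsg.pCoreOf 2 Mb = Qb := by
    refine le_antisymm ?_ hQle
    have h := relIndex_mul_relIndex Qb (Cfsg.pCoreOf 2 Mb) Tb hQle hcT
    rw [h2] at h
    rcases (Nat.dvd_prime Nat.prime_two).1 (Dvd.intro _ h) with e | e
    · exact relIndex_eq_one.1 e
    · exfalso
      rw [e] at h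
      refine hnn ?_
      have hTc : Tb = Cfsg.pCoreOf 2 Mb := le_antisymm (relIndex_eq_one.1 (by omega)) hcT
      rw [hTc]
      exact le_normalizer.trans (normalizer_le_pCoreOf 2 Mb)
  have hker : ∀ {g : X}, π g = 1 ↔ (g : G) ∈ R := fun {g} =>
    (QuotientGroup.eq_one_iff g).trans mem_subgroupOf
  refine ⟨⟨hle, inferInstance, hT2, h3 ▸ Nat.prime_three, hcT, by rw [hcore]; exact h2, hnn, ?_, ?_⟩, h3⟩
  · rintro _ ⟨⟨g, hgP, rfl⟩, hc⟩
    rw [hcore] at hc ⊢
    have hC : P ≤ normalizer (relC Q R : Set G) :=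
      (le_inf n.grp_normQ (hPX.trans hXR)).trans (relC_norm Q R)
    have hx : x ∉ relC Q R := fun h => n.move (by
      have h1 := (mem_relC.1 h).2 w (n.W_le_Q n.wW)
      have h0 := le_of_inf_bot hWR (mul_mem n.p_mem (inv_mem n.wW)) h1
      rw [mul_inv_eq_one] at h0
      exact h0)
    refine mem_map_of_mem π (mem_subgroupOf.2 (n.core_case hC hx (mem_inf.2 ⟨?_, mem_subgroupOf.1 hgP⟩)))
    refine mem_relC.2 ⟨⟨n.grp_normQ (mem_subgroupOf.1 hgP), hXR g.2⟩, fun q hq => ?_⟩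
    have h1 := mem_centralizer_iff.1 hc _
      (mem_map_of_mem π (mem_subgroupOf.2 hq : (⟨q, hSX (hQS hq)⟩ : X) ∈ Q.subgroupOf X))
    refine (hker (g := g * ⟨q, hSX (hQS hq)⟩ * g⁻¹ * ⟨q, hSX (hQS hq)⟩⁻¹)).1 ?_
    rw [map_mul, map_mul, map_mul, map_inv, map_inv, ← h1]
    group
  · intro h
    have hxP : x ∈ P := mem_sup_right (mem_zpowers x)
    have hwS : w ∈ S := n.WS n.wW
    have hwz : π ⟨w, hSX hwS⟩ ∈ Cfsg.Lib.Goldschmidt.omegaZ Tb := by
      refine ⟨mem_map_of_mem π (mem_subgroupOf.2 hwS : (⟨w, hSX hwS⟩ : X) ∈ S.subgroupOf X), ?_, ?_⟩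
      · rw [pow_two, ← map_mul, show (⟨w, hSX hwS⟩ : X) * ⟨w, hSX hwS⟩ = 1 from Subtype.ext (n.W_sq n.wW),
          map_one]
      · rintro _ ⟨s, hs, rfl⟩
        rw [← map_mul, ← map_mul]
        exact congrArg π (Subtype.ext (n.w_central (mem_subgroupOf.1 hs)).symm)
    have h1 := mem_centralizer_iff.1
      (h (mem_map_of_mem π (mem_subgroupOf.2 hxP : (⟨x, hPX hxP⟩ : X) ∈ P.subgroupOf X))) _ hwz
    refine n.move ?_
    have h2 : x * w * x⁻¹ * w⁻¹ ∈ R := by
      refine (hker (g := ⟨x, hPX hxP⟩ * ⟨w, hSX hwS⟩ * ⟨x, hPX hxP⟩⁻¹ * ⟨w, hSX hwS⟩⁻¹)).1 ?_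
      rw [map_mul, map_mul, map_mul, map_inv, map_inv, ← h1]
      group
    have h0 := le_of_inf_bot hWR (mul_mem n.p_mem (inv_mem n.wW)) h2
    rw [mul_inv_eq_one] at h0
    exact h0

end Node

/-- The subgroup generated by two nodes on `S`. -/
abbrev span2 (S : Subgroup G) (x y : G) : Subgroup G := Node.grp S x ⊔ Node.grp S y

variable {S Wa Wb : Subgroup G} {xa xb wa wb : G}

theorem core_le_left (na : Node S xa Wa wa) : coreIn S (span2 S xa xb) ≤ ker S Wa :=
  na.le_Q_of_normal (coreIn_le _ _) ((le_sup_left (b := Node.grp S xb)).trans (coreIn_norm _ _))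

theorem core_le_right (nb : Node S xb Wb wb) : coreIn S (span2 S xa xb) ≤ ker S Wb :=
  nb.le_Q_of_normal (coreIn_le _ _) ((le_sup_right (a := Node.grp S xa)).trans (coreIn_norm _ _))

theorem ker_eq_of_le (na : Node S xa Wa wa) (nb : Node S xb Wb wb) (h : ker S Wa ≤ ker S Wb) :
    ker S Wa = ker S Wb := by
  refine le_antisymm h (relIndex_eq_one.1 ?_)
  have h1 := relIndex_mul_relIndex (ker S Wa) (ker S Wb) S h inf_le_left
  rw [na.index_two, nb.index_two] at h1
  omega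

theorem exists_diff (na : Node S xa Wa wa) (nb : Node S xb Wb wb) (hQ : ker S Wa ≠ ker S Wb) :
    ∃ d ∈ ker S Wa, d ∉ ker S Wb :=
  SetLike.not_le_iff_exists.1 fun h => hQ (ker_eq_of_le na nb h)

theorem grp_inf (na : Node S xa Wa wa) (nb : Node S xb Wb wb) (hQ : ker S Wa ≠ ker S Wb) :
    Node.grp S xa ⊓ Node.grp S xb = S := by
  refine le_antisymm ?_ (le_inf le_sup_left le_sup_left)
  have h := relIndex_mul_relIndex S (Node.grp S xa ⊓ Node.grp S xb) (Node.grp S xa)
    (le_inf le_sup_left le_sup_left) inf_le_left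
  rw [na.index_three] at h
  rcases (Nat.dvd_prime Nat.prime_three).1 (Dvd.intro _ h) with e | e
  · exact relIndex_eq_one.1 e
  · exfalso
    rw [e] at h
    have hle : Node.grp S xa ≤ Node.grp S xb :=
      (relIndex_eq_one.1 (by omega : (Node.grp S xa ⊓ Node.grp S xb).relIndex (Node.grp S xa) = 1)).trans
        inf_le_right
    have h' := relIndex_mul_relIndex S (Node.grp S xa) (Node.grp S xb) le_sup_left hle
    rw [na.index_three, nb.index_three] at h'
    have heq : Node.grp S xb = Node.grp S xa :=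
      le_antisymm (relIndex_eq_one.1 (by omega)) hle
    obtain ⟨d, hd, hdn⟩ := exists_diff na nb hQ
    exact nb.x_not_mem (mem_inf.1 (nb.normal_mem (heq ▸ na.grp_normQ) (mem_inf.1 hd).1 hdn hd)).1

/-- The bound on the quotient by the core. -/
theorem amalgam_bound (na : Node S xa Wa wa) (nb : Node S xb Wb wb) (hQ : ker S Wa ≠ ker S Wb)
    (ha : Wa ⊓ coreIn S (span2 S xa xb) = ⊥) (hb : Wb ⊓ coreIn S (span2 S xa xb) = ⊥) :
    (coreIn S (span2 S xa xb)).relIndex (Node.grp S xa) ∣ 48 := by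
  set X := span2 S xa xb
  set R := coreIn S X
  have h1X : Node.grp S xa ≤ X := le_sup_left
  have h2X : Node.grp S xb ≤ X := le_sup_right
  have hSX : S ≤ X := (le_sup_left : S ≤ Node.grp S xa).trans h1X
  have hRS : R ≤ S := coreIn_le _ _
  haveI : (R.subgroupOf X).Normal := normal_subgroupOf_of_le_normalizer (coreIn_norm S X)
  obtain ⟨s₁, r₁⟩ := na.side h1X (core_le_left na) (coreIn_norm S X) ha
  obtain ⟨s₂, r₂⟩ := nb.side h2X (core_le_right nb) (coreIn_norm S X) hb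
  set π := QuotientGroup.mk' (R.subgroupOf X) with hπ
  set M₁ := ((Node.grp S xa).subgroupOf X).map π
  set M₂ := ((Node.grp S xb).subgroupOf X).map π
  have hM12 : M₁ ⊓ M₂ = (S.subgroupOf X).map π := by
    refine le_antisymm ?_ (le_inf (Subgroup.map_mono (comap_mono le_sup_left))
      (Subgroup.map_mono (comap_mono le_sup_left)))
    rintro _ ⟨⟨a, ha', rfl⟩, ⟨b, hb', he⟩⟩
    refine mem_map_of_mem π (mem_subgroupOf.2 ((grp_inf na nb hQ).le (mem_inf.2
      ⟨mem_subgroupOf.1 ha', ?_⟩)))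
    have h1 := mem_subgroupOf.1 (QuotientGroup.eq.1 he)
    have h4 := (Node.grp S xb).mul_mem (mem_subgroupOf.1 hb') ((le_sup_left : S ≤ Node.grp S xb) (hRS h1))
    simpa [mul_assoc] using h4
  rw [← hM12] at s₁ s₂ r₁ r₂
  have hyp : Cfsg.Lib.Goldschmidt.Hyp M₁ M₂ := by
    refine ⟨?_, s₁, s₂, fun N hN' hle => ?_⟩
    · rw [← Subgroup.map_sup, ← subgroupOf_sup h1X h2X, subgroupOf_self]
      exact Subgroup.map_top_of_surjective _ (QuotientGroup.mk'_surjective _)
    · haveI := hN'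
      rw [hM12] at hle
      have h1 : N.comap π ≤ S.subgroupOf X := fun y hy => by
        obtain ⟨s, hs, he⟩ := hle (mem_comap.1 hy)
        have h2 := mem_subgroupOf.1 (QuotientGroup.eq.1 he)
        have h4 := S.mul_mem (mem_subgroupOf.1 hs) (hRS h2)
        exact mem_subgroupOf.2 (by simpa [mul_assoc] using h4)
      refine eq_bot_iff.2 fun q hq => ?_
      obtain ⟨y, rfl⟩ := QuotientGroup.mk'_surjective _ q
      haveI : (N.comap π).Normal := Subgroup.Normal.comap hN' π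
      refine mem_bot.2 ((QuotientGroup.eq_one_iff y).2 (mem_subgroupOf.2 ?_))
      have hy : y ∈ (S.subgroupOf X).normalCore :=
        Subgroup.normal_le_normalCore.2 h1 (mem_comap.2 hq)
      exact ⟨y, hy, rfl⟩
  have hcard : Nat.card M₁ = R.relIndex (Node.grp S xa) := by
    rw [← relIndex_bot_left, ← Subgroup.map_bot π, relIndex_map_map, QuotientGroup.ker_mk', bot_sup_eq,
      sup_of_le_left (show R.subgroupOf X ≤ (Node.grp S xa).subgroupOf X from comap_mono (hRS.trans le_sup_left)), relIndex_subgroupOf h1X]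
  rw [← hcard]
  have h4 : Nat.card (Equiv.Perm (Fin 4)) = 24 := by rw [Nat.card_perm, Nat.card_fin]; rfl
  rcases hyp.classify (Cfsg.Lib.Goldschmidt.cubic_of_three r₁ r₂) with ⟨⟨e⟩, -⟩ | ⟨⟨e⟩, -⟩
  · rw [Nat.card_congr e.toEquiv, h4]; norm_num
  · rw [Nat.card_congr e.toEquiv, Nat.card_prod, h4,
      show Nat.card (Multiplicative (ZMod 2)) = 2 by simp [Nat.card_eq_fintype_card]]

end Cfsg.Lib.QTLf
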