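import Cfsg.Agent.QTKE.LfEmpty.Opp
import Cfsg.Agent.JComp.Structure
import Cfsg.Agent.QTKE.CentZ.Main

/-!
`J`-components in the members of `ℋ(T)` as nodes on `T₁ = C(Ω₁Z(J(T)))`.
-/

set_option autoImplicit false
set_option linter.unusedSectionVars false
set_option linter.style.haveILetI false

namespace Cfsg.Lib.QTLf

open Subgroup Cfsg.Lib.JComp

universe u

variable {G : Type u} [Group G]

/-- `Ω₁Z(J(T))`. -/
abbrev Z0 (T : Subgroup G) : Subgroup G := Cfsg.omegaCenterOf (Jof T)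

/-- The centralizer of `Ω₁Z(J(T))`. -/
abbrev T1 (T : Subgroup G) : Subgroup G := centralizer (Z0 T : Set G)

variable [Finite G]

/-- The context: the members of `ℋ(T)` are solvable and `C(Ω₁Z(T)) = T`. -/
structure Hyps (T : Sylow 2 G) : Prop where
  hQ : Cfsg.IsQTKE G
  cent : centralizer (Cfsg.omegaCenterOf (T : Subgroup G) : Set G) = (T : Subgroup G)
  solv : ∀ H ∈ Cfsg.calHOver (T : Subgroup G), Group.IsSolvable ↥H
  noTop : ∀ M ∈ Cfsg.calHOver (T : Subgroup G), ¬ ∀ H ∈ Cfsg.calHOver (T : Subgroup G), H ≤ M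

/-- A component of some member of `ℋ(T)`. -/
def IsK (T K : Subgroup G) : Prop :=
  ∃ L, Setting T L ∧ Cfsg.IsJComponent T K ∧ K ≤ L ∧ L ∈ Cfsg.calHOver T

/-- A component with its node. -/
structure CN (T K : Subgroup G) (x w : G) : Prop where
  comp : Cfsg.IsJComponent T K
  node : Node (T1 T) x (Cfsg.wOf K) w
  xK : x ∈ K
  wZ : w ∈ Z0 T
  gen : K = Cfsg.pCoreOf 2 K ⊔ zpowers x
  core : Cfsg.pCoreOf 2 K ≤ ker (T1 T) (Cfsg.wOf K)

theorem stab_of_fix {T L : Subgroup G} {x a : G} (ha : Atom T L x a) (h : Setting T L) {n : G} (hn : n ∈ L)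
    {z : G} (hz : z ∈ dlR x (Vm L)) (hz1 : z ≠ 1) (hnz : n * z * n⁻¹ ∈ dlR x (Vm L)) :
    ∀ w ∈ dlR x (Vm L), n * w * n⁻¹ ∈ dlR x (Vm L) := by
  have hM := ha.mover h
  have hy : n * x * n⁻¹ ∈ N0 T L := conj_mem (h.N0_norm hn) (ha.x_N0 h)
  set W := dlR x (Vm L)
  have hzU : z ∈ W ⊓ cj n⁻¹ W := mem_inf.2 ⟨hz, mem_cj.2 (by rw [inv_inv]; exact hnz)⟩
  have hUW : W ⊓ cj n⁻¹ W = W := by
    refine hM.irred ha.card inf_le_left (fun u hu => ?_) hzU hz1
    obtain ⟨hu1, hu2⟩ := mem_inf.1 hu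
    refine mem_inf.2 ⟨hM.conj_mem_dlR hu1, mem_cj.2 ?_⟩
    rw [show n⁻¹⁻¹ * (x * u * x⁻¹) * n⁻¹ = (n * x * n⁻¹) * (n⁻¹⁻¹ * u * n⁻¹) * (n * x * n⁻¹)⁻¹ by group]
    exact ha.N0_stab h hy _ (mem_cj.1 hu2)
  intro w hw
  have := mem_cj.1 (mem_inf.1 (hUW.ge hw)).2
  rwa [inv_inv] at this

theorem center_gen {T K : Subgroup G} {w : G} (hT : IsPGroup 2 T) (hK : Cfsg.IsJComponent T K)
    (hw : w ∈ Z0 T) (hwW : w ∈ Cfsg.wOf K) (hw1 : w ≠ 1) :
    Z0 T ⊓ Cfsg.wOf K = zpowers w ∧ Zc T K ⊔ zpowers w = Z0 T := by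
  obtain ⟨h2, hsup⟩ := main_center hT hK
  have heq : Z0 T ⊓ Cfsg.wOf K = zpowers w := (eq_of_le_of_card_ge (zpowers_le.2 (mem_inf.2 ⟨hw, hwW⟩)) (by
    rw [h2, card_zpowers_sq (elem_sq (elem_of_sq hK.2.2.2.2.2) hwW) hw1])).symm
  refine ⟨heq, ?_⟩
  rw [heq] at hsup
  exact hsup

theorem Zc_comm {T K : Subgroup G} {g z : G} (hg : g ∈ K) (hz : z ∈ Zc T K) : g * z * g⁻¹ = z :=
  conj_eq_iff_comm.2 (mem_centralizer_singleton_iff.1 (Zc_cen hz (mem_sup_left hg)))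

theorem Z0_cases {T K : Subgroup G} {w : G} (hT : IsPGroup 2 T) (hK : Cfsg.IsJComponent T K)
    (hw : w ∈ Z0 T) (hwW : w ∈ Cfsg.wOf K) (hw1 : w ≠ 1) {z : G} (hz : z ∈ Z0 T) :
    z ∈ Zc T K ∨ z * w ∈ Zc T K := by
  obtain ⟨-, hsup⟩ := center_gen hT hK hw hwW hw1
  rw [← hsup] at hz
  obtain ⟨c, hc, y, hy, rfl⟩ := (Cfsg.Lib.Coprime.mem_sup_of_le_normalizer
    (fun y hy => centralizer_le_normalizer _ (mem_centralizer_iff.2 fun v hv =>
      elem_comm (elem_omegaCenterOf (Jof T)) (Zc_le T K hv) (zpowers_le.2 hw hy)) :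
        zpowers w ≤ normalizer (Zc T K : Set G))).1 hz
  obtain ⟨n, rfl⟩ := mem_powers_iff_mem_zpowers.2 hy
  have hw2 : w * w = 1 := elem_sq (elem_omegaCenterOf (Jof T)) hw
  rcases Nat.even_or_odd n with ⟨j, hj⟩ | ⟨j, hj⟩
  · left
    have e : w ^ n = 1 := by rw [hj, pow_add, ← (Commute.refl w).mul_pow, hw2, one_pow]
    simpa [e] using hc
  · right
    have e : w ^ n = w := by rw [hj, pow_succ, two_mul, pow_add, ← (Commute.refl w).mul_pow, hw2, one_pow, one_mul]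
    show c * w ^ n * w ∈ _
    rw [e, mul_assoc, hw2, mul_one]
    exact hc

theorem cent_Z0_of {T K : Subgroup G} {w g : G} (hT : IsPGroup 2 T) (hK : Cfsg.IsJComponent T K)
    (hw : w ∈ Z0 T) (hwW : w ∈ Cfsg.wOf K) (hw1 : w ≠ 1) (hgw : g * w * g⁻¹ = w)
    (hgc : ∀ z ∈ Zc T K, g * z * g⁻¹ = z) : g ∈ T1 T := by
  refine mem_cent_iff.2 fun z hz => ?_
  rcases Z0_cases hT hK hw hwW hw1 hz with h | h
  · exact hgc z h
  · refine mul_right_cancel (b := w) ?_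
    calc g * z * g⁻¹ * w = g * z * g⁻¹ * (g * w * g⁻¹) := by rw [hgw]
      _ = g * (z * w) * g⁻¹ := by group
      _ = z * w := hgc _ h

variable {T : Sylow 2 G} (h : Hyps T)

include h

theorem Hyps.T2 : IsPGroup 2 (T : Subgroup G) := T.2

theorem Hyps.T1_le : T1 (T : Subgroup G) ≤ (T : Subgroup G) :=
  (centralizer_le (omega_le_omega_jof (T : Subgroup G))).trans h.cent.le

theorem Hyps.J_le_T1 : Jof (T : Subgroup G) ≤ T1 (T : Subgroup G) := fun _ hj =>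
  mem_centralizer_iff.2 fun _ hz => ((mem_omegaCenterOf.1 hz).2.1 _ hj).symm

theorem Hyps.NJ_norm : normalizer (Jof (T : Subgroup G) : Set G) ≤ normalizer (T1 (T : Subgroup G) : Set G) :=
  (normalizer_le_omegaCenterOf _).trans (Cfsg.Lib.Large.normalizer_centralizer_le _)

theorem Hyps.T_norm : (T : Subgroup G) ≤ normalizer (T1 (T : Subgroup G) : Set G) :=
  (le_normalizer.trans (Cfsg.Lib.Thompson.normalizer_le_normalizer_thompson _)).trans h.NJ_norm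

theorem Hyps.jof_T1 : Jof (T1 (T : Subgroup G)) = Jof (T : Subgroup G) := jof_eq_of_between h.J_le_T1 h.T1_le

theorem Hyps.NT1_le : normalizer (T1 (T : Subgroup G) : Set G) ≤ normalizer (Jof (T : Subgroup G) : Set G) :=
  (Cfsg.Lib.Thompson.normalizer_le_normalizer_thompson _).trans (le_of_eq (by rw [← h.jof_T1]))

theorem Hyps.over {H R : Subgroup G} (hTH : (T : Subgroup G) ≤ H) (hR : R ≠ ⊥) (hR2 : IsPGroup 2 R)
    (hRH : R ≤ H) (hn : H ≤ normalizer (R : Set G)) : H ∈ Cfsg.calHOver (T : Subgroup G) := by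
  refine ⟨fun he => hR ?_, hTH⟩
  have h1 := le_pCoreOf hR2 hRH hn
  rw [Cfsg.pCoreOf, show Cfsg.pCore 2 ↥H = ⊥ from he, Subgroup.map_bot, le_bot_iff] at h1
  exact h1

theorem Hyps.setting {H : Subgroup G} (hH : H ∈ Cfsg.calHOver (T : Subgroup G))
    (hJ : ¬ Jof (T : Subgroup G) ≤ Pc H) : Setting (T : Subgroup G) H := by
  have hcen : centralizer (Pc H : Set G) ≤ Pc H := by
    have hHN : H ≤ normalizer (Pc H : Set G) := le_normalizer_pCoreOf H
    have hN : normalizer (Pc H : Set G) ∈ Cfsg.calHOver (T : Subgroup G) :=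
      h.over (hH.2.trans hHN) (QTCentZ.core_ne_bot hH.1) (isPGroup_pCoreOf H) le_normalizer le_rfl
    intro g hg
    have hle : Pc (normalizer (Pc H : Set G)) ≤ Pc H := le_pCoreOf (isPGroup_pCoreOf _)
      ((QTCentZ.core_le T hN.2).trans hH.2)
      (hHN.trans (le_normalizer.trans (normalizer_le_pCoreOf 2 _)))
    exact hle (QTCentZ.selfCent h.hQ T hN ⟨centralizer_le_normalizer _ hg, centralizer_le hle hg⟩)
  refine ⟨sylowIn_of_sylow T hH.2, hJ, hcen, h.solv H hH, ?_⟩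
  refine le_trans ?_ le_normalizer
  rw [← h.cent]
  exact inf_le_right.trans (centralizer_le (omega_le_Vm hcen (QTCentZ.core_le T hH.2)))

theorem Hyps.le_NJ {H : Subgroup G} (hH : H ∈ Cfsg.calHOver (T : Subgroup G))
    (hJ : Jof (T : Subgroup G) ≤ Pc H) : H ≤ normalizer (Jof (T : Subgroup G) : Set G) := by
  have e : Jof (Pc H) = Jof (T : Subgroup G) := jof_eq_of_between hJ (QTCentZ.core_le T hH.2)
  rw [← e]
  exact (le_normalizer_pCoreOf H).trans (Cfsg.Lib.Thompson.normalizer_le_normalizer_thompson _)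

theorem Hyps.Cv_le {L : Subgroup G} (hs : Setting (T : Subgroup G) L) : Cv L ≤ (T : Subgroup G) :=
  (inf_le_right.trans (centralizer_le (omega_le_Vm hs.cen hs.P_le_T))).trans h.cent.le

theorem Hyps.exists_CN {K : Subgroup G} (hK : IsK (T : Subgroup G) K) : ∃ x w, CN (T : Subgroup G) K x w := by
  obtain ⟨L, hs, hKc, hKL, -⟩ := hK
  obtain ⟨x, a, ha, hKx, hW⟩ := hs.classify hKc hKL
  have hxK : x ∈ K := hKx ▸ ha.x_mem_Kx
  have htri := tri_of_comp hKc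
  have hgen := (htri.gen3 hxK ha.order).2
  set W := Cfsg.wOf K with hWdef
  have hM := ha.mover hs
  obtain ⟨w, hw, hw1⟩ := (bot_or_exists_ne_one (Z0 (T : Subgroup G) ⊓ W)).resolve_left fun e => by
    have h2 := (main_center T.2 hKc).1
    change Nat.card ↥(Z0 (T : Subgroup G) ⊓ W) = 2 at h2
    rw [e, card_bot] at h2
    omega
  obtain ⟨hwZ, hwW⟩ := mem_inf.1 hw
  have hxn : x ∈ normalizer (W : Set G) := normalizer_le_wOf K (le_normalizer hxK)
  have hWV : W ≤ Vm L := hW.le.trans hM.dlR_le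
  have hWe : Cfsg.IsElementaryAbelian 2 W := elem_of_sq hKc.2.2.2.2.2
  have hWT1 : W ≤ T1 (T : Subgroup G) := fun v hv => cent_Z0_of T.2 hKc hwZ hwW hw1
    (conj_eq_iff_comm.2 (elem_comm hWe hv hwW))
    fun z hz => Zc_comm ((htri.wOf_le_core.trans (omegaCenterOf_le _)).trans (JComp.pCoreOf_le K) hv) hz
  have hsW : T1 (T : Subgroup G) ≤ normalizer (W : Set G) := le_normalizer_of_conj fun s hs' v hv => by
    rw [hW] at hv ⊢
    refine stab_of_fix ha hs (hs.syl.1 (h.T1_le hs')) (hW ▸ hwW) hw1 ?_ v hv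
    rw [mem_cent_iff.1 hs' w hwZ]
    exact hW ▸ hwW
  have hwc : ∀ s ∈ T1 (T : Subgroup G), s * w * s⁻¹ = w := fun s hs' => mem_cent_iff.1 hs' w hwZ
  have hmove : x * w * x⁻¹ ≠ w := fun e => hw1 (hM.fix_eq_one (hW ▸ hwW) e)
  have hxfix : ∀ z ∈ Zc (T : Subgroup G) K, x * z * x⁻¹ = z := fun z hz => Zc_comm hxK hz
  have hxQ : x ∈ normalizer (ker (T1 (T : Subgroup G)) W : Set G) := mem_normalizer_of_cj_le (by
    rintro _ ⟨q, hq, rfl⟩
    show x * q * x⁻¹ ∈ _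
    have hqW := mem_cent_conj hxn (mem_inf.1 hq).2
    refine mem_inf.2 ⟨cent_Z0_of T.2 hKc hwZ hwW hw1 (mem_cent_iff.1 hqW w hwW) fun z hz => ?_, hqW⟩
    have h1 := mem_cent_iff.1 (mem_inf.1 hq).1 z (Zc_le _ _ hz)
    have h2 := hxfix z hz
    have h3 : x⁻¹ * z * x = z :=
      calc x⁻¹ * z * x = x⁻¹ * (x * z * x⁻¹) * x := by rw [h2]
        _ = z := by group
    calc x * q * x⁻¹ * z * (x * q * x⁻¹)⁻¹ = x * (q * (x⁻¹ * z * x) * q⁻¹) * x⁻¹ := by group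
      _ = z := by rw [h3, h1, h2])
  refine ⟨x, w, hKc, ⟨T.2.to_le h.T1_le, ha.x3, hWe, hKc.2.2.2.2.1, hWT1, hxn, hsW, hwW, hw1, hwc, hmove,
    hxQ, ?_, ?_⟩, hxK, hwZ, hgen, ?_⟩
  · intro s hs'
    have hsL := hs.syl.1 (h.T1_le hs')
    obtain ⟨i, hi, hc⟩ := ha.conj_x hs hsL fun v hv => hW ▸ conj_mem (hsW hs') (hW.symm ▸ hv)
    refine ⟨i, hi, ?_⟩
    set c := (x ^ i)⁻¹ * (s * x * s⁻¹) with hcd
    have hcV : ∀ v ∈ Vm L, c * v * c⁻¹ = v := (Setting.mem_Cv_iff (mem_inf.1 hc).1).1 hc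
    refine mem_inf.2 ⟨cent_Z0_of T.2 hKc hwZ hwW hw1 (hcV w (hWV hwW)) fun z hz => ?_,
      mem_cent_iff.2 fun v hv => hcV v (hWV hv)⟩
    have h1 : (x ^ i)⁻¹ * z * x ^ i = z := by
      have := hxfix z hz
      have h5 : Commute x z := conj_eq_iff_comm.1 this
      rw [mul_assoc, ← (h5.pow_left i).eq, inv_mul_cancel_left]
    have hsz := mem_cent_iff.1 hs' z (Zc_le _ _ hz)
    have hsz' := mem_cent_iff.1 (inv_mem hs') z (Zc_le _ _ hz)
    calc c * z * c⁻¹ = (x ^ i)⁻¹ * (s * (x * (s⁻¹ * z * s⁻¹⁻¹) * x⁻¹) * s⁻¹) * x ^ i := by rw [hcd]; group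
      _ = z := by rw [hsz', hxfix z hz, hsz, h1]
  · have haW : a ∉ centralizer (W : Set G) := fun hc => by
      have hp : x * w * x⁻¹ ∈ W := conj_mem hxn hwW
      have e1 := mem_cent_iff.1 hc _ hp
      have e2 := mem_cent_iff.1 hc w hwW
      have e3 : x⁻¹ * w * x = x * w * x⁻¹ := by
        calc x⁻¹ * w * x = (a * x * a) * (a * w * a⁻¹) * (a * x * a)⁻¹ := by rw [e2, ha.ax, inv_inv]
          _ = a * (x * ((a * a) * w * (a * a)⁻¹) * x⁻¹) * a⁻¹ := by group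
          _ = _ := by rw [ha.a2, one_mul, inv_one, mul_one, e1]
      refine hmove ?_
      have e4 : x * (x * w * x⁻¹) * x⁻¹ = w := by rw [← e3]; group
      calc x * w * x⁻¹ = x * (x * (x * w * x⁻¹) * x⁻¹) * x⁻¹ := by rw [e4]
        _ = w := hM.conj3 w
    by_contra hno
    push Not at hno
    refine haW ((jof_le_iff.2 hno : Jof (T1 (T : Subgroup G)) ≤ _) ?_)
    rw [h.jof_T1]
    exact ha.aJ
  · intro o ho
    have hoL : o ∈ Pc L := by rw [hKx] at ho; rw [(ha.tri hs).1] at ho; exact (mem_inf.1 ho).2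
    have hov : ∀ v ∈ Vm L, o * v * o⁻¹ = v := fun v hv => Atom.C_V hs (hs.P_le_C hoL) hv
    exact mem_inf.2 ⟨cent_Z0_of T.2 hKc hwZ hwW hw1 (hov w (hWV hwW))
      (fun z hz => Zc_comm (JComp.pCoreOf_le K ho) hz), mem_cent_iff.2 fun v hv => hov v (hWV hv)⟩

namespace CN

variable {K : Subgroup G} {x w : G}

omit h in
theorem gen_le {M : Subgroup G} (c : CN (T : Subgroup G) K x w) (hT : T1 (T : Subgroup G) ≤ M) (hx : x ∈ M) :
    K ≤ M := by
  rw [c.gen]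
  exact sup_le ((c.core.trans inf_le_left).trans hT) (zpowers_le.2 hx)

omit h in
theorem W_le_K (c : CN (T : Subgroup G) K x w) : Cfsg.wOf K ≤ K :=
  ((tri_of_comp c.comp).wOf_le_core.trans (omegaCenterOf_le _)).trans (JComp.pCoreOf_le K)

omit h in
theorem fix_iff (c : CN (T : Subgroup G) K x w) {z : G} (hz : z ∈ Z0 (T : Subgroup G)) :
    x * z * x⁻¹ = z ↔ z ∈ Zc (T : Subgroup G) K := by
  refine ⟨fun hx => ?_, fun hz' => Zc_comm c.xK hz'⟩
  rcases Z0_cases T.2 c.comp c.wZ c.node.wW c.node.w1 hz with h' | h'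
  · exact h'
  · refine absurd ?_ c.node.move
    have := Zc_comm c.xK h'
    calc x * w * x⁻¹ = (x * z * x⁻¹)⁻¹ * (x * (z * w) * x⁻¹) := by group
      _ = w := by rw [hx, this]; group

omit h in
theorem mul_mem_Zc (c : CN (T : Subgroup G) K x w) {z z' : G} (hz : z ∈ Z0 (T : Subgroup G))
    (hz' : z' ∈ Z0 (T : Subgroup G)) (hn : z ∉ Zc (T : Subgroup G) K) (hn' : z' ∉ Zc (T : Subgroup G) K) :
    z * z' ∈ Zc (T : Subgroup G) K := by
  have e1 := (Z0_cases T.2 c.comp c.wZ c.node.wW c.node.w1 hz).resolve_left hn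
  have e2 := (Z0_cases T.2 c.comp c.wZ c.node.wW c.node.w1 hz').resolve_left hn'
  have he := elem_omegaCenterOf (Jof (T : Subgroup G))
  have : z * z' = (z * w) * (z' * w) := by
    rw [elem_comm he hz' c.wZ, ← mul_assoc, mul_assoc z w w, elem_sq he c.wZ, mul_one]
  rw [this]
  exact mul_mem e1 e2

omit h in
theorem w_not_Zc (c : CN (T : Subgroup G) K x w) : w ∉ Zc (T : Subgroup G) K := fun hw =>
  c.node.move ((c.fix_iff c.wZ).2 hw)

omit h in
theorem w_unique (c : CN (T : Subgroup G) K x w) {v : G} (hv : v ∈ Z0 (T : Subgroup G))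
    (hvW : v ∈ Cfsg.wOf K) : v = 1 ∨ v = w := by
  have hm := (center_gen T.2 c.comp c.wZ c.node.wW c.node.w1).1.le (mem_inf.2 ⟨hv, hvW⟩)
  obtain ⟨n, rfl⟩ := mem_powers_iff_mem_zpowers.2 hm
  have hw2 := c.node.W_sq c.node.wW
  rcases Nat.even_or_odd n with ⟨j, hj⟩ | ⟨j, hj⟩
  · exact Or.inl (by show w ^ n = 1; rw [hj, pow_add, ← (Commute.refl w).mul_pow, hw2, one_pow])
  · exact Or.inr (by show w ^ n = w; rw [hj, pow_succ, two_mul, pow_add, ← (Commute.refl w).mul_pow, hw2, one_pow, one_mul])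

theorem conj (c : CN (T : Subgroup G) K x w) {t : G} (ht : t ∈ normalizer (Jof (T : Subgroup G) : Set G)) :
    CN (T : Subgroup G) (cj t K) (t * x * t⁻¹) (t * w * t⁻¹) := by
  have hJ : Jof (cj t (T : Subgroup G)) = Jof (T : Subgroup G) := by rw [jof_cj, cj_eq_self ht]
  refine ⟨comp_congr hJ.symm (comp_cj c.comp t), ?_, conj_mem_cj c.xK,
    conj_mem (normalizer_le_omegaCenterOf _ ht) c.wZ, ?_, ?_⟩
  · have := c.node.conj t
    rwa [cj_eq_self (h.NJ_norm ht), ← wOf_cj] at this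
  · conv_lhs => rw [c.gen]
    rw [show cj t (Cfsg.pCoreOf 2 K ⊔ zpowers x) = cj t (Cfsg.pCoreOf 2 K) ⊔ cj t (zpowers x) from
      Subgroup.map_sup _ _ _, ← pCoreOf_cj, cj, cj, MonoidHom.map_zpowers]
    rfl
  · have := Subgroup.map_mono (f := (MulAut.conj t).toMonoidHom) c.core
    change cj t _ ≤ cj t _ at this
    rwa [← pCoreOf_cj, ker_cj, cj_eq_self (h.NJ_norm ht), ← wOf_cj] at this

end CN

end Cfsg.Lib.QTLf
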