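import Cfsg.Agent.QTKE.LfEmpty.Wreath

/-!
The diagonal case: the structure of `T₁` as a product of two four-group pairs and `Ω₁Z(J)`.
-/

set_option autoImplicit false
set_option linter.unusedSectionVars false
set_option linter.style.haveILetI false

namespace Cfsg.Lib.QTLf

open Subgroup Cfsg.Lib.JComp

universe u

variable {G : Type u} [Group G] [Finite G]

theorem card_mul_relIndex {A B : Subgroup G} (h : A ≤ B) : Nat.card A * A.relIndex B = Nat.card B := by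
  rw [← relIndex_bot_left, ← relIndex_bot_left]
  exact relIndex_mul_relIndex ⊥ A B bot_le h

theorem card_cj (g : G) (A : Subgroup G) : Nat.card ↥(cj g A) = Nat.card A :=
  (Nat.card_congr (A.equivMapOfInjective _ (MulAut.conj g).injective).toEquiv).symm

/-- The two orbits with `K_i` and `L_i` non-commuting. -/
structure Diag (T K1 K2 L1 L2 : Subgroup G) (x1 w1 x2 w2 y1 y2 : G) : Prop where
  q : Quad T K1 K2 L1 L2 x1 w1 x2 w2 y1 w1 y2 w2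
  n11 : ¬ Cfsg.wOf L1 ≤ centralizer (Cfsg.wOf K1 : Set G)
  n22 : ¬ Cfsg.wOf L2 ≤ centralizer (Cfsg.wOf K2 : Set G)
  c12 : Cfsg.wOf L2 ≤ centralizer (Cfsg.wOf K1 : Set G)
  c21 : Cfsg.wOf L1 ≤ centralizer (Cfsg.wOf K2 : Set G)
  zT : centralizer ({w1 * w2} : Set G) = T
  nJ : normalizer (Jof T : Set G) = T

variable {T : Sylow 2 G} (h : Hyps T)

include h

theorem Hyps.exists_diag_of
    (hns : ∀ K, IsK (T : Subgroup G) K → ¬ (T : Subgroup G) ≤ normalizer (K : Set G))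
    {K1 K2 L1 L2 : Subgroup G} {x1 w1 x2 w2 y1 v1 y2 v2 : G}
    (q : Quad (T : Subgroup G) K1 K2 L1 L2 x1 w1 x2 w2 y1 v1 y2 v2) :
    ∃ A1 A2 B1 B2 a1 u1 a2 u2 b1 b2, Diag (T : Subgroup G) A1 A2 B1 B2 a1 u1 a2 u2 b1 b2 := by
  obtain ⟨A1, A2, B1, B2, a1, u1, a2, u2, b1, r1, b2, r2, q', hn⟩ := q.exists_nc h hns
  obtain ⟨e1, e2⟩ := q'.label_nc h hn
  subst e1; subst e2
  have hne := q'.o.w_ne h q'.hK
  refine ⟨A1, A2, B1, B2, a1, r1, a2, r2, b1, b2, q', hn, ?_, ?_, ?_, q'.cent_z h hns, q'.NJ_eq h⟩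
  · intro hc
    obtain ⟨d, hd, k1, k2, l1, l2⟩ := q'.exists_diag h
    refine hn fun v hv => mem_cent_iff.2 fun k hk => ?_
    have h1 : d * v * d⁻¹ ∈ Cfsg.wOf B2 := by rw [← l1, wOf_cj]; exact conj_mem_cj hv
    have h2 : d * k * d⁻¹ ∈ Cfsg.wOf A2 := by rw [← k1, wOf_cj]; exact conj_mem_cj hk
    refine conj_inj (g := d) ?_
    rw [← mem_cent_iff.1 (hc h1) _ h2]
    group
  · by_contra hc
    exact hne ((noncomm q'.o.c1.node q'.o'.c2.node hc).1)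
  · by_contra hc
    exact hne ((noncomm q'.o.c2.node q'.o'.c1.node hc).1).symm

theorem ker_conj {K : Subgroup G} {s r : G} (hs : s ∈ (T : Subgroup G))
    (hr : r ∈ ker (T1 (T : Subgroup G)) (Cfsg.wOf K)) :
    s * r * s⁻¹ ∈ ker (T1 (T : Subgroup G)) (Cfsg.wOf (cj s K)) := by
  have := conj_mem_cj (g := s) hr
  rwa [ker_cj, cj_eq_self (h.T_norm hs), ← wOf_cj] at this

namespace Diag

variable {K1 K2 L1 L2 : Subgroup G} {x1 w1 x2 w2 y1 y2 : G}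
  (D : Diag (T : Subgroup G) K1 K2 L1 L2 x1 w1 x2 w2 y1 y2)

include D

omit h in
theorem swap : Diag (T : Subgroup G) K2 K1 L2 L1 x2 w2 x1 w1 y2 y1 :=
  ⟨D.q.symmK.symmL, D.n22, D.n11, D.c21, D.c12, by rw [← D.q.o.z_comm]; exact D.zT, D.nJ⟩

omit h in
theorem flip : Diag (T : Subgroup G) L1 L2 K1 K2 y1 w1 y2 w2 x1 x2 :=
  ⟨D.q.flip, fun e => D.n11 (commutes_symm e), fun e => D.n22 (commutes_symm e), commutes_symm D.c21,
    commutes_symm D.c12, D.zT, D.nJ⟩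

omit h in
theorem out : ∃ u ∈ Cfsg.wOf L1, u ∈ T1 (T : Subgroup G) ∧ u ∉ ker (T1 (T : Subgroup G)) (Cfsg.wOf K1) ∧
    u ≠ 1 ∧ u ≠ w1 := by
  obtain ⟨u, hu, hun⟩ := SetLike.not_le_iff_exists.1 D.n11
  refine ⟨u, hu, D.q.o'.c1.node.WS hu, fun e => hun (mem_inf.1 e).2, fun e => hun (e ▸ one_mem _), fun e => hun ?_⟩
  exact e ▸ mem_cent_iff.2 fun v hv =>
    conj_eq_iff_comm.2 (D.q.o'.c1.node.w_central (D.q.o.c1.node.WS hv)).symm

omit h in
theorem short {r : G} (hr : r ∈ ker (T1 (T : Subgroup G)) (Cfsg.wOf K1)) :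
    x1 * r * x1⁻¹ * r⁻¹ ∈ Cfsg.wOf K1 :=
  (noncomm D.q.o.c1.node D.q.o'.c1.node D.n11).2 r hr

omit h in
theorem fixed {r : G} (hr : r ∈ ker (T1 (T : Subgroup G)) (Cfsg.wOf K1)) :
    ∃ e ∈ Cfsg.wOf K1, x1 * (r * e) * x1⁻¹ = r * e :=
  D.q.o.c1.node.exists_fixed (fun _ hv => D.q.o.c1.node.Q_comm hr hv) (D.short hr)

omit h in
/-- An element fixed by `x₁` centralizes `W(L₁)`. -/
theorem fix_le {d : G} (hd : d ∈ ker (T1 (T : Subgroup G)) (Cfsg.wOf K1)) (hx : x1 * d * x1⁻¹ = d) :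
    d ∈ ker (T1 (T : Subgroup G)) (Cfsg.wOf L1) := by
  by_contra hdn
  have n := D.q.o.c1.node
  have n' := D.q.o'.c1.node
  obtain ⟨u, hu, huS, hun, hu1, huw⟩ := D.out
  have hdu := n'.moves (mem_inf.1 hd).1 hdn hu hu1 huw
  have hud : u * d * u⁻¹ = w1 * d :=
    calc u * d * u⁻¹ = u * (d * u * d⁻¹)⁻¹ * d := by group
      _ = u * w1⁻¹ * u⁻¹ * d := by rw [hdu]; group
      _ = w1 * d := by rw [elem_inv n.elem n.wW, n.wc u huS]
  set q := x1 * (u * x1 * u⁻¹) with hqd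
  have hq : q ∈ ker (T1 (T : Subgroup G)) (Cfsg.wOf K1) := n.invert huS hun
  have h1 : q * (w1 * d) * q⁻¹ = (x1 * w1 * x1⁻¹) * d := by
    calc q * (w1 * d) * q⁻¹ = x1 * (u * (x1 * (u⁻¹ * (w1 * d) * u) * x1⁻¹) * u⁻¹) * x1⁻¹ := by rw [hqd]; group
      _ = x1 * (u * d * u⁻¹) * x1⁻¹ := by
        rw [show u⁻¹ * (w1 * d) * u = d by rw [← hud]; group, hx]
      _ = (x1 * w1 * x1⁻¹) * (x1 * d * x1⁻¹) := by rw [hud]; group
      _ = _ := by rw [hx]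
  obtain ⟨e, he, hqe⟩ := D.fixed hq
  set d' := q * e
  have hd'S : d' ∈ T1 (T : Subgroup G) := mul_mem (mem_inf.1 hq).1 (n.WS he)
  have h2 : q * (w1 * d) * q⁻¹ = w1 * (d' * d * d'⁻¹) := by
    have ce : Commute e⁻¹ (w1 * d) :=
      (show Commute e⁻¹ w1 from elem_comm n.elem (inv_mem he) n.wW).mul_right
        (n.Q_comm hd (inv_mem he)).symm
    calc q * (w1 * d) * q⁻¹ = d' * (e⁻¹ * (w1 * d) * e⁻¹⁻¹) * d'⁻¹ := by simp only [d']; group
      _ = d' * (w1 * d) * d'⁻¹ := by rw [conj_eq_iff_comm.2 ce.eq]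
      _ = (d' * w1 * d'⁻¹) * (d' * d * d'⁻¹) := by group
      _ = _ := by rw [n.wc d' hd'S]
  rw [h1] at h2
  have h3 : d' * d * d'⁻¹ * d⁻¹ = w1⁻¹ * (x1 * w1 * x1⁻¹) :=
    calc d' * d * d'⁻¹ * d⁻¹ = w1⁻¹ * (w1 * (d' * d * d'⁻¹)) * d⁻¹ := by group
      _ = _ := by rw [← h2]; group
  have h4 : x1 * (d' * d * d'⁻¹ * d⁻¹) * x1⁻¹ = d' * d * d'⁻¹ * d⁻¹ := by
    have c1 : Commute x1 d' := conj_eq_iff_comm.1 hqe
    have c2 : Commute x1 d := conj_eq_iff_comm.1 hx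
    exact conj_eq_iff_comm.2 (((c1.mul_right c2).mul_right c1.inv_right).mul_right c2.inv_right).eq
  rw [h3] at h4
  have h5 := n.fix (mul_mem (inv_mem n.wW) n.p_mem) h4
  exact n.move (inv_mul_eq_one.1 h5).symm

omit h in
theorem r_cases {r : G} (hr : r ∈ ker (T1 (T : Subgroup G)) (Cfsg.wOf K1))
    (hr' : r ∈ ker (T1 (T : Subgroup G)) (Cfsg.wOf L1)) :
    x1 * r * x1⁻¹ = r ∨ x1 * (r * w1) * x1⁻¹ = r * w1 := by
  have n := D.q.o.c1.node
  obtain ⟨e, he, hre⟩ := D.fixed hr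
  obtain ⟨u, hu, huS, hun, -, -⟩ := D.out
  have hd : r * e ∈ ker (T1 (T : Subgroup G)) (Cfsg.wOf L1) := D.fix_le (mul_mem hr (n.W_le_Q he)) hre
  have hec : e ∈ ker (T1 (T : Subgroup G)) (Cfsg.wOf L1) := (Subgroup.mul_mem_cancel_left _ hr').1 hd
  rcases n.fixed_of_moves huS hun he (conj_eq_iff_comm.2 (D.q.o'.c1.node.Q_comm hec hu).symm) with e1 | e1
  · exact Or.inl (by rwa [e1, mul_one] at hre)
  · exact Or.inr (by rwa [e1] at hre)

omit h in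
theorem sq_fix {r : G} (hr : r ∈ ker (T1 (T : Subgroup G)) (Cfsg.wOf K1))
    (hr' : r ∈ ker (T1 (T : Subgroup G)) (Cfsg.wOf L1)) : x1 * (r * r) * x1⁻¹ = r * r := by
  have n := D.q.o.c1.node
  rcases D.r_cases hr hr' with e | e
  · calc x1 * (r * r) * x1⁻¹ = (x1 * r * x1⁻¹) * (x1 * r * x1⁻¹) := by group
      _ = _ := by rw [e]
  · have hrw : r * w1 * (r * w1) = r * r := by
      calc r * w1 * (r * w1) = r * (w1 * r) * w1 := by group
        _ = r * (r * w1) * w1 := by rw [n.w_central (mem_inf.1 hr).1]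
        _ = r * r * (w1 * w1) := by group
        _ = _ := by rw [n.W_sq n.wW, mul_one]
    calc x1 * (r * r) * x1⁻¹ = (x1 * (r * w1) * x1⁻¹) * (x1 * (r * w1) * x1⁻¹) := by rw [← hrw]; group
      _ = _ := by rw [e, hrw]

omit h in
theorem comm_fix {r g : G} (hr : r ∈ ker (T1 (T : Subgroup G)) (Cfsg.wOf K1))
    (hr' : r ∈ ker (T1 (T : Subgroup G)) (Cfsg.wOf L1)) (hg : g ∈ T1 (T : Subgroup G)) :
    x1 * (g * r * g⁻¹ * r⁻¹) * x1⁻¹ = g * r * g⁻¹ * r⁻¹ := by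
  have n := D.q.o.c1.node
  have key : ∀ g ∈ ker (T1 (T : Subgroup G)) (Cfsg.wOf K1),
      x1 * (g * r * g⁻¹ * r⁻¹) * x1⁻¹ = g * r * g⁻¹ * r⁻¹ := by
    intro g hg
    obtain ⟨e, he, hd⟩ := D.fixed hg
    set d := g * e
    have hdS : d ∈ T1 (T : Subgroup G) := mul_mem (mem_inf.1 hg).1 (n.WS he)
    have h1 : g * r * g⁻¹ = d * r * d⁻¹ := by
      calc g * r * g⁻¹ = d * (e⁻¹ * r * e⁻¹⁻¹) * d⁻¹ := by simp only [d]; group
        _ = _ := by rw [conj_eq_iff_comm.2 (n.Q_comm hr (inv_mem he)).symm]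
    have c1 : Commute x1 d := conj_eq_iff_comm.1 hd
    rw [h1]
    rcases D.r_cases hr hr' with e1 | e1
    · have c2 : Commute x1 r := conj_eq_iff_comm.1 e1
      exact conj_eq_iff_comm.2 (((c1.mul_right c2).mul_right c1.inv_right).mul_right c2.inv_right).eq
    · have c2 : Commute x1 (r * w1) := conj_eq_iff_comm.1 e1
      have h2 : d * (r * w1) * d⁻¹ * (r * w1)⁻¹ = d * r * d⁻¹ * r⁻¹ := by
        calc d * (r * w1) * d⁻¹ * (r * w1)⁻¹ = d * r * (w1 * d⁻¹ * w1⁻¹) * r⁻¹ := by group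
          _ = _ := by rw [conj_eq_iff_comm.2 (n.w_central (inv_mem hdS)).symm]
      rw [← h2]
      exact conj_eq_iff_comm.2 (((c1.mul_right c2).mul_right c1.inv_right).mul_right c2.inv_right).eq
  by_cases hgQ : g ∈ ker (T1 (T : Subgroup G)) (Cfsg.wOf K1)
  · exact key g hgQ
  · obtain ⟨u, hu, huS, hun, -, -⟩ := D.out
    have h1 := key _ (n.mul_mem_Q hg hgQ huS hun)
    rwa [show g * u * r * (g * u)⁻¹ = g * (u * r * u⁻¹) * g⁻¹ by group,
      conj_eq_iff_comm.2 (D.q.o'.c1.node.Q_comm hr' hu).symm] at h1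

omit h in
theorem core_le : Cfsg.pCoreOf 2 K1 ≤ Cfsg.wOf K1 := by
  have c := D.q.o.c1
  have n := c.node
  set S := T1 (T : Subgroup G)
  set W := Cfsg.wOf K1
  set M := W ⊔ zpowers x1
  have hQM : ker S W ≤ normalizer (M : Set G) := fun r hr => mem_normalizer_of_cj_le (by
    rw [show cj r M = cj r W ⊔ cj r (zpowers x1) from Subgroup.map_sup _ _ _,
      cj_eq_self (n.SW (mem_inf.1 hr).1), cj, MonoidHom.map_zpowers]
    refine sup_le le_sup_left (zpowers_le.2 ?_)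
    show r * x1 * r⁻¹ ∈ M
    rw [show r * x1 * r⁻¹ = (r * (x1 * r⁻¹ * x1⁻¹ * r⁻¹⁻¹) * r⁻¹) * x1 by group]
    exact mul_mem (mem_sup_left (conj_mem (n.SW (mem_inf.1 hr).1) (D.short (inv_mem hr))))
      (mem_sup_right (mem_zpowers x1)))
  have hKM : K1 ≤ M := by
    rw [← c.oddGen_eq]
    refine (closure_le _).2 fun k hk => mem_of_two_power_index (sup_le le_normalizer hQM)
      (relIndex_sup_two_pow (n.two.to_le inf_le_left) hQM) ?_ hk.2
    have h1 : K1 ≤ M ⊔ ker S W := by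
      conv_lhs => rw [c.gen]
      exact sup_le (c.core.trans le_sup_right) (zpowers_le.2 (mem_sup_left (mem_sup_right (mem_zpowers x1))))
    exact h1 hk.1
  intro o ho
  obtain ⟨d, hd', z, hz, rfl⟩ := (Cfsg.Lib.Coprime.mem_sup_of_le_normalizer
    (zpowers_le.2 n.xW : zpowers x1 ≤ normalizer (W : Set G))).1 (hKM (JComp.pCoreOf_le K1 ho))
  have hzS : z ∈ S := (Subgroup.mul_mem_cancel_left _ (n.WS hd')).1 (mem_inf.1 (c.core ho)).1
  rw [eq_one_of_odd n.two hzS (Odd.of_dvd_nat n.x_odd (orderOf_dvd_of_mem_zpowers hz)), mul_one]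
  exact hd'

omit h in
theorem K1_le_cent {r : G} (hr : r ∈ ker (T1 (T : Subgroup G)) (Cfsg.wOf K1)) (hx : x1 * r * x1⁻¹ = r) :
    K1 ≤ centralizer ({r} : Set G) := by
  conv_lhs => rw [D.q.o.c1.gen]
  refine sup_le (fun o ho => mem_centralizer_singleton_iff.2 (D.q.o.c1.node.Q_comm hr (D.core_le ho)).symm) ?_
  exact zpowers_le.2 (mem_centralizer_singleton_iff.2 (conj_eq_iff_comm.1 hx))

theorem commK {a b : G} (ha : a ∈ K1) (hb : b ∈ K2) : a * b = b * a := by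
  obtain ⟨L, hL, h1, h2⟩ := D.q.o.loc
  have hs := h.setting_of_comp hL D.q.o.c1.comp h1
  have hn21 : K2 ≤ normalizer (K1 : Set G) := hs.comps_le D.q.o.c1.comp h1 D.q.o.c2.comp h2
  have hn12 : K1 ≤ normalizer (K2 : Set G) := hs.comps_le D.q.o.c2.comp h2 D.q.o.c1.comp h1
  obtain ⟨hc, hinf, -, -⟩ := h.comp_pair hs D.q.o.c1.comp h1 D.q.o.c2.comp h2 D.q.hK
  obtain ⟨hc', -, -, -⟩ := h.comp_pair hs D.q.o.c2.comp h2 D.q.o.c1.comp h1 D.q.hK.symm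
  have m1 : a * b * a⁻¹ * b⁻¹ ∈ K1 := by
    rw [show a * b * a⁻¹ * b⁻¹ = a * (b * a⁻¹ * b⁻¹) by group]
    exact K1.mul_mem ha (conj_mem (hn21 hb) (inv_mem ha))
  have m2 : a * b * a⁻¹ * b⁻¹ ∈ K2 := K2.mul_mem (conj_mem (hn12 ha) hb) (inv_mem hb)
  have e := le_of_inf_bot hinf (D.core_le (D.q.o.c1.cent_core h m1 (hc m2)))
    (D.swap.core_le (D.q.o.c2.cent_core h m2 (hc' m1)))
  rw [mul_inv_eq_one, mul_inv_eq_iff_eq_mul] at e
  exact e

/-- Nothing in `T₁` centralizes all four components. -/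
theorem all_one {r : G} (hr : r ∈ T1 (T : Subgroup G)) (h1 : K1 ≤ centralizer ({r} : Set G))
    (h2 : K2 ≤ centralizer ({r} : Set G)) (h3 : L1 ≤ centralizer ({r} : Set G))
    (h4 : L2 ≤ centralizer ({r} : Set G)) : r = 1 := by
  have hconj : ∀ {K : Subgroup G} {s v : G}, v ∈ centralizer (K : Set G) →
      s * v * s⁻¹ ∈ centralizer (cj s K : Set G) := fun {K s v} hv => by
    refine mem_centralizer_iff.2 ?_
    rintro _ ⟨k, hk, rfl⟩
    show s * k * s⁻¹ * (s * v * s⁻¹) = s * v * s⁻¹ * (s * k * s⁻¹)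
    calc s * k * s⁻¹ * (s * v * s⁻¹) = s * (k * v) * s⁻¹ := by group
      _ = s * (v * k) * s⁻¹ := by rw [mem_centralizer_iff.1 hv k hk]
      _ = _ := by group
  have hsing : ∀ {K : Subgroup G} {v : G}, K ≤ centralizer ({v} : Set G) ↔ v ∈ centralizer (K : Set G) :=
    fun {K v} => ⟨fun hle => mem_centralizer_iff.2 fun k hk => mem_centralizer_singleton_iff.1 (hle hk),
      fun hv k hk => mem_centralizer_singleton_iff.2 (mem_centralizer_iff.1 hv k hk)⟩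
  have hb := D.q.no_common h (R := T1 (T : Subgroup G) ⊓
      ((centralizer (K1 : Set G) ⊓ centralizer (K2 : Set G)) ⊓ (centralizer (L1 : Set G) ⊓ centralizer (L2 : Set G))))
    (inf_le_left.trans h.T1_le)
    (le_normalizer_of_conj fun s hs v hv => by
      obtain ⟨hv0, ⟨a1, a2⟩, a3, a4⟩ := hv
      have t1 := hconj (s := s) a1
      have t2 := hconj (s := s) a2
      have t3 := hconj (s := s) a3
      have t4 := hconj (s := s) a4
      refine mem_inf.2 ⟨conj_mem (h.T_norm hs) hv0, mem_inf.2 ⟨?_, ?_⟩⟩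
      · rcases D.q.o.perm s hs with ⟨e1, e2⟩ | ⟨e1, e2⟩ <;> rw [e1] at t1 <;> rw [e2] at t2
        exacts [mem_inf.2 ⟨t1, t2⟩, mem_inf.2 ⟨t2, t1⟩]
      · rcases D.q.o'.perm s hs with ⟨e1, e2⟩ | ⟨e1, e2⟩ <;> rw [e1] at t3 <;> rw [e2] at t4
        exacts [mem_inf.2 ⟨t3, t4⟩, mem_inf.2 ⟨t4, t3⟩])
    fun v hv => ⟨hsing.2 hv.2.1.1, hsing.2 hv.2.2.1⟩
  exact mem_bot.1 (hb.le (mem_inf.2 ⟨hr, mem_inf.2
    ⟨mem_inf.2 ⟨hsing.1 h1, hsing.1 h2⟩, mem_inf.2 ⟨hsing.1 h3, hsing.1 h4⟩⟩⟩))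

omit h in
/-- The joint kernel. -/
abbrev R1 (_D : Diag (T : Subgroup G) K1 K2 L1 L2 x1 w1 x2 w2 y1 y2) : Subgroup G :=
  ker (T1 (T : Subgroup G)) (Cfsg.wOf K1) ⊓ ker (T1 (T : Subgroup G)) (Cfsg.wOf L1)

omit h in
/-- The group of the two four-groups. -/
abbrev G1 (_D : Diag (T : Subgroup G) K1 K2 L1 L2 x1 w1 x2 w2 y1 y2) : Subgroup G :=
  Cfsg.wOf K1 ⊔ Cfsg.wOf L1

omit h in
theorem G1_le : D.G1 ≤ T1 (T : Subgroup G) := sup_le D.q.o.c1.node.WS D.q.o'.c1.node.WS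

theorem G1_le_R2 : D.G1 ≤ D.swap.R1 := by
  refine sup_le (le_inf (le_inf D.q.o.c1.node.WS ?_) (le_inf D.q.o.c1.node.WS (commutes_symm D.c12)))
    (le_inf (le_inf D.q.o'.c1.node.WS D.c21) (le_inf D.q.o'.c1.node.WS ?_))
  · exact (D.q.o.c1.W_le_K).trans (D.q.o.cross h D.q.hK)
  · exact (D.q.o'.c1.W_le_K).trans (D.q.o'.cross h D.q.hL)

theorem RR_le {r : G} (hr : r ∈ D.R1) (hr2 : r ∈ D.swap.R1) : r ∈ Z0 (T : Subgroup G) := by
  obtain ⟨a1, b1⟩ := mem_inf.1 hr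
  obtain ⟨a2, b2⟩ := mem_inf.1 hr2
  have hrS := (mem_inf.1 a1).1
  have hone : ∀ c ∈ T1 (T : Subgroup G), c ∈ D.R1 → c ∈ D.swap.R1 → x1 * c * x1⁻¹ = c → x2 * c * x2⁻¹ = c →
      y1 * c * y1⁻¹ = c → y2 * c * y2⁻¹ = c → c = 1 := fun c hc c1 c2 f1 f2 f3 f4 =>
    D.all_one h hc (D.K1_le_cent (mem_inf.1 c1).1 f1) (D.swap.K1_le_cent (mem_inf.1 c2).1 f2)
      (D.flip.K1_le_cent (mem_inf.1 c1).2 f3) (D.flip.swap.K1_le_cent (mem_inf.1 c2).2 f4)
  have hsq : r * r = 1 := hone _ (mul_mem hrS hrS) (mul_mem hr hr) (mul_mem hr2 hr2) (D.sq_fix a1 b1)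
    (D.swap.sq_fix a2 b2) (D.flip.sq_fix b1 a1) (D.flip.swap.sq_fix b2 a2)
  refine maxE_absorb (h.T1_le hrS) hsq fun j hj => ?_
  have hjS := h.J_le_T1 hj
  have hn1 : T1 (T : Subgroup G) ≤ normalizer (D.R1 : Set G) :=
    Cfsg.Lib.Coprime.le_normalizer_inf D.q.o.c1.node.S_normQ D.q.o'.c1.node.S_normQ
  have hn2 : T1 (T : Subgroup G) ≤ normalizer (D.swap.R1 : Set G) :=
    Cfsg.Lib.Coprime.le_normalizer_inf D.q.o.c2.node.S_normQ D.q.o'.c2.node.S_normQ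
  have hc := hone _ (mul_mem (mul_mem (mul_mem hjS hrS) (inv_mem hjS)) (inv_mem hrS))
    (mul_mem (conj_mem (hn1 hjS) hr) (inv_mem hr)) (mul_mem (conj_mem (hn2 hjS) hr2) (inv_mem hr2))
    (D.comm_fix a1 b1 hjS) (D.swap.comm_fix a2 b2 hjS) (D.flip.comm_fix b1 a1 hjS)
    (D.flip.swap.comm_fix b2 a2 hjS)
  rw [mul_inv_eq_one, mul_inv_eq_iff_eq_mul] at hc
  exact hc

omit h in
theorem Z0_le_R1 : Z0 (T : Subgroup G) ≤ D.R1 := fun z hz =>
  mem_inf.2 ⟨mem_inf.2 ⟨Z0_le_T1 _ hz, mem_cent_iff.2 fun _ hv =>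
    conj_eq_iff_comm.2 (conj_eq_iff_comm.1 (mem_cent_iff.1 (D.q.o.c1.node.WS hv) z hz)).symm⟩,
    mem_inf.2 ⟨Z0_le_T1 _ hz, mem_cent_iff.2 fun _ hv =>
    conj_eq_iff_comm.2 (conj_eq_iff_comm.1 (mem_cent_iff.1 (D.q.o'.c1.node.WS hv) z hz)).symm⟩⟩

omit h in
theorem decomp1 {g : G} (hg : g ∈ T1 (T : Subgroup G)) : ∃ a ∈ D.G1, a⁻¹ * g ∈ D.R1 := by
  have n := D.q.o.c1.node
  have n' := D.q.o'.c1.node
  obtain ⟨u, hu, huS, hun, -, -⟩ := D.out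
  obtain ⟨p, hp, hpS, hpn, -, -⟩ := D.flip.out
  have hpQ := n.W_le_Q hp
  have key : ∀ g ∈ ker (T1 (T : Subgroup G)) (Cfsg.wOf K1), ∃ a ∈ D.G1, a⁻¹ * g ∈ D.R1 := by
    intro g hg
    by_cases hg' : g ∈ ker (T1 (T : Subgroup G)) (Cfsg.wOf L1)
    · exact ⟨1, one_mem _, by rw [inv_one, one_mul]; exact mem_inf.2 ⟨hg, hg'⟩⟩
    · exact ⟨p, mem_sup_left hp, mem_inf.2 ⟨mul_mem (inv_mem hpQ) hg,
        n'.mul_mem_Q (inv_mem hpS) (fun e => hpn (inv_mem_iff.1 e)) (mem_inf.1 hg).1 hg'⟩⟩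
  by_cases hgQ : g ∈ ker (T1 (T : Subgroup G)) (Cfsg.wOf K1)
  · exact key g hgQ
  · obtain ⟨a, ha, har⟩ := key _ (n.mul_mem_Q (inv_mem huS) (fun e => hun (inv_mem_iff.1 e)) hg hgQ)
    exact ⟨u * a, mul_mem (mem_sup_right hu) ha, by rw [mul_inv_rev, mul_assoc]; exact har⟩

theorem decomp {g : G} (hg : g ∈ T1 (T : Subgroup G)) :
    ∃ a1 ∈ D.G1, ∃ a2 ∈ D.swap.G1, ∃ r ∈ Z0 (T : Subgroup G), g = a1 * a2 * r := by
  obtain ⟨a1, ha1, hr1⟩ := D.decomp1 hg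
  obtain ⟨a2, ha2, hr2⟩ := D.swap.decomp1 (mem_inf.1 (mem_inf.1 hr1).1).1
  exact ⟨a1, ha1, a2, ha2, a2⁻¹ * (a1⁻¹ * g),
    D.RR_le h (mul_mem (inv_mem (D.swap.G1_le_R2 h ha2)) hr1) hr2, by group⟩

theorem commG {a b : G} (ha : a ∈ D.G1) (hb : b ∈ D.swap.G1) : a * b = b * a := by
  obtain ⟨hb1, hb2⟩ := mem_inf.1 (D.swap.G1_le_R2 h hb)
  have hle : D.G1 ≤ centralizer ({b} : Set G) := sup_le
    (fun v hv => mem_centralizer_singleton_iff.2 (D.q.o.c1.node.Q_comm hb1 hv).symm)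
    (fun v hv => mem_centralizer_singleton_iff.2 (D.q.o'.c1.node.Q_comm hb2 hv).symm)
  exact mem_centralizer_singleton_iff.1 (hle ha)

omit h in
theorem sq_G1 {g : G} (hg : g ∈ D.G1) : g * g = 1 ∨ g * g = w1 := by
  have n := D.q.o.c1.node
  obtain ⟨a, ha, b, hb, rfl⟩ := (Cfsg.Lib.Coprime.mem_sup_of_le_normalizer
    (D.q.o'.c1.node.WS.trans n.SW)).1 hg
  have e : a * b * (a * b) = a * (b * a * b⁻¹) := by
    calc a * b * (a * b) = a * (b * a * b⁻¹) * (b * b) := by group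
      _ = _ := by rw [D.q.o'.c1.node.W_sq hb, mul_one]
  rw [e]
  rcases n.comm_cases (D.q.o'.c1.node.WS hb) ha with f | f <;> rw [f]
  · exact Or.inl (n.W_sq ha)
  · exact Or.inr (by rw [← mul_assoc, n.W_sq ha, one_mul])

omit h in
/-- Every involution of `T₁` centralizes one of the four-groups. -/
theorem invol_side {v : G} (hv : v ∈ T1 (T : Subgroup G)) (hv2 : v * v = 1) :
    v ∈ ker (T1 (T : Subgroup G)) (Cfsg.wOf K1) ∨ v ∈ ker (T1 (T : Subgroup G)) (Cfsg.wOf L1) := by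
  by_contra hno
  push Not at hno
  have n := D.q.o.c1.node
  have n' := D.q.o'.c1.node
  obtain ⟨u, hu, huS, hun, -, -⟩ := D.out
  have huQ' := n'.W_le_Q hu
  have hvu := n.mul_mem_Q hv hno.1 huS hun
  obtain ⟨e, he, hd⟩ := D.fixed hvu
  set d := v * u * e
  have hdQ : d ∈ ker (T1 (T : Subgroup G)) (Cfsg.wOf K1) := mul_mem hvu (n.W_le_Q he)
  have hdQ' := D.fix_le hdQ hd
  have hen : e ∉ ker (T1 (T : Subgroup G)) (Cfsg.wOf L1) := fun h' => hno.2 (by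
    have := mul_mem (mul_mem hdQ' (inv_mem h')) (inv_mem huQ')
    simpa [d, mul_assoc] using this)
  have he1 : e ≠ 1 := fun e' => hen (e' ▸ one_mem _)
  have hew : e ≠ w1 := fun e' => hen (e' ▸ n'.W_le_Q n'.wW)
  have h1 : u * e * u⁻¹ = e * w1 := n.moves huS hun he he1 hew
  have hee := n.W_sq he
  have hu2 := n'.W_sq hu
  have hve : v = d * (e * u) := by
    calc v = d * (e⁻¹ * u⁻¹) := by simp only [d]; group
      _ = _ := by rw [elem_inv n.elem he, elem_inv n'.elem hu]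
  have hc : Commute d (e * u) :=
    (show Commute d e from n.Q_comm hdQ he).mul_right (n'.Q_comm hdQ' hu)
  have hdd : d * d * w1 = 1 := by
    have e1 : e * u * (e * u) = w1 := by
      calc e * u * (e * u) = e * (u * e * u⁻¹) * (u * u) := by group
        _ = _ := by rw [h1, hu2, mul_one, ← mul_assoc, hee, one_mul]
    calc d * d * w1 = d * d * (e * u * (e * u)) := by rw [e1]
      _ = d * (e * u) * (d * (e * u)) := by rw [hc.mul_mul_mul_comm]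
      _ = 1 := by rw [← hve, hv2]
  have c1 : Commute x1 d := conj_eq_iff_comm.1 hd
  have hw : w1 = (d * d)⁻¹ := eq_inv_of_mul_eq_one_right hdd
  refine n.move ?_
  rw [hw]
  exact conj_eq_iff_comm.2 ((c1.mul_right c1).inv_right).eq

omit h in
theorem into_R1 {v : G} (hv : v ∈ ker (T1 (T : Subgroup G)) (Cfsg.wOf K1)) (hv2 : v * v = 1) :
    ∃ b : G, b * v * b⁻¹ ∈ D.R1 := by
  have n := D.q.o.c1.node
  obtain ⟨e, he, hd⟩ := D.fixed hv
  set d := v * e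
  have hdQ : d ∈ ker (T1 (T : Subgroup G)) (Cfsg.wOf K1) := mul_mem hv (n.W_le_Q he)
  have hdR : d ∈ D.R1 := mem_inf.2 ⟨hdQ, D.fix_le hdQ hd⟩
  have hwR : w1 ∈ D.R1 := D.Z0_le_R1 D.q.o.c1.wZ
  have hve : v = d * e := by
    show v = v * e * e
    rw [mul_assoc, n.W_sq he, mul_one]
  set p := x1 * w1 * x1⁻¹ with hp
  have hxp : x1 * p * x1⁻¹ = w1 * p := by
    rcases n.cases (conj_mem n.xW n.p_mem) with h1 | h1 | h1 | h1
    · exact absurd (by calc p = x1⁻¹ * (x1 * p * x1⁻¹) * x1 := by group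
                          _ = 1 := by rw [h1]; group) n.p_ne_one
    · have h2 : Commute (x1 * x1) w1 := conj_eq_iff_comm.1 (by
        calc x1 * x1 * w1 * (x1 * x1)⁻¹ = x1 * p * x1⁻¹ := by rw [hp]; group
          _ = w1 := h1)
      have h3 := h2.mul_left h2
      rw [show x1 * x1 * (x1 * x1) = x1 ^ 3 * x1 by simp only [pow_succ, pow_zero, one_mul, mul_assoc],
        n.cube, one_mul] at h3
      exact absurd (conj_eq_iff_comm.2 h3.eq) n.move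
    · exact absurd (n.fix n.p_mem h1) n.p_ne_one
    · exact h1
  have fin : ∀ g : G, Commute g d → (g * e * g⁻¹ = 1 ∨ g * e * g⁻¹ = w1) → ∃ b : G, b * v * b⁻¹ ∈ D.R1 := by
    intro g hg hge
    refine ⟨g, ?_⟩
    rw [hve, show g * (d * e) * g⁻¹ = (g * d * g⁻¹) * (g * e * g⁻¹) by group, conj_eq_iff_comm.2 hg.eq]
    rcases hge with f | f <;> rw [f]
    exacts [by rwa [mul_one], mul_mem hdR hwR]
  have c1 : Commute x1 d := conj_eq_iff_comm.1 hd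
  rcases n.cases he with f | f | f | f
  · exact fin 1 (Commute.one_left d) (Or.inl (by rw [f]; group))
  · exact fin 1 (Commute.one_left d) (Or.inr (by rw [f]; group))
  · exact fin x1⁻¹ c1.inv_left (Or.inr (by rw [f]; group))
  · refine fin x1 c1 (Or.inr ?_)
    rw [f, show x1 * (w1 * p) * x1⁻¹ = (x1 * w1 * x1⁻¹) * (x1 * p * x1⁻¹) by group, hxp, ← hp,
      ← mul_assoc, elem_comm n.elem n.p_mem n.wW, mul_assoc, n.W_sq n.p_mem, mul_one]

theorem R1_index : D.R1.relIndex (T1 (T : Subgroup G)) = 4 := by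
  have n := D.q.o.c1.node
  have n' := D.q.o'.c1.node
  obtain ⟨p, hp, hpS, hpn, -, -⟩ := D.flip.out
  set A := ker (T1 (T : Subgroup G)) (Cfsg.wOf K1)
  set B := ker (T1 (T : Subgroup G)) (Cfsg.wOf L1)
  have h2 : B.relIndex A = 2 := by
    rw [relIndex, index_eq_two_iff_exists_notMem_and]
    refine ⟨⟨p, n.W_le_Q hp⟩, fun e => hpn (mem_subgroupOf.1 e), fun b => ?_⟩
    by_cases hb : (b : G) ∈ B
    · exact Or.inr (mem_subgroupOf.2 hb)
    · exact Or.inl (mem_subgroupOf.2 (n'.mul_mem_Q (mem_inf.1 b.2).1 hb hpS hpn))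
  rw [← relIndex_mul_relIndex D.R1 A (T1 (T : Subgroup G)) inf_le_left inf_le_left, n.index_two,
    show D.R1 = B ⊓ A from inf_comm _ _, inf_relIndex_right, h2]

theorem card_T1 : Nat.card ↥(T1 (T : Subgroup G)) = 16 * Nat.card ↥(Z0 (T : Subgroup G)) := by
  have hn1 : T1 (T : Subgroup G) ≤ normalizer (D.swap.R1 : Set G) :=
    Cfsg.Lib.Coprime.le_normalizer_inf D.q.o.c2.node.S_normQ D.q.o'.c2.node.S_normQ
  have hR1 : D.R1 ≤ T1 (T : Subgroup G) := inf_le_left.trans inf_le_left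
  have hR2 : D.swap.R1 ≤ T1 (T : Subgroup G) := inf_le_left.trans inf_le_left
  have hsup : D.swap.R1 ⊔ D.R1 = T1 (T : Subgroup G) := le_antisymm (sup_le hR2 hR1) fun g hg => by
    obtain ⟨a, ha, har⟩ := D.decomp1 hg
    rw [show g = a * (a⁻¹ * g) by group]
    exact mul_mem (mem_sup_left (D.G1_le_R2 h ha)) (mem_sup_right har)
  have h4 : D.swap.R1.relIndex D.R1 = 4 := by
    rw [← relIndex_sup_normalized (hR1.trans hn1), hsup]
    exact D.swap.R1_index h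
  have hZ : D.swap.R1 ⊓ D.R1 = Z0 (T : Subgroup G) :=
    le_antisymm (fun r hr => D.RR_le h hr.2 hr.1) (le_inf D.swap.Z0_le_R1 D.Z0_le_R1)
  rw [← card_mul_relIndex hR1, D.R1_index h, ← card_mul_relIndex (inf_le_right : D.swap.R1 ⊓ D.R1 ≤ D.R1),
    inf_relIndex_right, h4, hZ]
  ring

end Diag

end Cfsg.Lib.QTLf
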