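import Cfsg.Agent.QTKE.LfEmpty.Comps
import Cfsg.Agent.JComp.Orbit
import Cfsg.Agent.QTKE.Uniq.Main

/-!
Components of one member of `ℋ(T)`: they centralize each other's four-groups and there are at most two.
-/

set_option autoImplicit false
set_option linter.unusedSectionVars false
set_option linter.style.haveILetI false

namespace Cfsg.Lib.QTLf

open Subgroup Cfsg.Lib.JComp

universe u

variable {G : Type u} [Group G] [Finite G]

section Atoms

variable {T L : Subgroup G} {x a x' a' : G}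

theorem atom_le_of_eq (hs : Setting T L) (ha : Atom T L x a) (ha' : Atom T L x' a')
    (hCT : Cv L ≤ T) (h : dlR x' (Vm L) = dlR x (Vm L)) : Atom.Kx L x' ≤ Atom.Kx L x := by
  have hM := ha.mover hs
  have hM' := ha'.mover hs
  set W := dlR x (Vm L) with hWdef
  have hy := ha'.x_N0 hs
  have hfix : ∀ c ∈ Vm L, x * c * x⁻¹ = c → x' * c * x'⁻¹ = c := by
    intro c hc hxc
    have h1 : x * (x' * c * x'⁻¹) * x⁻¹ = x' * c * x'⁻¹ := by rw [← ha.comm_V hs hy ha'.x3 hc, hxc]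
    have h2 : x * dl x' c * x⁻¹ = dl x' c := by
      rw [dl]
      calc x * (x' * c * x'⁻¹ * c) * x⁻¹ = (x * (x' * c * x'⁻¹) * x⁻¹) * (x * c * x⁻¹) := by group
        _ = _ := by rw [h1, hxc]
    have h3 := hM.fix_eq_one (h.le (hM'.mem_dlR.2 ⟨c, hc, rfl⟩)) h2
    rw [dl] at h3
    rw [mul_eq_one_iff_eq_inv.1 h3, elem_inv hM.elem hc]
  obtain ⟨w, hw, hw1⟩ := ha.exists_ne hs
  have hwV := hM.dlR_le hw
  obtain ⟨i, hiw⟩ : ∃ i : ℕ, x' * w * x'⁻¹ = x ^ i * w * (x ^ i)⁻¹ := by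
    rcases ha.W_cases hs hw hw1 (h.le (hM'.conj_mem_dlR (h.ge hw))) with e | e | e | e
    · refine absurd ?_ hw1
      calc w = x'⁻¹ * (x' * w * x'⁻¹) * x' := by group
        _ = 1 := by rw [e]; group
    · exact absurd (hM'.fix_eq_one (h.ge hw) e) hw1
    · exact ⟨1, by rw [e, pow_one]⟩
    · exact ⟨2, by rw [e, pow_two]; group⟩
  have hc : (x ^ i)⁻¹ * x' ∈ Cv L := by
    refine (Setting.mem_Cv_iff (mul_mem (inv_mem (pow_mem ha.xL i)) ha'.xL)).2 fun v hv => ?_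
    suffices hev : x' * v * x'⁻¹ = x ^ i * v * (x ^ i)⁻¹ by
      calc (x ^ i)⁻¹ * x' * v * ((x ^ i)⁻¹ * x')⁻¹ = (x ^ i)⁻¹ * (x' * v * x'⁻¹) * x ^ i := by group
        _ = v := by rw [hev]; group
    obtain ⟨c, hc, r, hr, hxc, rfl⟩ := hM.split hv
    have hstep : ∀ u ∈ Vm L, x' * u * x'⁻¹ = x ^ i * u * (x ^ i)⁻¹ →
        x' * (x * u * x⁻¹) * x'⁻¹ = x ^ i * (x * u * x⁻¹) * (x ^ i)⁻¹ := by
      intro u hu he
      rw [ha.comm_V hs hy ha'.x3 hu, he,
        show x * (x ^ i * u * (x ^ i)⁻¹) * x⁻¹ = (x * x ^ i) * u * (x * x ^ i)⁻¹ by group,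
        ← pow_succ', pow_succ]
      group
    have hr' : x' * r * x'⁻¹ = x ^ i * r * (x ^ i)⁻¹ := by
      rcases ha.W_cases hs hw hw1 hr with e | e | e | e <;> rw [e]
      · group
      · exact hiw
      · exact hstep w hwV hiw
      · exact hstep _ (conj_mem hM.norm hwV) (hstep w hwV hiw)
    have hc' : x' * c * x'⁻¹ = x ^ i * c * (x ^ i)⁻¹ := by
      rw [hfix c hc hxc]
      exact (conj_eq_iff_comm.2 ((show Commute x c from conj_eq_iff_comm.1 hxc).pow_left i).eq).symm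
    calc x' * (c * r) * x'⁻¹ = (x' * c * x'⁻¹) * (x' * r * x'⁻¹) := by group
      _ = _ := by rw [hc', hr']; group
  have hxX : x' ∈ Atom.X0 L x := by
    rw [show x' = x ^ i * ((x ^ i)⁻¹ * x') by group]
    exact mul_mem (pow_mem (mem_sup_right (mem_zpowers x)) i)
      (mem_sup_left (hs.two_le_P (hs.syl.2.1.to_le hCT) le_rfl hc))
  exact oddGen_mono (sup_le le_sup_left (zpowers_le.2 hxX))

end Atoms

variable {T : Sylow 2 G} (h : Hyps T)

include h

theorem Hyps.comp_pair {L K K' : Subgroup G} (hs : Setting (T : Subgroup G) L)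
    (hK : Cfsg.IsJComponent (T : Subgroup G) K) (hKL : K ≤ L) (hK' : Cfsg.IsJComponent (T : Subgroup G) K')
    (hKL' : K' ≤ L) (hne : K ≠ K') :
    K' ≤ centralizer (Cfsg.wOf K : Set G) ∧ Cfsg.wOf K ⊓ Cfsg.wOf K' = ⊥ ∧
      Cfsg.wOf K' ≤ centralizer (Cfsg.wOf K : Set G) ∧
      ker (T1 (T : Subgroup G)) (Cfsg.wOf K) ≠ ker (T1 (T : Subgroup G)) (Cfsg.wOf K') := by
  obtain ⟨x, a, ha, hKx, hW⟩ := hs.classify hK hKL
  obtain ⟨x', a', ha', hKx', hW'⟩ := hs.classify hK' hKL'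
  rw [hW, hW']
  have hM := ha.mover hs
  have hM' := ha'.mover hs
  set W := dlR x (Vm L)
  set W' := dlR x' (Vm L)
  have hinf : W ⊓ W' = ⊥ := by
    by_contra hno
    obtain ⟨v, hv, hv1⟩ := (bot_or_exists_ne_one (W ⊓ W')).resolve_left hno
    have e : W ⊓ W' = W := hM.irred ha.card inf_le_left (fun u hu => mem_inf.2
      ⟨hM.conj_mem_dlR (mem_inf.1 hu).1, ha'.N0_stab hs (ha.x_N0 hs) u (mem_inf.1 hu).2⟩) hv hv1
    have e' : W = W' := eq_of_le_of_card_ge (e.ge.trans inf_le_right)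
      ((ha'.card_eq hs).le.trans (ha.card_eq hs).ge)
    refine hne ?_
    rw [hKx, hKx']
    exact le_antisymm (atom_le_of_eq hs ha' ha (h.Cv_le hs) e') (atom_le_of_eq hs ha ha' (h.Cv_le hs) e'.symm)
  have hx' : x' ∈ centralizer (W : Set G) := mem_cent_iff.2 fun v hv => by
    have h1 : dl x' v = 1 := le_of_inf_bot hinf (mul_mem (ha.N0_stab hs (ha'.x_N0 hs) v hv) hv)
      (hM'.mem_dlR.2 ⟨v, hM.dlR_le hv, rfl⟩)
    rw [dl, mul_eq_one_iff_eq_inv, elem_inv hM.elem (hM.dlR_le hv)] at h1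
    exact h1
  have hKc : K' ≤ centralizer (W : Set G) := by
    rw [((tri_of_comp hK').gen3 (hKx' ▸ ha'.x_mem_Kx) ha'.order).2]
    refine sup_le (fun o ho => mem_cent_iff.2 fun v hv => ?_) (zpowers_le.2 hx')
    refine Atom.C_V hs (hs.P_le_C ?_) (hM.dlR_le hv)
    rw [hKx', (ha'.tri hs).1] at ho
    exact (mem_inf.1 ho).2
  have ha'W : a' ∈ centralizer (W : Set G) := mem_cent_iff.2 fun v hv => by
    have h1 : a' * v * a' * v = 1 := le_of_inf_bot hinf
      (mul_mem (by have := ha.N0_stab hs (ha'.a_N0 hs) v hv; rwa [ha'.a_inv] at this) hv)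
      (ha'.brk v (hM.dlR_le hv))
    rw [ha'.a_inv, mul_eq_one_iff_eq_inv.1 h1, elem_inv hM.elem (hM.dlR_le hv)]
  have ha'W' : a' ∉ centralizer (W' : Set G) := fun hc => by
    obtain ⟨w, hw, hw1⟩ := ha'.exists_ne hs
    have e1 := mem_cent_iff.1 hc _ (hM'.conj_mem_dlR hw)
    have e2 := mem_cent_iff.1 hc w hw
    have e3 : x'⁻¹ * w * x' = x' * w * x'⁻¹ := by
      calc x'⁻¹ * w * x' = (a' * x' * a') * (a' * w * a'⁻¹) * (a' * x' * a')⁻¹ := by rw [e2, ha'.ax, inv_inv]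
        _ = a' * (x' * ((a' * a') * w * (a' * a')⁻¹) * x'⁻¹) * a'⁻¹ := by group
        _ = _ := by rw [ha'.a2, one_mul, inv_one, mul_one, e1]
    refine hw1 (hM'.fix_eq_one hw ?_)
    have e4 : x' * (x' * w * x'⁻¹) * x'⁻¹ = w := by rw [← e3]; group
    calc x' * w * x'⁻¹ = x' * (x' * (x' * w * x'⁻¹) * x'⁻¹) * x'⁻¹ := by rw [e4]
      _ = w := hM'.conj3 w
  refine ⟨hKc, hinf, fun v hv => ?_, fun e => ha'W' ?_⟩
  · exact mem_cent_iff.2 fun u hu => conj_eq_iff_comm.2 (elem_comm hM.elem (hM'.dlR_le hv) (hM.dlR_le hu))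
  · exact (mem_inf.1 (e.le (mem_inf.2 ⟨h.J_le_T1 ha'.aJ, ha'W⟩))).2

theorem Hyps.same_dir {L K K' : Subgroup G} {x w x' w' : G} (hs : Setting (T : Subgroup G) L)
    (c : CN (T : Subgroup G) K x w) (c' : CN (T : Subgroup G) K' x' w') (hKL : K ≤ L) (hKL' : K' ≤ L)
    (hne : K ≠ K') :
    x ∈ centralizer (Cfsg.wOf K' : Set G) ∧ Cfsg.wOf K' ≤ centralizer (Cfsg.wOf K : Set G) ∧
      ker (T1 (T : Subgroup G)) (Cfsg.wOf K) ≠ ker (T1 (T : Subgroup G)) (Cfsg.wOf K') ∧ w ≠ w' ∧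
      Dir (T1 (T : Subgroup G)) x (Cfsg.wOf K) (Cfsg.wOf K') := by
  obtain ⟨hc, hinf, hcW, hQ⟩ := h.comp_pair hs c.comp hKL c'.comp hKL' hne
  obtain ⟨hc', -, -, -⟩ := h.comp_pair hs c'.comp hKL' c.comp hKL hne.symm
  have ht : Toward x (Cfsg.wOf K) (Cfsg.wOf K') := fun v hv => by
    rw [mem_cent_iff.1 (hc' c.xK) v hv, c'.node.W_sq hv]
    exact one_mem _
  exact ⟨hc' c.xK, hcW, hQ, toward_ne c.node c'.node hcW hQ ht, toward_dir c.node c'.node hcW hQ ht⟩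

/-- At most two components in one member of `ℋ(T)`. -/
theorem Hyps.two_comps {L : Subgroup G} (hL : L ∈ Cfsg.calHOver (T : Subgroup G))
    (hs : Setting (T : Subgroup G) L) (K : Fin 3 → Subgroup G)
    (hK : ∀ i, Cfsg.IsJComponent (T : Subgroup G) (K i)) (hKL : ∀ i, K i ≤ L) (hinj : Function.Injective K) :
    False := by
  classical
  haveI : Fact (Nat.Prime 3) := ⟨Nat.prime_three⟩
  have hcn := fun i => h.exists_CN ⟨L, hs, hK i, hKL i, hL⟩
  choose x w c using hcn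
  have hcent : ∀ i j, i ≠ j → K j ≤ centralizer (Cfsg.wOf (K i) : Set G) := fun i j hij =>
    (h.comp_pair hs (hK i) (hKL i) (hK j) (hKL j) fun e => hij (hinj e)).1
  have hnorm : ∀ i j, K j ≤ normalizer (K i : Set G) := fun i j => hs.comps_le (hK i) (hKL i) (hK j) (hKL j)
  set Y := K 0 ⊔ K 1 ⊔ K 2 with hY
  have hKY : ∀ i, K i ≤ Y := by
    intro i; fin_cases i
    exacts [le_sup_left.trans le_sup_left, le_sup_right.trans le_sup_left, le_sup_right]
  have hYL : Y ≤ L := sup_le (sup_le (hKL 0) (hKL 1)) (hKL 2)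
  have hYn : ∀ i, Y ≤ normalizer (Cfsg.wOf (K i) : Set G) := fun i =>
    (sup_le (sup_le (hnorm i 0) (hnorm i 1)) (hnorm i 2)).trans (normalizer_le_wOf _)
  let ρ : ∀ i, ↥Y →* MulAut (Cfsg.wOf (K i)) := fun i =>
    (normalizerMonoidHom (Cfsg.wOf (K i))).comp (inclusion (hYn i))
  have hρ1 : ∀ i (y : ↥Y), ρ i y = 1 ↔ (y : G) ∈ centralizer (Cfsg.wOf (K i) : Set G) := fun i y => by
    rw [mem_cent_iff]
    refine ⟨fun he v hv => ?_, fun he => ?_⟩
    · have := congrArg Subtype.val (DFunLike.congr_fun he ⟨v, hv⟩)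
      simpa [ρ, MulAut.one_apply] using this
    exact MulEquiv.ext fun v => Subtype.ext (by simpa [ρ, MulAut.one_apply] using he v v.2)
  let π : ↥Y →* MulAut (Cfsg.wOf (K 0)) × MulAut (Cfsg.wOf (K 1)) × MulAut (Cfsg.wOf (K 2)) :=
    (ρ 0).prod ((ρ 1).prod (ρ 2))
  haveI : ∀ i, Finite (MulAut (Cfsg.wOf (K i))) := fun i =>
    Finite.of_injective (fun e => (e : Cfsg.wOf (K i) → Cfsg.wOf (K i))) DFunLike.coe_injective
  set E : ∀ i, MulAut (Cfsg.wOf (K i)) := fun i => ρ i ⟨x i, hKY i (c i).xK⟩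
  set D := (zpowers (E 0)).prod ((zpowers (E 1)).prod (zpowers (E 2)))
  have hEK : ∀ i j (y : ↥Y), (y : G) ∈ K j → ρ i y ∈ zpowers (E i) := by
    intro i j y hy
    by_cases hij : i = j
    · subst hij
      obtain ⟨o, ho, k, -, e⟩ := (tri_of_comp (hK i)).mem_cases (c i).xK (c i).node.order hy
      have hy' : y = ⟨o, hKY i (JComp.pCoreOf_le _ ho)⟩ * ⟨x i, hKY i (c i).xK⟩ ^ k :=
        Subtype.ext (by rw [e]; rfl)
      rw [hy', map_mul, map_pow, (hρ1 i _).2 (mem_inf.1 ((c i).core ho)).2, one_mul]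
      exact pow_mem (mem_zpowers _) k
    · rw [(hρ1 i y).2 (hcent i j hij hy)]
      exact one_mem _
  have hrange : π.range = D := by
    refine le_antisymm ?_ ?_
    · have hcl : (K 0).subgroupOf Y ⊔ (K 1).subgroupOf Y ⊔ (K 2).subgroupOf Y = ⊤ := by
        rw [← subgroupOf_sup (hKY 0) (hKY 1), ← subgroupOf_sup (sup_le (hKY 0) (hKY 1)) (hKY 2), subgroupOf_self]
      rw [MonoidHom.range_eq_map, ← hcl, Subgroup.map_le_iff_le_comap]
      refine sup_le (sup_le ?_ ?_) ?_ <;> intro y hy <;>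
        exact ⟨hEK 0 _ y (mem_subgroupOf.1 hy), hEK 1 _ y (mem_subgroupOf.1 hy), hEK 2 _ y (mem_subgroupOf.1 hy)⟩
    · have hx1 : ∀ i j, i ≠ j → ρ i ⟨x j, hKY j (c j).xK⟩ = 1 := fun i j hij =>
        (hρ1 i _).2 (hcent i j hij (c j).xK)
      rintro ⟨p, q, r⟩ ⟨hp, hq, hr⟩
      obtain ⟨k0, rfl⟩ := mem_zpowers_iff.1 hp
      obtain ⟨k1, rfl⟩ := mem_zpowers_iff.1 hq
      obtain ⟨k2, rfl⟩ := mem_zpowers_iff.1 hr
      refine ⟨(⟨x 0, hKY 0 (c 0).xK⟩ : ↥Y) ^ k0 * ⟨x 1, hKY 1 (c 1).xK⟩ ^ k1 * ⟨x 2, hKY 2 (c 2).xK⟩ ^ k2, ?_⟩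
      simp only [π, MonoidHom.prod_apply, map_mul, map_zpow]
      rw [hx1 0 1 (by decide), hx1 0 2 (by decide), hx1 1 0 (by decide), hx1 1 2 (by decide),
        hx1 2 0 (by decide), hx1 2 1 (by decide)]
      simp [E]
  have hE3 : ∀ i, E i ^ 3 = 1 := fun i => by
    rw [← map_pow, show (⟨x i, hKY i (c i).xK⟩ : ↥Y) ^ 3 = 1 from Subtype.ext (c i).node.cube, map_one]
  have hEo : ∀ i, orderOf (E i) = 3 := fun i => orderOf_eq_prime (hE3 i) fun e =>
    (c i).node.move (mem_cent_iff.1 ((hρ1 i _).1 e) _ (c i).node.wW)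
  have hDc : Nat.card D = 27 := by
    rw [Nat.card_congr (Subgroup.prodEquiv _ _).toEquiv, Nat.card_prod,
      Nat.card_congr (Subgroup.prodEquiv _ _).toEquiv, Nat.card_prod]
    simp only [Nat.card_zpowers, hEo]
  -- the kernel is a 2-group
  have hker : IsPGroup 2 π.ker := by
    refine ((isPGroup_pCoreOf L).comap_of_injective Y.subtype Y.subtype_injective).to_le fun y hy => ?_
    have hy' : ∀ i, ρ i y = 1 := by
      have hp : π y = 1 := hy
      intro i; fin_cases i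
      exacts [congrArg Prod.fst hp, congrArg (fun p => p.2.1) hp, congrArg (fun p => p.2.2) hp]
    have hn01 : K 2 ≤ normalizer ((K 0 ⊔ K 1 : Subgroup G) : Set G) := fun g hg => mem_normalizer_of_cj (by
      rw [show cj g (K 0 ⊔ K 1) = cj g (K 0) ⊔ cj g (K 1) from Subgroup.map_sup _ _ _,
        cj_eq_self (hnorm 0 2 hg), cj_eq_self (hnorm 1 2 hg)])
    obtain ⟨g, hg, k2, hk2, e⟩ := (Cfsg.Lib.Coprime.mem_sup_of_le_normalizer hn01).1 y.2
    obtain ⟨k0, hk0, k1, hk1, rfl⟩ := (Cfsg.Lib.Coprime.mem_sup_of_le_normalizer (hnorm 0 1)).1 hg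
    have hkk : ∀ i, ∀ g ∈ K i, g ∈ centralizer (Cfsg.wOf (K i) : Set G) → g ∈ Pc L := by
      intro i g hg hgc
      obtain ⟨o, ho, k, hk, rfl⟩ := (tri_of_comp (hK i)).mem_cases (c i).xK (c i).node.order hg
      have hoc := (mem_inf.1 ((c i).core ho)).2
      interval_cases k
      · obtain ⟨x0, a0, ha0, hKx0, -⟩ := hs.classify (hK i) (hKL i)
        rw [pow_zero, mul_one]
        rw [hKx0, (ha0.tri hs).1] at ho
        exact (mem_inf.1 ho).2
      · rw [pow_one] at hgc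
        exact absurd (mem_cent_iff.1 ((Subgroup.mul_mem_cancel_left _ hoc).1 hgc) _ (c i).node.wW) (c i).node.move
      · have h1 := (Subgroup.mul_mem_cancel_left _ hoc).1 hgc
        have h2 := mul_mem h1 h1
        rw [← pow_add, show 2 + 2 = 3 + 1 from rfl, pow_add, (c i).node.cube, one_mul, pow_one] at h2
        exact absurd (mem_cent_iff.1 h2 _ (c i).node.wW) (c i).node.move
    have hyc : ∀ i, k0 * k1 * k2 ∈ centralizer (Cfsg.wOf (K i) : Set G) := fun i => e ▸ (hρ1 i y).1 (hy' i)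
    show (y : G) ∈ Pc L
    rw [← e]
    refine mul_mem (mul_mem (hkk 0 k0 hk0 ?_) (hkk 1 k1 hk1 ?_)) (hkk 2 k2 hk2 ?_)
    · exact (Subgroup.mul_mem_cancel_right _ (hcent 0 1 (by decide) hk1)).1
        ((Subgroup.mul_mem_cancel_right _ (hcent 0 2 (by decide) hk2)).1 (hyc 0))
    · exact (Subgroup.mul_mem_cancel_left _ (hcent 1 0 (by decide) hk0)).1
        ((Subgroup.mul_mem_cancel_right _ (hcent 1 2 (by decide) hk2)).1 (hyc 1))
    · exact (Subgroup.mul_mem_cancel_left _ (mul_mem (hcent 2 0 (by decide) hk0) (hcent 2 1 (by decide) hk1))).1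
        (hyc 2)
  -- an elementary abelian group of order 27
  obtain ⟨P⟩ : Nonempty (Sylow 3 ↥Y) := inferInstance
  let f : ↥(P : Subgroup ↥Y) →* _ := π.comp (P : Subgroup ↥Y).subtype
  have hf : Function.Injective f := by
    refine (injective_iff_map_eq_one f).2 fun y hy => Subtype.ext ?_
    obtain ⟨a, ha⟩ := P.2 y
    obtain ⟨b, hb⟩ := hker ⟨(y : ↥Y), hy⟩
    have ha' : (y : ↥Y) ^ 3 ^ a = 1 := congrArg Subtype.val ha
    have hb' : (y : ↥Y) ^ 2 ^ b = 1 := congrArg Subtype.val hb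
    have h5 := pow_gcd_eq_one.2 ⟨ha', hb'⟩
    rwa [show Nat.gcd (3 ^ a) (2 ^ b) = 1 from Nat.Coprime.pow a b (by decide), pow_one] at h5
  have hD3 : ∀ d ∈ D, d ^ 3 = 1 := by
    have hz : ∀ i, ∀ d ∈ zpowers (E i), d ^ 3 = 1 := fun i d hd => by
      obtain ⟨k, rfl⟩ := mem_zpowers_iff.1 hd
      rw [← zpow_natCast, ← zpow_mul, mul_comm, zpow_mul, zpow_natCast, hE3 i, one_zpow]
    rintro ⟨p, q, r⟩ ⟨hp, hq, hr⟩
    exact Prod.ext (hz 0 p hp) (Prod.ext (hz 1 q hq) (hz 2 r hr))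
  have hDcomm : ∀ d ∈ D, ∀ d' ∈ D, d * d' = d' * d := by
    have hz : ∀ i, ∀ d ∈ zpowers (E i), ∀ d' ∈ zpowers (E i), d * d' = d' * d := fun i d hd d' hd' => by
      obtain ⟨k, rfl⟩ := mem_zpowers_iff.1 hd
      obtain ⟨k', rfl⟩ := mem_zpowers_iff.1 hd'
      exact ((Commute.refl (E i)).zpow_zpow k k').eq
    rintro ⟨p, q, r⟩ ⟨hp, hq, hr⟩ ⟨p', q', r'⟩ ⟨hp', hq', hr'⟩
    exact Prod.ext (hz 0 p hp p' hp') (Prod.ext (hz 1 q hq q' hq') (hz 2 r hr r' hr'))
  have hfD : ∀ y, f y ∈ D := fun y => hrange ▸ ⟨_, rfl⟩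
  have hfc : f.range = D := by
    have hle : f.range ≤ π.range := by rintro _ ⟨y, rfl⟩; exact ⟨_, rfl⟩
    have hco : Nat.Coprime 3 ((P : Subgroup ↥Y).map π.rangeRestrict).index :=
      (Nat.prime_three.coprime_iff_not_dvd).2
        (P.mapSurjective π.rangeRestrict_surjective).not_dvd_index
    have h27 : Nat.card π.range = 3 ^ 3 := by rw [hrange, hDc]; norm_num
    have htop : (P : Subgroup ↥Y).map π.rangeRestrict = ⊤ := index_eq_one.1
      (Nat.eq_one_of_dvd_coprimes (hco.pow_left 3) (h27 ▸ index_dvd_card _) dvd_rfl)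
    rw [← hrange]
    refine le_antisymm hle fun d hd => ?_
    obtain ⟨y, hy, he⟩ := htop.ge (mem_top (⟨d, hd⟩ : π.range))
    exact ⟨⟨y, hy⟩, congrArg Subtype.val he⟩
  let g : ↥(P : Subgroup ↥Y) →* ↥L := (inclusion hYL).comp (P : Subgroup ↥Y).subtype
  have hg : Function.Injective g := (inclusion_injective hYL).comp (P : Subgroup ↥Y).subtype_injective
  have hN : Cfsg.IsTwoLocal (normalizer (Pc L : Set G)) :=
    ⟨_, isPGroup_pCoreOf L, QTCentZ.core_ne_bot hL.1, rfl⟩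
  have hr := Cfsg.Lib.OddP.pRankLE_of_injective (inclusion (le_normalizer_pCoreOf L)) (inclusion_injective _)
    (h.hQ.1 3 Nat.prime_three (by norm_num) _ hN) g.range
    ⟨⟨by
      rintro ⟨_, y, rfl⟩ ⟨_, y', rfl⟩
      refine Subtype.ext ?_
      show g y * g y' = g y' * g y
      rw [← map_mul, ← map_mul]
      exact congrArg g (hf (by rw [map_mul, map_mul]; exact hDcomm _ (hfD y) _ (hfD y')))⟩⟩
    (by
      rintro _ ⟨y, rfl⟩
      rw [← map_pow, show y ^ 3 = 1 from hf (by rw [map_pow, map_one]; exact hD3 _ (hfD y)), map_one])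
  rw [← Nat.card_congr (MonoidHom.ofInjective hg).toEquiv, Nat.card_congr (MonoidHom.ofInjective hf).toEquiv,
    hfc, hDc] at hr
  norm_num at hr

theorem Hyps.conj_IsK {L K : Subgroup G} (hs : Setting (T : Subgroup G) L)
    (hK : Cfsg.IsJComponent (T : Subgroup G) K) (hKL : K ≤ L) {t : G} (htL : t ∈ L)
    (ht : t ∈ normalizer (Jof (T : Subgroup G) : Set G)) :
    Cfsg.IsJComponent (T : Subgroup G) (cj t K) ∧ cj t K ≤ L := by
  refine ⟨comp_congr ?_ (comp_cj hK t), ?_⟩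
  · rw [jof_cj, cj_eq_self ht]
  · rintro _ ⟨k, hk, rfl⟩
    exact L.mul_mem (L.mul_mem htL (hKL hk)) (inv_mem htL)

theorem Hyps.comps_two {L K K' K'' : Subgroup G} (hL : L ∈ Cfsg.calHOver (T : Subgroup G))
    (hs : Setting (T : Subgroup G) L) (hK : Cfsg.IsJComponent (T : Subgroup G) K) (hKL : K ≤ L)
    (hK' : Cfsg.IsJComponent (T : Subgroup G) K') (hKL' : K' ≤ L)
    (hK'' : Cfsg.IsJComponent (T : Subgroup G) K'') (hKL'' : K'' ≤ L) (hne : K ≠ K') : K'' = K ∨ K'' = K' := by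
  by_contra hno
  push Not at hno
  refine h.two_comps hL hs ![K, K', K''] ?_ ?_ ?_
  · intro i; fin_cases i <;> assumption
  · intro i; fin_cases i <;> assumption
  · intro i j hij
    fin_cases i <;> fin_cases j <;> simp_all

/-- A subgroup with the normalizer part and all components contains the member. -/
theorem Hyps.le_of {H M : Subgroup G} (hH : H ∈ Cfsg.calHOver (T : Subgroup G))
    (hNJ : H ⊓ normalizer (Jof (T : Subgroup G) : Set G) ≤ M)
    (hc : ∀ K, Cfsg.IsJComponent (T : Subgroup G) K → K ≤ H → IsK (T : Subgroup G) K → K ≤ M) : H ≤ M := by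
  by_cases hJ : Jof (T : Subgroup G) ≤ Pc H
  · exact (le_inf le_rfl (h.le_NJ hH hJ)).trans hNJ
  have hs := h.setting hH hJ
  refine hs.le_of_comps hNJ fun x a ha => ?_
  have hk : Atom.Kx H x ≤ H := (oddGen_le _).trans ha.X0_le
  exact hc _ (ha.isComp hs) hk ⟨H, hs, ha.isComp hs, hk, hH⟩

theorem Hyps.setting_of_comp {H K : Subgroup G} (hH : H ∈ Cfsg.calHOver (T : Subgroup G))
    (hK : Cfsg.IsJComponent (T : Subgroup G) K) (hKH : K ≤ H) : Setting (T : Subgroup G) H :=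
  h.setting hH fun hJ => comp_not_le_nJ T.2 hK (hKH.trans (h.le_NJ hH hJ))

end Cfsg.Lib.QTLf
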