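import Cfsg.Agent.QTKE.LfEmpty.Transfer
import Cfsg.Agent.QTKE.CentZ.Main

/-!
An involution with dihedral centralizer.
-/

set_option autoImplicit false
set_option linter.unusedSectionVars false
set_option linter.style.haveILetI false

namespace Cfsg.Lib.QTLf

open Subgroup Cfsg.Lib.JComp

universe u

variable {G : Type u} [Group G] [Finite G] [IsSimpleGroup G]

theorem hyps_of (hG : ¬ IsMulCommutative G) (hQ : Cfsg.IsQTKE G) (T : Sylow 2 G)
    (hE : Cfsg.calLf (T : Subgroup G) = ∅) {M₁ M₂ : Subgroup G}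
    (h₁ : M₁ ∈ Cfsg.maxTwoLocalsContaining (centralizer (Cfsg.omegaCenterOf (T : Subgroup G) : Set G)))
    (h₂ : M₂ ∈ Cfsg.maxTwoLocalsContaining (centralizer (Cfsg.omegaCenterOf (T : Subgroup G) : Set G)))
    (hne : M₁ ≠ M₂) : Hyps T ∧ (T : Subgroup G) ≠ ⊥ := by
  have hL := QTCentZ.calL_empty hG hQ T hE h₁ h₂ hne
  have c : QTCentZ.Ctx T := ⟨hQ, hL, M₁, M₂, h₁, h₂, hne⟩
  have hover : ∀ {M : Subgroup G},
      M ∈ Cfsg.maxTwoLocalsContaining (centralizer (Cfsg.omegaCenterOf (T : Subgroup G) : Set G)) →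
      M ∈ Cfsg.calHOver (T : Subgroup G) := fun hM => c.over hM
  refine ⟨⟨hQ, c.cent_eq hG, fun H hH => QTCentZ.solvable_over T hL hH, fun M hM hall => ?_⟩, fun e => ?_⟩
  · have hN : Cfsg.IsTwoLocal (normalizer (Pc M : Set G)) :=
      ⟨_, isPGroup_pCoreOf M, QTCentZ.core_ne_bot hM.1, rfl⟩
    have key : ∀ {M' : Subgroup G},
        M' ∈ Cfsg.maxTwoLocalsContaining (centralizer (Cfsg.omegaCenterOf (T : Subgroup G) : Set G)) →
        normalizer (Pc M : Set G) = M' :=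
      fun hM' => hM'.1.2 _ hN ((hall _ (hover hM')).trans (le_normalizer_pCoreOf M))
    exact hne ((key h₁).symm.trans (key h₂))
  · exact QTCentZ.core_ne_bot (hover h₁).1 (le_bot_iff.1 (e ▸ QTCentZ.core_le T (hover h₁).2))

theorem exists_dihedral {T : Sylow 2 G} (h : Hyps T) (hT : (T : Subgroup G) ≠ ⊥) :
    ∃ t : G, orderOf t = 2 ∧ Nonempty (↥(centralizer ({t} : Set G)) ≃* DihedralGroup 4) := by
  by_cases hs : ∃ K, IsK (T : Subgroup G) K ∧ (T : Subgroup G) ≤ normalizer (K : Set G)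
  · obtain ⟨K, hK, hn⟩ := hs
    exact h.singles hK hn
  push Not at hs
  obtain ⟨K1, K2, L1, L2, x1, w1, x2, w2, y1, v1, y2, v2, q⟩ := h.exists_quad hT hs
  obtain ⟨A1, A2, B1, B2, a1, u1, a2, u2, b1, b2, D⟩ := h.exists_diag_of hs q
  exact (D.false_of h).elim

end Cfsg.Lib.QTLf
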