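import Cfsg.Agent.JComp.CenterCases

/-!
A node: a 2-group `S`, an element `x` of order 3 and a four-group `W` moved by both, as given by a
`J`-component; elementary consequences.
-/

set_option autoImplicit false
set_option linter.unusedSectionVars false
set_option linter.style.haveILetI false

namespace Cfsg.Lib.QTLf

open Subgroup Cfsg.Lib.JComp

universe u

variable {G : Type u} [Group G]

theorem conj_eq_iff_comm {g v : G} : g * v * g⁻¹ = v ↔ g * v = v * g := mul_inv_eq_iff_eq_mul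

theorem mem_cent_iff {g : G} {W : Subgroup G} :
    g ∈ centralizer (W : Set G) ↔ ∀ v ∈ W, g * v * g⁻¹ = v := by
  rw [mem_centralizer_iff]
  exact ⟨fun h v hv => conj_eq_iff_comm.2 (h v hv).symm, fun h v hv => (conj_eq_iff_comm.1 (h v hv)).symm⟩

theorem mem_cent_conj {g h : G} {W : Subgroup G} (hg : g ∈ normalizer (W : Set G))
    (hh : h ∈ centralizer (W : Set G)) : g * h * g⁻¹ ∈ centralizer (W : Set G) := by
  refine mem_cent_iff.2 fun v hv => ?_
  calc g * h * g⁻¹ * v * (g * h * g⁻¹)⁻¹ = g * (h * (g⁻¹ * v * g⁻¹⁻¹) * h⁻¹) * g⁻¹ := by group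
    _ = g * (g⁻¹ * v * g⁻¹⁻¹) * g⁻¹ := by rw [mem_cent_iff.1 hh _ (conj_mem (inv_mem hg) hv)]
    _ = v := by group

/-- The part of `S` centralizing `W`. -/
abbrev ker (S W : Subgroup G) : Subgroup G := S ⊓ centralizer (W : Set G)

/-- The elements normalizing `M` and `W` and centralizing `M` modulo `W`. -/
def relC (M W : Subgroup G) : Subgroup G where
  carrier := {g | (g ∈ normalizer (M : Set G) ∧ g ∈ normalizer (W : Set G)) ∧ ∀ m ∈ M, g * m * g⁻¹ * m⁻¹ ∈ W}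
  one_mem' := ⟨⟨one_mem _, one_mem _⟩, fun m _ => by simp⟩
  mul_mem' := fun {g h} hg hh => ⟨⟨mul_mem hg.1.1 hh.1.1, mul_mem hg.1.2 hh.1.2⟩, fun m hm => by
    rw [show g * h * m * (g * h)⁻¹ * m⁻¹ = (g * (h * m * h⁻¹ * m⁻¹) * g⁻¹) * (g * m * g⁻¹ * m⁻¹) by group]
    exact mul_mem (conj_mem hg.1.2 (hh.2 m hm)) (hg.2 m hm)⟩
  inv_mem' := fun {g} hg => ⟨⟨inv_mem hg.1.1, inv_mem hg.1.2⟩, fun m hm => by
    rw [show g⁻¹ * m * g⁻¹⁻¹ * m⁻¹ = (g * (g⁻¹ * m * g⁻¹⁻¹) * g⁻¹ * (g⁻¹ * m * g⁻¹⁻¹)⁻¹)⁻¹ by group]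
    exact inv_mem (hg.2 _ (conj_mem (inv_mem hg.1.1) hm))⟩

theorem mem_relC {M W : Subgroup G} {g : G} :
    g ∈ relC M W ↔ (g ∈ normalizer (M : Set G) ∧ g ∈ normalizer (W : Set G)) ∧ ∀ m ∈ M, g * m * g⁻¹ * m⁻¹ ∈ W :=
  Iff.rfl

theorem mem_of_mul_mem {C : Subgroup G} {x q : G} (hx3 : x ^ 3 = 1) {k : ℕ} (hq : q ^ 2 ^ k = 1)
    (hxn : x ∈ normalizer (C : Set G)) (hqn : q ∈ normalizer (C : Set G)) (h : x * q ∈ C) : x ∈ C := by
  set N := normalizer (C : Set G) with hN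
  haveI : (C.subgroupOf N).Normal := normal_subgroupOf_of_le_normalizer le_rfl
  set π := QuotientGroup.mk' (C.subgroupOf N)
  have h1 : π (⟨x, hxn⟩ * ⟨q, hqn⟩) = 1 := (QuotientGroup.eq_one_iff _).2 (mem_subgroupOf.2 h)
  rw [map_mul] at h1
  have ex : π ⟨x, hxn⟩ = (π ⟨q, hqn⟩)⁻¹ := eq_inv_of_mul_eq_one_left h1
  have h3 : π ⟨x, hxn⟩ ^ 3 = 1 := by
    rw [← map_pow, show (⟨x, hxn⟩ : N) ^ 3 = 1 from Subtype.ext hx3, map_one]
  have h2 : π ⟨x, hxn⟩ ^ 2 ^ k = 1 := by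
    rw [ex, inv_pow, ← map_pow, show (⟨q, hqn⟩ : N) ^ 2 ^ k = 1 from Subtype.ext hq, map_one, inv_one]
  have h5 := pow_gcd_eq_one.2 ⟨h3, h2⟩
  rw [show Nat.gcd 3 (2 ^ k) = 1 from Nat.Coprime.pow_right k (by decide), pow_one] at h5
  exact mem_subgroupOf.1 ((QuotientGroup.eq_one_iff _).1 h5)

variable [Finite G]

/-- The data of a `J`-component seen from a 2-group `S`. -/
structure Node (S : Subgroup G) (x : G) (W : Subgroup G) (w : G) : Prop where
  two : IsPGroup 2 S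
  cube : x ^ 3 = 1
  elem : Cfsg.IsElementaryAbelian 2 W
  four : Nat.card W = 4
  WS : W ≤ S
  xW : x ∈ normalizer (W : Set G)
  SW : S ≤ normalizer (W : Set G)
  wW : w ∈ W
  w1 : w ≠ 1
  wc : ∀ s ∈ S, s * w * s⁻¹ = w
  move : x * w * x⁻¹ ≠ w
  xQ : x ∈ normalizer (ker S W : Set G)
  twist : ∀ s ∈ S, ∃ i : ℕ, (i = 1 ∨ i = 2) ∧ (x ^ i)⁻¹ * (s * x * s⁻¹) ∈ ker S W
  offend : ∃ A, MaxE S A ∧ ¬ A ≤ centralizer (W : Set G)

namespace Node

variable {S W : Subgroup G} {x w : G}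

theorem mover (n : Node S x W w) : Mover W x := ⟨n.elem, n.xW, n.cube⟩

theorem W_sq (n : Node S x W w) {v : G} (hv : v ∈ W) : v * v = 1 := elem_sq n.elem hv

theorem p_mem (n : Node S x W w) : x * w * x⁻¹ ∈ W := conj_mem n.xW n.wW

theorem p_ne_one (n : Node S x W w) : x * w * x⁻¹ ≠ 1 := fun e => n.w1 (by
  calc w = x⁻¹ * (x * w * x⁻¹) * x := by group
    _ = 1 := by rw [e]; group)

theorem cases (n : Node S x W w) {v : G} (hv : v ∈ W) :
    v = 1 ∨ v = w ∨ v = x * w * x⁻¹ ∨ v = w * (x * w * x⁻¹) :=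
  four_cases n.elem n.four n.wW n.p_mem n.w1 n.p_ne_one (Ne.symm n.move) hv

theorem x_ne_one (n : Node S x W w) : x ≠ 1 := fun e => n.move (by rw [e]; group)

theorem order (n : Node S x W w) : orderOf x = 3 := by
  haveI : Fact (Nat.Prime 3) := ⟨Nat.prime_three⟩
  exact orderOf_eq_prime n.cube n.x_ne_one

theorem x_odd (n : Node S x W w) : Odd (orderOf x) := n.order ▸ by decide

theorem x_not_mem (n : Node S x W w) : x ∉ S := fun h => n.x_ne_one (eq_one_of_odd n.two h n.x_odd)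

theorem dlR_eq (n : Node S x W w) : dlR x W = W := by
  have hM := n.mover
  refine eq_of_le_of_card_ge hM.dlR_le (n.four.le.trans ?_)
  refine hM.four_le le_rfl (fun u hu => hM.conj_mem_dlR hu) (u := dl x w) (hM.mem_dlR.2 ⟨w, n.wW, rfl⟩) ?_
  intro e
  rw [dl, mul_eq_one_iff_eq_inv, elem_inv n.elem n.wW] at e
  exact n.move e

theorem fix (n : Node S x W w) {v : G} (hv : v ∈ W) (h : x * v * x⁻¹ = v) : v = 1 :=
  n.mover.fix_eq_one (n.dlR_eq.ge hv) h

theorem irred (n : Node S x W w) {U : Subgroup G} (hU : U ≤ W) (hx : ∀ v ∈ U, x * v * x⁻¹ ∈ U) {v : G}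
    (hv : v ∈ U) (hv1 : v ≠ 1) : U = W :=
  eq_of_le_of_card_ge hU (n.four.le.trans (n.mover.four_le (hU.trans n.dlR_eq.ge) hx hv hv1))

theorem inf_eq_bot (n : Node S x W w) {R : Subgroup G} (hR : x ∈ normalizer (R : Set G)) (h : ¬ W ≤ R) :
    W ⊓ R = ⊥ := by
  by_contra hne
  obtain ⟨v, hv, hv1⟩ := (bot_or_exists_ne_one (W ⊓ R)).resolve_left hne
  refine h ((n.irred inf_le_left (fun u hu => ?_) hv hv1).ge.trans inf_le_right)
  exact mem_inf.2 ⟨conj_mem n.xW (mem_inf.1 hu).1, conj_mem hR (mem_inf.1 hu).2⟩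

theorem Q_le (_ : Node S x W w) : ker S W ≤ S := inf_le_left

theorem W_le_Q (n : Node S x W w) : W ≤ ker S W :=
  le_inf n.WS fun _ hv => mem_centralizer_iff.2 fun _ hu => elem_comm n.elem hu hv

theorem w_central (n : Node S x W w) {s : G} (hs : s ∈ S) : s * w = w * s := conj_eq_iff_comm.1 (n.wc s hs)

theorem Q_comm (n : Node S x W w) {q v : G} (hq : q ∈ ker S W) (hv : v ∈ W) : q * v = v * q :=
  (mem_centralizer_iff.1 (mem_inf.1 hq).2 v hv).symm

theorem moves (n : Node S x W w) {s : G} (hs : s ∈ S) (hsn : s ∉ ker S W) {v : G} (hv : v ∈ W) (hv1 : v ≠ 1)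
    (hvw : v ≠ w) : s * v * s⁻¹ = v * w := by
  have hsW := n.SW hs
  set p := x * w * x⁻¹ with hp
  have hsp : s * p * s⁻¹ = p * w := by
    have hpw : p * w = w * p := elem_comm n.elem n.p_mem n.wW
    rcases n.cases (conj_mem hsW n.p_mem) with e | e | e | e
    · exact absurd (by calc p = s⁻¹ * (s * p * s⁻¹) * s := by group
                          _ = 1 := by rw [e]; group) n.p_ne_one
    · refine absurd ?_ n.move
      calc p = s⁻¹ * (s * p * s⁻¹) * s := by group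
        _ = s⁻¹ * (s * w * s⁻¹) * s := by rw [e, n.wc s hs]
        _ = w := by group
    · refine absurd (mem_inf.2 ⟨hs, mem_cent_iff.2 fun u hu => ?_⟩) hsn
      rcases n.cases hu with e' | e' | e' | e' <;> rw [e']
      · group
      · exact n.wc s hs
      · exact e
      · rw [show s * (w * p) * s⁻¹ = (s * w * s⁻¹) * (s * p * s⁻¹) by group, n.wc s hs, e]
    · rw [e, hpw]
  rcases n.cases hv with e | e | e | e
  · exact absurd e hv1
  · exact absurd e hvw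
  · rw [e]; exact hsp
  · rw [e, show s * (w * p) * s⁻¹ = (s * w * s⁻¹) * (s * p * s⁻¹) by group, n.wc s hs, hsp]
    simp only [hp, mul_assoc]

theorem comm_cases (n : Node S x W w) {s : G} (hs : s ∈ S) {v : G} (hv : v ∈ W) :
    s * v * s⁻¹ = v ∨ s * v * s⁻¹ = v * w := by
  by_cases hsn : s ∈ ker S W
  · exact Or.inl (mem_cent_iff.1 (mem_inf.1 hsn).2 v hv)
  · by_cases hv1 : v = 1
    · exact Or.inl (by rw [hv1]; group)
    by_cases hvw : v = w
    · exact Or.inl (hvw ▸ n.wc s hs)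
    exact Or.inr (n.moves hs hsn hv hv1 hvw)

theorem fixed_of_moves (n : Node S x W w) {s : G} (hs : s ∈ S) (hsn : s ∉ ker S W) {v : G} (hv : v ∈ W)
    (h : s * v * s⁻¹ = v) : v = 1 ∨ v = w := by
  by_contra hno
  push Not at hno
  rw [n.moves hs hsn hv hno.1 hno.2] at h
  exact n.w1 (mul_eq_left.1 h)

theorem mul_mem_Q (n : Node S x W w) {s t : G} (hs : s ∈ S) (hsn : s ∉ ker S W) (ht : t ∈ S)
    (htn : t ∉ ker S W) : s * t ∈ ker S W := by
  refine mem_inf.2 ⟨S.mul_mem hs ht, mem_cent_iff.2 fun v hv => ?_⟩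
  by_cases hv1 : v = 1
  · rw [hv1]; group
  by_cases hvw : v = w
  · rw [hvw]; exact n.wc _ (S.mul_mem hs ht)
  rw [show s * t * v * (s * t)⁻¹ = s * (t * v * t⁻¹) * s⁻¹ by group, n.moves ht htn hv hv1 hvw,
    show s * (v * w) * s⁻¹ = (s * v * s⁻¹) * (s * w * s⁻¹) by group, n.moves hs hsn hv hv1 hvw, n.wc s hs,
    mul_assoc, n.W_sq n.wW, mul_one]

theorem exists_out (n : Node S x W w) : ∃ s ∈ S, s ∉ ker S W ∧ s * s = 1 := by
  obtain ⟨A, hA, hAn⟩ := n.offend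
  obtain ⟨a, ha, han⟩ := SetLike.not_le_iff_exists.1 hAn
  exact ⟨a, hA.1 ha, fun h => han (mem_inf.1 h).2, elem_sq hA.2.1 ha⟩

theorem index_two (n : Node S x W w) : (ker S W).relIndex S = 2 := by
  obtain ⟨a, ha, han, -⟩ := n.exists_out
  rw [relIndex, index_eq_two_iff_exists_notMem_and]
  refine ⟨⟨a, ha⟩, fun h => han (mem_subgroupOf.1 h), fun b => ?_⟩
  by_cases hb : (b : G) ∈ ker S W
  · exact Or.inr (mem_subgroupOf.2 hb)
  · exact Or.inl (mem_subgroupOf.2 (n.mul_mem_Q b.2 hb ha han))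

theorem S_normQ (n : Node S x W w) : S ≤ normalizer (ker S W : Set G) :=
  le_normalizer_of_conj fun s hs q hq =>
    mem_inf.2 ⟨conj_mem (le_normalizer hs) (mem_inf.1 hq).1, mem_cent_conj (n.SW hs) (mem_inf.1 hq).2⟩

/-- `S` and `x`. -/
abbrev grp (S : Subgroup G) (x : G) : Subgroup G := S ⊔ zpowers x

theorem grp_normQ (n : Node S x W w) : grp S x ≤ normalizer (ker S W : Set G) :=
  sup_le n.S_normQ (zpowers_le.2 n.xQ)

theorem grp_normW (n : Node S x W w) : grp S x ≤ normalizer (W : Set G) :=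
  sup_le n.SW (zpowers_le.2 n.xW)

theorem invert (n : Node S x W w) {s : G} (hs : s ∈ S) (hsn : s ∉ ker S W) :
    x * (s * x * s⁻¹) ∈ ker S W := by
  obtain ⟨i, hi | hi, h⟩ := n.twist s hs
  · exfalso
    subst hi
    rw [pow_one] at h
    have h1 := n.moves hs hsn n.p_mem n.p_ne_one n.move
    set c := x⁻¹ * (s * x * s⁻¹) with hc
    have h2 : c * w * c⁻¹ = w := mem_cent_iff.1 (mem_inf.1 h).2 w n.wW
    have h4 : s⁻¹ * w * s = w := by
      have := n.wc _ (inv_mem hs)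
      rwa [inv_inv] at this
    have h3 : s * (x * w * x⁻¹) * s⁻¹ = x * w * x⁻¹ :=
      calc s * (x * w * x⁻¹) * s⁻¹ = (s * x * s⁻¹) * (s * w * s⁻¹) * (s * x * s⁻¹)⁻¹ := by group
        _ = x * (c * w * c⁻¹) * x⁻¹ := by rw [n.wc s hs, hc]; group
        _ = x * w * x⁻¹ := by rw [h2]
    rw [h3] at h1
    exact n.w1 (mul_eq_left.1 h1.symm)
  · subst hi
    have e : (x ^ 2)⁻¹ = x := inv_eq_of_mul_eq_one_right (by rw [← pow_succ, n.cube])
    rwa [e] at h

theorem commute_Q (n : Node S x W w) {q : G} (hq : q ∈ ker S W) : q * x * q⁻¹ * x⁻¹ ∈ ker S W := by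
  rw [show q * x * q⁻¹ * x⁻¹ = q * (x * q⁻¹ * x⁻¹) by group]
  exact mul_mem hq (conj_mem n.xQ (inv_mem hq))

theorem Qx_inf (n : Node S x W w) : (ker S W ⊔ zpowers x) ⊓ S = ker S W := by
  refine le_antisymm (fun y hy => ?_) (le_inf le_sup_left inf_le_left)
  obtain ⟨hy1, hy2⟩ := mem_inf.1 hy
  have hn : zpowers x ≤ normalizer (ker S W : Set G) := zpowers_le.2 n.xQ
  obtain ⟨q, hq, z, hz, rfl⟩ := (Cfsg.Lib.Coprime.mem_sup_of_le_normalizer hn).1 hy1
  have hzS : z ∈ S := by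
    have := S.mul_mem (inv_mem (mem_inf.1 hq).1) hy2
    rwa [inv_mul_cancel_left] at this
  have hzo : Odd (orderOf z) := by
    refine Odd.of_dvd_nat n.x_odd ?_
    obtain ⟨k, rfl⟩ := mem_zpowers_iff.1 hz
    exact orderOf_dvd_of_mem_zpowers (zpow_mem (mem_zpowers x) k)
  rw [eq_one_of_odd n.two hzS hzo, mul_one]
  exact hq

theorem grp_Qx (n : Node S x W w) : grp S x ≤ normalizer ((ker S W ⊔ zpowers x : Subgroup G) : Set G) := by
  refine sup_le (fun s hs => mem_normalizer_of_cj_le ?_) (le_trans le_sup_right le_normalizer)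
  rw [show cj s (ker S W ⊔ zpowers x) = cj s (ker S W) ⊔ cj s (zpowers x) from Subgroup.map_sup _ _ _,
    cj_eq_self (n.S_normQ hs), cj, MonoidHom.map_zpowers]
  refine sup_le le_sup_left (zpowers_le.2 ?_)
  show s * x * s⁻¹ ∈ ker S W ⊔ zpowers x
  obtain ⟨i, -, h⟩ := n.twist s hs
  rw [show s * x * s⁻¹ = x ^ i * ((x ^ i)⁻¹ * (s * x * s⁻¹)) by group]
  exact mul_mem (mem_sup_right (pow_mem (mem_zpowers x) i)) (mem_sup_left h)

theorem index_Qx (n : Node S x W w) : (ker S W).relIndex (ker S W ⊔ zpowers x) = 3 := by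
  set Q := ker S W
  set X := Q ⊔ zpowers x
  haveI : (Q.subgroupOf X).Normal :=
    normal_subgroupOf_of_le_normalizer (sup_le le_normalizer (zpowers_le.2 n.xQ))
  have e := Subgroup.relIndex_sup_right (H := (zpowers x).subgroupOf X) (K := Q.subgroupOf X)
  rw [← subgroupOf_sup le_sup_right le_sup_left, sup_comm, subgroupOf_self, relIndex_top_right,
    relIndex_subgroupOf le_sup_right] at e
  show (Q.subgroupOf X).index = 3
  rw [e, ← inf_relIndex_right, show Q ⊓ zpowers x = ⊥ from ?_, relIndex_bot_left, Nat.card_zpowers, n.order]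
  refine eq_bot_iff.2 fun y hy => mem_bot.2 (eq_one_of_odd n.two (mem_inf.1 (mem_inf.1 hy).1).1 ?_)
  exact Odd.of_dvd_nat n.x_odd (orderOf_dvd_of_mem_zpowers (mem_inf.1 hy).2)

theorem index_three (n : Node S x W w) : S.relIndex (grp S x) = 3 := by
  set Q := ker S W
  set X := Q ⊔ zpowers x with hX
  set P := grp S x
  have hXP : X ≤ P := sup_le_sup_right inf_le_left _
  haveI : (X.subgroupOf P).Normal := normal_subgroupOf_of_le_normalizer n.grp_Qx
  have e := Subgroup.relIndex_sup_right (H := S.subgroupOf P) (K := X.subgroupOf P)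
  rw [← subgroupOf_sup le_sup_left hXP, show S ⊔ X = P from ?_, subgroupOf_self, relIndex_top_right,
    relIndex_subgroupOf le_sup_left] at e
  · change X.relIndex P = X.relIndex S at e
    rw [← inf_relIndex_right X S, n.Qx_inf, n.index_two] at e
    have h := relIndex_mul_relIndex Q S P inf_le_left le_sup_left
    rw [← relIndex_mul_relIndex Q X P le_sup_left hXP, n.index_Qx, e, n.index_two] at h
    omega
  · rw [hX, ← sup_assoc, sup_eq_left.2 (inf_le_left : Q ≤ S)]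

theorem syl (n : Node S x W w) : Cfsg.IsSylowTwoIn S (grp S x) :=
  ⟨le_sup_left, n.two, by rw [n.index_three]; decide⟩

/-- A subgroup normalized by `⟨S, x⟩` and meeting `S` outside the kernel contains `x`. -/
theorem normal_mem (n : Node S x W w) {C : Subgroup G} (hC : grp S x ≤ normalizer (C : Set G)) {s : G}
    (hs : s ∈ S) (hsn : s ∉ ker S W) (hsC : s ∈ C) : x ∈ C := by
  have hxn : x ∈ normalizer (C : Set G) := hC (mem_sup_right (mem_zpowers x))
  have hq := n.invert hs hsn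
  set q := x * (x * (s * x * s⁻¹)) * x⁻¹ with hqd
  have hqQ : q ∈ ker S W := conj_mem n.xQ hq
  obtain ⟨k, hk⟩ := n.two ⟨q, (mem_inf.1 hqQ).1⟩
  refine mem_of_mul_mem n.cube (congrArg Subtype.val hk : q ^ 2 ^ k = 1) hxn
    (hC (mem_sup_left (mem_inf.1 hqQ).1)) ?_
  have e : x * q = x ^ 3 * (s * (x * s⁻¹ * x⁻¹)) := by
    rw [hqd]; simp only [pow_succ, pow_zero]; group
  rw [e, n.cube, one_mul]
  exact mul_mem hsC (conj_mem hxn (inv_mem hsC))

theorem core_case (n : Node S x W w) {C : Subgroup G} (hC : grp S x ≤ normalizer (C : Set G)) (hx : x ∉ C) :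
    C ⊓ grp S x ≤ ker S W := by
  set Q := ker S W
  set P := grp S x
  set C' := C ⊓ P
  have hC' : P ≤ normalizer (C' : Set G) := Cfsg.Lib.Coprime.le_normalizer_inf hC le_normalizer
  have hCS : S ⊓ C' ≤ Q := fun s hs => by
    by_contra hsn
    exact hx (n.normal_mem hC (mem_inf.1 hs).1 hsn (mem_inf.1 (mem_inf.1 hs).2).1)
  have hSy := sylowIn_inf n.syl inf_le_right hC'
  set N := C' ⊔ Q with hN
  have hNP : N ≤ P := sup_le inf_le_right (inf_le_left.trans le_sup_left)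
  have hQN : P ≤ normalizer (N : Set G) := fun p hp => mem_normalizer_of_cj_le (by
    rw [show cj p N = cj p C' ⊔ cj p Q from Subgroup.map_sup _ _ _, cj_eq_self (hC' hp),
      cj_eq_self (n.grp_normQ hp)])
  haveI : (Q.subgroupOf N).Normal := normal_subgroupOf_of_le_normalizer (hNP.trans n.grp_normQ)
  have e := Subgroup.relIndex_sup_right (H := C'.subgroupOf N) (K := Q.subgroupOf N)
  rw [← subgroupOf_sup le_sup_left le_sup_right, subgroupOf_self, relIndex_top_right,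
    relIndex_subgroupOf le_sup_left] at e
  change Q.relIndex N = Q.relIndex C' at e
  have hodd : Odd (Q.relIndex N) := by
    rw [e]
    exact hSy.2.2.of_dvd_nat (relIndex_dvd_of_le_left C' hCS)
  have h6 : Q.relIndex N * N.relIndex P = 6 := by
    rw [relIndex_mul_relIndex _ _ _ le_sup_right hNP, ← relIndex_mul_relIndex Q S P inf_le_left le_sup_left,
      n.index_two, n.index_three]
  have hd : Q.relIndex N = 1 ∨ Q.relIndex N = 3 := by
    have h1 : Q.relIndex N ∣ 6 := Dvd.intro _ h6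
    have h2 := Nat.le_of_dvd (by norm_num) h1
    generalize Q.relIndex N = m at hodd h1 h2 ⊢
    interval_cases m <;> simp_all <;> exact absurd hodd (by decide)
  rcases hd with h1 | h3
  · exact (le_sup_left : C' ≤ N).trans (relIndex_eq_one.1 h1)
  · exfalso
    rw [h3] at h6
    have hxN : x ∈ N := mem_of_two_power_index hQN ⟨1, by omega⟩ (mem_sup_right (mem_zpowers x)) n.x_odd
    rw [hN] at hxN
    obtain ⟨c, hc, q, hq, hcq⟩ := (Cfsg.Lib.Coprime.mem_sup_of_le_normalizer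
      ((inf_le_left.trans le_sup_left).trans hC' : Q ≤ normalizer (C' : Set G))).1 hxN
    obtain ⟨k, hk⟩ := n.two ⟨q⁻¹, inv_mem (mem_inf.1 hq).1⟩
    refine hx (mem_of_mul_mem n.cube (congrArg Subtype.val hk : q⁻¹ ^ 2 ^ k = 1)
      (hC (mem_sup_right (mem_zpowers x))) (hC (mem_sup_left (inv_mem (mem_inf.1 hq).1))) ?_)
    rw [← hcq, mul_inv_cancel_right]
    exact (mem_inf.1 hc).1

/-- An element outside the kernel centralizing `M` modulo `W` forces `x` to do so. -/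
theorem short (n : Node S x W w) {M : Subgroup G} (hM : grp S x ≤ normalizer (M : Set G)) {a : G} (ha : a ∈ S)
    (han : a ∉ ker S W) (h : ∀ m ∈ M, a * m * a⁻¹ * m⁻¹ ∈ W) : ∀ m ∈ M, x * m * x⁻¹ * m⁻¹ ∈ W := by
  have hC : grp S x ≤ normalizer (relC M W : Set G) := by
    refine le_normalizer_of_conj fun p hp g hg => ?_
    obtain ⟨⟨hgM, hgW⟩, hg'⟩ := mem_relC.1 hg
    have hpM := hM hp
    have hpW := n.grp_normW hp
    refine mem_relC.2 ⟨⟨mul_mem (mul_mem hpM hgM) (inv_mem hpM), mul_mem (mul_mem hpW hgW) (inv_mem hpW)⟩,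
      fun m hm => ?_⟩
    rw [show p * g * p⁻¹ * m * (p * g * p⁻¹)⁻¹ * m⁻¹ =
      p * (g * (p⁻¹ * m * p⁻¹⁻¹) * g⁻¹ * (p⁻¹ * m * p⁻¹⁻¹)⁻¹) * p⁻¹ by group]
    exact conj_mem hpW (hg' _ (conj_mem (inv_mem hpM) hm))
  exact (mem_relC.1 (n.normal_mem hC ha han (mem_relC.2 ⟨⟨hM (mem_sup_left ha), n.SW ha⟩, h⟩))).2

theorem conj (n : Node S x W w) (g : G) : Node (cj g S) (g * x * g⁻¹) (cj g W) (g * w * g⁻¹) := by
  have hkn : ∀ {y : G} {H : Subgroup G}, y ∈ normalizer (H : Set G) →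
      g * y * g⁻¹ ∈ normalizer (cj g H : Set G) := fun {y H} hy => by
    refine mem_normalizer_of_cj ?_
    rw [cj_cj, inv_mul_cancel_right, ← cj_cj, cj_eq_self hy]
  have hc : cj g (ker S W) = ker (cj g S) (cj g W) := by
    ext y
    simp only [mem_inf, mem_cj]
    refine and_congr_right fun _ => ?_
    rw [mem_cent_iff, mem_cent_iff]
    refine ⟨fun h v hv => ?_, fun h v hv => ?_⟩
    · have := h _ (mem_cj.1 hv)
      calc y * v * y⁻¹ = g * ((g⁻¹ * y * g) * (g⁻¹ * v * g) * (g⁻¹ * y * g)⁻¹) * g⁻¹ := by group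
        _ = v := by rw [this]; group
    · have := h _ (conj_mem_cj (g := g) hv)
      calc g⁻¹ * y * g * v * (g⁻¹ * y * g)⁻¹ = g⁻¹ * (y * (g * v * g⁻¹) * y⁻¹) * g := by group
        _ = v := by rw [this]; group
  refine ⟨n.two.map _, by rw [conj_pow, n.cube]; group, elem_cj n.elem g, by rw [card_cj, n.four],
    Subgroup.map_mono n.WS, hkn n.xW, ?_, conj_mem_cj n.wW, fun e => n.w1 ?_, ?_, fun e => n.move ?_,
    hc ▸ hkn n.xQ, ?_, ?_⟩
  · rintro _ ⟨s, hs, rfl⟩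
    exact hkn (n.SW hs)
  · calc w = g⁻¹ * (g * w * g⁻¹) * g := by group
      _ = 1 := by rw [e]; group
  · rintro _ ⟨s, hs, rfl⟩
    show g * s * g⁻¹ * (g * w * g⁻¹) * (g * s * g⁻¹)⁻¹ = _
    conv_rhs => rw [← n.wc s hs]
    group
  · calc x * w * x⁻¹ = g⁻¹ * ((g * x * g⁻¹) * (g * w * g⁻¹) * (g * x * g⁻¹)⁻¹) * g := by group
      _ = w := by rw [e]; group
  · rintro _ ⟨s, hs, rfl⟩
    obtain ⟨i, hi, h⟩ := n.twist s hs
    refine ⟨i, hi, ?_⟩
    rw [← hc]
    refine ⟨_, h, ?_⟩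
    show g * ((x ^ i)⁻¹ * (s * x * s⁻¹)) * g⁻¹ = _
    rw [conj_pow]
    show _ = (g * x ^ i * g⁻¹)⁻¹ * (g * s * g⁻¹ * (g * x * g⁻¹) * (g * s * g⁻¹)⁻¹)
    group
  · obtain ⟨A, hA, hAn⟩ := n.offend
    refine ⟨cj g A, ⟨Subgroup.map_mono hA.1, elem_cj hA.2.1 g, fun B hB hBe => ?_⟩, fun h => hAn fun a ha => ?_⟩
    · have h1 : cj g⁻¹ B ≤ S := by
        have := Subgroup.map_mono (f := (MulAut.conj g⁻¹).toMonoidHom) hB
        rwa [show (cj g S).map (MulAut.conj g⁻¹).toMonoidHom = S from cj_inv_cj g S] at this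
      have := hA.2.2 _ h1 (elem_cj hBe _)
      rwa [card_cj, ← card_cj g A] at this
    · have h1 : g * a * g⁻¹ ∈ cj g (ker S W) := hc ▸ mem_inf.2 ⟨conj_mem_cj (hA.1 ha), h (conj_mem_cj ha)⟩
      have h2 : g⁻¹ * (g * a * g⁻¹) * g ∈ ker S W := mem_cj.1 h1
      have h3 : g⁻¹ * (g * a * g⁻¹) * g = a := by group
      exact (mem_inf.1 (h3 ▸ h2)).2

end Node

end Cfsg.Lib.QTLf
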