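import Cfsg.Agent.QTKE.LfEmpty.Pair

/-!
The opposite direction: the nodes derived on the second kernel.
-/

set_option autoImplicit false
set_option linter.unusedSectionVars false
set_option linter.style.haveILetI false

namespace Cfsg.Lib.QTLf

open Subgroup Cfsg.Lib.JComp

universe u

variable {G : Type u} [Group G]

theorem ker_cj (g : G) (S W : Subgroup G) : cj g (ker S W) = ker (cj g S) (cj g W) := by
  ext y
  simp only [mem_inf, mem_cj]
  refine and_congr_right fun _ => ?_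
  rw [mem_cent_iff, mem_cent_iff]
  refine ⟨fun h v hv => ?_, fun h v hv => ?_⟩
  · have := h _ (mem_cj.1 hv)
    calc y * v * y⁻¹ = g * ((g⁻¹ * y * g) * (g⁻¹ * v * g) * (g⁻¹ * y * g)⁻¹) * g⁻¹ := by group
      _ = v := by rw [this]; group
  · have := h _ (conj_mem_cj (g := g) hv)
    calc g⁻¹ * y * g * v * (g⁻¹ * y * g)⁻¹ = g⁻¹ * (y * (g * v * g⁻¹) * y⁻¹) * g := by group
      _ = v := by rw [this]; group

variable [Finite G]

theorem Node.exists_fixed {S W : Subgroup G} {x w : G} (n : Node S x W w) {y : G} (hy : ∀ v ∈ W, y * v = v * y)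
    (h : x * y * x⁻¹ * y⁻¹ ∈ W) : ∃ u ∈ W, x * (y * u) * x⁻¹ = y * u := by
  obtain ⟨u, hu, he⟩ := n.mover.mem_dlR.1 (n.dlR_eq.ge h)
  refine ⟨u, hu, ?_⟩
  set r := x * y * x⁻¹ * y⁻¹ with hr
  have hxu : x * u * x⁻¹ ∈ W := conj_mem n.xW hu
  have h1 : r * (x * u * x⁻¹) = u := by
    rw [← he, dl, elem_comm n.elem hxu hu, mul_assoc, n.W_sq hxu, mul_one]
  calc x * (y * u) * x⁻¹ = r * y * (x * u * x⁻¹) := by rw [hr]; group
    _ = y * (r * (x * u * x⁻¹)) := by rw [← hy r h, mul_assoc]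
    _ = y * u := by rw [h1]

variable {S Wa Wb : Subgroup G} {xa xb wa wb : G}

theorem toward_inf (na : Node S xa Wa wa) (nb : Node S xb Wb wb) (hc : Wb ≤ centralizer (Wa : Set G))
    (hQ : ker S Wa ≠ ker S Wb) (ht : Toward xa Wa Wb) : Wa ⊓ Wb = ⊥ := by
  by_contra hne
  obtain ⟨v, hv, hv1⟩ := (bot_or_exists_ne_one (Wa ⊓ Wb)).resolve_left hne
  obtain ⟨hva, hvb⟩ := mem_inf.1 hv
  have hwa : wb ∈ Wa := by
    by_cases hvw : v = wb
    · exact hvw ▸ hva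
    obtain ⟨s, hs, hsn, -⟩ := nb.exists_out
    have h1 := conj_mem (na.SW hs) hva
    rw [nb.moves hs hsn hvb hv1 hvw] at h1
    exact (Subgroup.mul_mem_cancel_left _ hva).1 h1
  exact nb.w1 (na.fix hwa (toward_fix na nb hc hQ ht))

/-- The node derived on the second kernel. -/
theorem derived (na : Node S xa Wa wa) (nb : Node S xb Wb wb) (hc : Wb ≤ centralizer (Wa : Set G))
    (hQ : ker S Wa ≠ ker S Wb) (ht : Toward xa Wa Wb) : Node (ker S Wb) xa Wa wa := by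
  have hfix := toward_fix na nb hc hQ ht
  have hdir := toward_dir na nb hc hQ ht
  have hW0 := toward_inf na nb hc hQ ht
  have hQbS : ker S Wb ≤ S := inf_le_left
  have hWaQb : Wa ≤ ker S Wb := le_inf na.WS (commutes_symm hc)
  refine ⟨nb.two.to_le hQbS, na.cube, na.elem, na.four, hWaQb, na.xW, hQbS.trans na.SW, na.wW, na.w1,
    fun s hs => na.wc s (hQbS hs), na.move, ?_, ?_, ?_⟩
  · refine mem_normalizer_of_cj_le ?_
    rintro _ ⟨q, hq, rfl⟩
    obtain ⟨hqb, hqa⟩ := mem_inf.1 hq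
    have hqQ : q ∈ ker S Wa := mem_inf.2 ⟨hQbS hqb, hqa⟩
    show xa * q * xa⁻¹ ∈ _
    refine mem_inf.2 ⟨?_, (mem_inf.1 (conj_mem na.xQ hqQ)).2⟩
    rw [show xa * q * xa⁻¹ = (xa * q * xa⁻¹ * q⁻¹) * q by group]
    exact mul_mem (hdir q hqQ) hqb
  · intro s hs
    obtain ⟨i, hi, hcQ⟩ := na.twist s (hQbS hs)
    refine ⟨i, hi, ?_⟩
    set c := (xa ^ i)⁻¹ * (s * xa * s⁻¹) with hcd
    refine mem_inf.2 ⟨mem_inf.2 ⟨(mem_inf.1 hcQ).1, mem_cent_iff.2 fun v hv => ?_⟩, (mem_inf.1 hcQ).2⟩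
    have hvr : xa * v * xa⁻¹ * v⁻¹ ∈ Wa := by rw [elem_inv nb.elem hv]; exact ht v hv
    obtain ⟨u, hu, hu0⟩ := na.exists_fixed (fun a ha => comm_of_le hc hv ha) hvr
    set v0 := v * u with hv0
    have hsv : s * v * s⁻¹ = v := mem_cent_iff.1 (mem_inf.1 hs).2 v hv
    obtain ⟨e, heW, hse⟩ : ∃ e ∈ Wa, s * v0 * s⁻¹ = v0 * e := by
      rcases na.comm_cases (hQbS hs) hu with h | h
      · exact ⟨1, one_mem _, by rw [hv0, show s * (v * u) * s⁻¹ = (s * v * s⁻¹) * (s * u * s⁻¹) by group, hsv, h, mul_one]⟩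
      · exact ⟨wa, na.wW, by
          rw [hv0, show s * (v * u) * s⁻¹ = (s * v * s⁻¹) * (s * u * s⁻¹) by group, hsv, h, mul_assoc]⟩
    have hcc : ∀ a ∈ Wa, c * a * c⁻¹ = a := fun a ha => conj_eq_iff_comm.2 (na.Q_comm hcQ ha)
    obtain ⟨ε, hεW, hxε, hcv⟩ : ∃ ε ∈ Wb, xa * ε * xa⁻¹ = ε ∧ c * v * c⁻¹ = v * ε := by
      rcases nb.comm_cases (mem_inf.1 hcQ).1 hv with h | h
      · exact ⟨1, one_mem _, by group, by rw [h, mul_one]⟩
      · exact ⟨wb, nb.wW, hfix, h⟩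
    have hεc : ∀ a ∈ Wa, ε * a = a * ε := fun a ha => comm_of_le hc hεW ha
    have hcv0 : c * (v0 * e) * c⁻¹ = v0 * e * ε := by
      calc c * (v0 * e) * c⁻¹ = (c * v * c⁻¹) * (c * u * c⁻¹) * (c * e * c⁻¹) := by rw [hv0]; group
        _ = v * (ε * (u * e)) := by rw [hcv, hcc u hu, hcc e heW]; group
        _ = v * ((u * e) * ε) := by rw [hεc _ (mul_mem hu heW)]
        _ = _ := by rw [hv0]; group
    have hsfix : (s * xa * s⁻¹) * (v0 * e) * (s * xa * s⁻¹)⁻¹ = v0 * e := by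
      rw [← hse]
      calc (s * xa * s⁻¹) * (s * v0 * s⁻¹) * (s * xa * s⁻¹)⁻¹ = s * (xa * v0 * xa⁻¹) * s⁻¹ := by group
        _ = _ := by rw [hu0]
    have hpow : ∀ {g : G}, xa * g * xa⁻¹ = g → xa ^ i * g * (xa ^ i)⁻¹ = g := fun {g} h =>
      conj_eq_iff_comm.2 ((show Commute xa g from conj_eq_iff_comm.1 h).pow_left i).eq
    have h2 : xa ^ i * (v0 * e * ε) * (xa ^ i)⁻¹ = v0 * e := by
      rw [← hcv0]
      calc xa ^ i * (c * (v0 * e) * c⁻¹) * (xa ^ i)⁻¹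
          = (s * xa * s⁻¹) * (v0 * e) * (s * xa * s⁻¹)⁻¹ := by rw [hcd]; group
        _ = _ := hsfix
    set φe := xa ^ i * e * (xa ^ i)⁻¹ with hφ
    have h3 : φe * ε = e := by
      refine mul_left_cancel (a := v0) ?_
      calc v0 * (φe * ε) = (xa ^ i * v0 * (xa ^ i)⁻¹) * φe * (xa ^ i * ε * (xa ^ i)⁻¹) := by
            rw [hpow hu0, hpow hxε]; exact (mul_assoc v0 φe ε).symm
        _ = xa ^ i * (v0 * e * ε) * (xa ^ i)⁻¹ := by rw [hφ]; group
        _ = _ := h2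
    have hε : ε = 1 := by
      refine le_of_inf_bot hW0 ?_ hεW
      rw [show ε = φe⁻¹ * e from eq_inv_mul_of_mul_eq h3]
      exact mul_mem (inv_mem (conj_mem (pow_mem na.xW i) heW)) heW
    rw [hcv, hε, mul_one]
  · obtain ⟨A, hA, hAn⟩ := na.offend
    by_cases h1 : A ≤ ker S Wb
    · exact ⟨A, maxE_of_rank hA h1 (fun B hB hBe => hA.2.2 B (hB.trans hQbS) hBe), hAn⟩
    have hAc := nb.two_mul_card hA.1 h1
    obtain ⟨a, ha, han⟩ := SetLike.not_le_iff_exists.1 h1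
    by_cases h2 : A ⊓ ker S Wb ≤ ker S Wa
    · exfalso
      have hAnQ : ¬ A ≤ ker S Wa := fun h => hAn (h.trans inf_le_right)
      have hAc' := na.two_mul_card hA.1 hAnQ
      have heq : A ⊓ ker S Wb = A ⊓ ker S Wa := eq_of_le_of_card_ge (le_inf inf_le_left h2) (by omega)
      have ha' : a ∉ ker S Wa := fun h => han (mem_inf.1 (heq.ge (mem_inf.2 ⟨ha, h⟩))).2
      set A1 := A ⊓ ker S Wb
      have hWe : Cfsg.IsElementaryAbelian 2 (Wa ⊔ Wb : Subgroup G) :=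
        Cfsg.Lib.ElemToolkit.elementary_sup na.elem nb.elem fun u hu v hv => (comm_of_le hc hv hu).symm
      have hWn : Wb ≤ normalizer (Wa : Set G) := hc.trans (centralizer_le_normalizer _)
      have h16 : 16 ≤ Nat.card ↥(Wa ⊔ Wb) := by
        have := Cfsg.Lib.ElemToolkit.mul_card_le Wa Wb
        rw [hW0, card_bot, mul_one, na.four, nb.four] at this
        exact this
      have hel : Cfsg.IsElementaryAbelian 2 (A1 ⊔ (Wa ⊔ Wb) : Subgroup G) :=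
        Cfsg.Lib.ElemToolkit.elementary_sup (Cfsg.Lib.ElemToolkit.elementary_mono inf_le_left hA.2.1) hWe
          fun b hb v hv => by
            obtain ⟨u, hu, t, ht', rfl⟩ := (Cfsg.Lib.Coprime.mem_sup_of_le_normalizer hWn).1 hv
            have c1 := na.Q_comm (h2 hb) hu
            have c2 := nb.Q_comm (mem_inf.1 hb).2 ht'
            exact (Commute.mul_right c1 c2).eq
      have hint : Nat.card ↥(A1 ⊓ (Wa ⊔ Wb)) ≤ 4 := by
        have hn2 : zpowers wb ≤ normalizer (zpowers wa : Set G) := by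
          refine le_trans ?_ (centralizer_le_normalizer _)
          exact le_trans (zpowers_le.2 (hc nb.wW)) (centralizer_le (zpowers_le.2 na.wW))
        refine (Cfsg.Lib.ElemToolkit.card_le_card_of_le (fun v hv => ?_ :
          A1 ⊓ (Wa ⊔ Wb) ≤ zpowers wa ⊔ zpowers wb)).trans ((Cfsg.Lib.FF.card_sup_le hn2).trans
            (by rw [card_zpowers_sq (na.W_sq na.wW) na.w1, card_zpowers_sq (nb.W_sq nb.wW) nb.w1]))
        obtain ⟨hv1, hv2⟩ := mem_inf.1 hv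
        obtain ⟨u, hu, t, ht', rfl⟩ := (Cfsg.Lib.Coprime.mem_sup_of_le_normalizer hWn).1 hv2
        have hfa : a * (u * t) * a⁻¹ = u * t := conj_eq_iff_comm.2 (elem_comm hA.2.1 ha (mem_inf.1 hv1).1)
        have h5 : u⁻¹ * (a * u * a⁻¹) = t * (a * t * a⁻¹)⁻¹ := by
          have h6 : (a * u * a⁻¹) * (a * t * a⁻¹) = u * t := by rw [← hfa]; group
          calc u⁻¹ * (a * u * a⁻¹) = u⁻¹ * ((a * u * a⁻¹) * (a * t * a⁻¹)) * (a * t * a⁻¹)⁻¹ := by group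
            _ = _ := by rw [h6]; group
        have h7 : u⁻¹ * (a * u * a⁻¹) = 1 := le_of_inf_bot hW0
          (mul_mem (inv_mem hu) (conj_mem (na.SW (hA.1 ha)) hu))
          (h5 ▸ mul_mem ht' (inv_mem (conj_mem (nb.SW (hA.1 ha)) ht')))
        have h8 : a * u * a⁻¹ = u := (eq_of_inv_mul_eq_one h7).symm
        have h9 : a * t * a⁻¹ = t := (mul_inv_eq_one.1 (h5.symm.trans h7)).symm
        refine mul_mem (mem_sup_left ?_) (mem_sup_right ?_)
        · rcases na.fixed_of_moves (hA.1 ha) ha' hu h8 with e | e <;> rw [e]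
          exacts [one_mem _, mem_zpowers _]
        · rcases nb.fixed_of_moves (hA.1 ha) han ht' h9 with e | e <;> rw [e]
          exacts [one_mem _, mem_zpowers _]
      have h3 := hA.2.2 _ (sup_le (inf_le_left.trans hA.1) (sup_le na.WS nb.WS)) hel
      have h4 := (Cfsg.Lib.ElemToolkit.mul_card_le A1 (Wa ⊔ Wb)).trans (Nat.mul_le_mul h3 hint)
      have h5 := (Nat.mul_le_mul_left (Nat.card A1) h16).trans h4
      have h6 : 0 < Nat.card A1 := Nat.card_pos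
      rw [hAc] at h5
      omega
    · have hel : Cfsg.IsElementaryAbelian 2 (A ⊓ ker S Wb ⊔ Wb : Subgroup G) :=
        Cfsg.Lib.ElemToolkit.elementary_sup (Cfsg.Lib.ElemToolkit.elementary_mono inf_le_left hA.2.1) nb.elem
          fun b hb v hv => nb.Q_comm (mem_inf.1 hb).2 hv
      have hint : Nat.card ↥((A ⊓ ker S Wb) ⊓ Wb) ≤ 2 := by
        refine (card_zpowers_sq (nb.W_sq nb.wW) nb.w1) ▸ Cfsg.Lib.ElemToolkit.card_le_card_of_le fun v hv => ?_
        obtain ⟨hvA, hvW⟩ := mem_inf.1 hv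
        rcases nb.fixed_of_moves (hA.1 ha) han hvW
          (conj_eq_iff_comm.2 (elem_comm hA.2.1 ha (mem_inf.1 hvA).1)) with e | e
        · exact e ▸ one_mem _
        · exact e ▸ mem_zpowers _
      have hcard : Nat.card A ≤ Nat.card ↥(A ⊓ ker S Wb ⊔ Wb) := by
        have h1 := Cfsg.Lib.ElemToolkit.mul_card_le (A ⊓ ker S Wb) Wb
        rw [nb.four] at h1
        have h3 := h1.trans (Nat.mul_le_mul_left _ hint)
        omega
      refine ⟨_, ⟨sup_le inf_le_right nb.W_le_Q, hel,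
        fun D hD hDe => (hA.2.2 D (hD.trans hQbS) hDe).trans hcard⟩, fun h => h2 fun b hb => ?_⟩
      exact mem_inf.2 ⟨hA.1 (mem_inf.1 hb).1, h (mem_sup_left hb)⟩

/-- The opposite direction. -/
theorem opposite (na : Node S xa Wa wa) (nb : Node S xb Wb wb) (hc : Wb ≤ centralizer (Wa : Set G))
    (hQ : ker S Wa ≠ ker S Wb) (ht : Toward xa Wa Wb) :
    Dir S xb Wb Wa ∨ (xb * wa * xb⁻¹ ≠ wa ∧
      ∃ g ∈ zpowers xb, (g * xa * g⁻¹) * wa * (g * xa * g⁻¹)⁻¹ = wa) := by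
  set Qi := ker S Wa ⊓ ker S Wb with hQi
  by_cases hxi : xb ∈ normalizer (Qi : Set G)
  · refine Or.inl fun q hq => ?_
    have hq' : xb * q * xb⁻¹ ∈ ker S Wb := conj_mem nb.xQ hq
    by_cases hqa : q ∈ ker S Wa
    · exact mul_mem (mem_inf.1 (conj_mem hxi (mem_inf.2 ⟨hqa, hq⟩))).1 (inv_mem hqa)
    · refine na.mul_mem_Q (mem_inf.1 hq').1 (fun h => hqa ?_) (inv_mem (mem_inf.1 hq).1)
        (fun h => hqa (inv_mem_iff.1 h))
      have := conj_mem (inv_mem hxi) (mem_inf.2 ⟨h, hq'⟩ : xb * q * xb⁻¹ ∈ Qi)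
      rw [show xb⁻¹ * (xb * q * xb⁻¹) * xb⁻¹⁻¹ = q by group] at this
      exact (mem_inf.1 this).1
  refine Or.inr ?_
  have n1 := derived na nb hc hQ ht
  have hk1 : ker (ker S Wb) Wa = Qi := le_antisymm
    (fun y hy => mem_inf.2 ⟨mem_inf.2 ⟨(mem_inf.1 (mem_inf.1 hy).1).1, (mem_inf.1 hy).2⟩, (mem_inf.1 hy).1⟩)
    (fun y hy => mem_inf.2 ⟨(mem_inf.1 hy).2, (mem_inf.1 (mem_inf.1 hy).1).2⟩)
  have hxbn : ∀ g ∈ zpowers xb, cj g (ker S Wb) = ker S Wb := fun g hg =>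
    cj_eq_self ((zpowers_le.2 nb.xQ) hg)
  have hN : ∀ g ∈ zpowers xb, Node (ker S Wb) (g * xa * g⁻¹) (cj g Wa) (g * wa * g⁻¹) ∧
      ker (ker S Wb) (cj g Wa) = cj g Qi := fun g hg => by
    have h := n1.conj g
    rw [hxbn g hg] at h
    refine ⟨h, ?_⟩
    rw [← hk1, ker_cj, hxbn g hg]
  have hne : ∀ g, g = xb ∨ g = xb⁻¹ → cj g Qi ≠ Qi := by
    rintro g (rfl | rfl) e
    · exact hxi (mem_normalizer_of_cj e)
    · exact hxi (by simpa using inv_mem (mem_normalizer_of_cj e))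
  have hx1 : xb ∈ zpowers xb := mem_zpowers _
  have hx2 : xb⁻¹ ∈ zpowers xb := inv_mem hx1
  obtain ⟨n2, hk2⟩ := hN xb hx1
  obtain ⟨n3, hk3⟩ := hN xb⁻¹ hx2
  have hQ12 : ker (ker S Wb) Wa ≠ ker (ker S Wb) (cj xb Wa) := by
    rw [hk1, hk2]; exact (hne xb (Or.inl rfl)).symm
  by_cases hcom : cj xb Wa ≤ centralizer (Wa : Set G)
  · rcases pair n1 n2 hcom hQ12 with h | h
    · have hf := toward_fix n1 n2 hcom hQ12 h
      have hw := toward_ne n1 n2 hcom hQ12 h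
      refine ⟨Ne.symm hw, xb⁻¹, hx2, ?_⟩
      calc xb⁻¹ * xa * xb⁻¹⁻¹ * wa * (xb⁻¹ * xa * xb⁻¹⁻¹)⁻¹
          = xb⁻¹ * (xa * (xb * wa * xb⁻¹) * xa⁻¹) * xb := by group
        _ = wa := by rw [hf]; group
    · have hf := toward_fix n2 n1 (commutes_symm hcom) hQ12.symm h
      exact ⟨toward_ne n2 n1 (commutes_symm hcom) hQ12.symm h, xb, hx1, hf⟩
  exfalso
  obtain ⟨hw12, hsh⟩ := noncomm n1 n2 hcom
  have hw13 : xb⁻¹ * wa * xb⁻¹⁻¹ = wa := by
    calc xb⁻¹ * wa * xb⁻¹⁻¹ = xb⁻¹ * (xb * wa * xb⁻¹) * xb := by rw [← hw12]; group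
      _ = wa := by group
  have hQ13 : ker (ker S Wb) Wa ≠ ker (ker S Wb) (cj xb⁻¹ Wa) := by
    rw [hk1, hk3]; exact (hne _ (Or.inr rfl)).symm
  have hcom13 : ¬ cj xb⁻¹ Wa ≤ centralizer (Wa : Set G) := fun h => by
    rcases pair n1 n3 h hQ13 with h' | h'
    · exact toward_ne n1 n3 h hQ13 h' hw13.symm
    · exact toward_ne n3 n1 (commutes_symm h) hQ13.symm h' hw13
  have hQ23 : ker (ker S Wb) (cj xb Wa) ≠ ker (ker S Wb) (cj xb⁻¹ Wa) := by
    rw [hk2, hk3]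
    intro e
    have e1 := congrArg (cj xb) e
    rw [cj_cj, cj_cj_inv] at e1
    have h9 : xb ^ 2 ∈ normalizer (Qi : Set G) := by rw [pow_two]; exact mem_normalizer_of_cj e1
    have e2 : xb = (xb ^ 2) * (xb ^ 2) := by
      rw [← pow_add, show 2 + 2 = 3 + 1 from rfl, pow_add, nb.cube, one_mul, pow_one]
    exact hxi (e2 ▸ mul_mem h9 h9)
  have hcom23 : ¬ cj xb⁻¹ Wa ≤ centralizer (cj xb Wa : Set G) := fun h => by
    rcases pair n2 n3 h hQ23 with h' | h'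
    · exact toward_ne n2 n3 h hQ23 h' (by rw [← hw12, hw13])
    · exact toward_ne n3 n2 (commutes_symm h) hQ23.symm h' (by rw [← hw12, hw13])
  obtain ⟨u2, hu2, hu2n⟩ := SetLike.not_le_iff_exists.1 hcom
  obtain ⟨u3, hu3, hu3n⟩ := SetLike.not_le_iff_exists.1 hcom13
  have hu2S := n2.WS hu2
  have hu3S := n3.WS hu3
  have hwaS : wa ∈ ker S Wb := n1.WS n1.wW
  have hwc : wa ∈ centralizer (Wa : Set G) := (mem_inf.1 (n1.W_le_Q n1.wW)).2
  have hu2e : u2 ≠ 1 ∧ u2 ≠ xb * wa * xb⁻¹ :=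
    ⟨fun e => hu2n (e ▸ one_mem _), fun e => hu2n (e.trans hw12.symm ▸ hwc)⟩
  have hu3e : u3 ≠ 1 ∧ u3 ≠ xb⁻¹ * wa * xb⁻¹⁻¹ :=
    ⟨fun e => hu3n (e ▸ one_mem _), fun e => hu3n (e.trans hw13 ▸ hwc)⟩
  have hu3o : u3 ∉ ker (ker S Wb) (cj xb Wa) := by
    intro h
    refine hcom23 fun v hv => ?_
    have hwm : xb⁻¹ * wa * xb⁻¹⁻¹ ∈ centralizer (cj xb Wa : Set G) := by
      refine mem_cent_iff.2 fun t ht' => ?_
      rw [hw13]
      exact conj_eq_iff_comm.2 (n1.w_central (n2.WS ht')).symm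
    rcases four_cases n3.elem n3.four n3.wW hu3 n3.w1 hu3e.1 hu3e.2.symm hv with e | e | e | e <;> rw [e]
    · exact one_mem _
    · exact hwm
    · exact (mem_inf.1 h).2
    · exact mul_mem hwm (mem_inf.1 h).2
  have h32 : u3 * u2 * u3⁻¹ = u2 * wa := by
    conv_rhs => rw [hw12]
    exact n2.moves hu3S hu3o hu2 hu2e.1 hu2e.2
  set y := u2 * u3 with hy
  have hyQ : y ∈ ker (ker S Wb) Wa :=
    n1.mul_mem_Q hu2S (fun h => hu2n (mem_inf.1 h).2) hu3S (fun h => hu3n (mem_inf.1 h).2)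
  obtain ⟨u, hu, hfix⟩ := n1.exists_fixed (fun v hv => n1.Q_comm hyQ hv) (hsh y hyQ)
  have hsq : y * u * (y * u) = wa := by
    calc y * u * (y * u) = y * (u * y) * u := by group
      _ = y * (y * u) * u := by rw [n1.Q_comm hyQ hu]
      _ = y * y * (u * u) := by group
      _ = u2 * (u3 * u2 * u3⁻¹) * (u3 * u3) := by rw [n1.W_sq hu, hy]; group
      _ = (u2 * u2) * wa * (u3 * u3) := by rw [h32]; group
      _ = wa := by rw [n2.W_sq hu2, n3.W_sq hu3, one_mul, mul_one]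
  refine n1.move ?_
  calc xa * wa * xa⁻¹ = (xa * (y * u) * xa⁻¹) * (xa * (y * u) * xa⁻¹) := by rw [← hsq]; group
    _ = wa := by rw [hfix, hsq]

end Cfsg.Lib.QTLf
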