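import Cfsg.Agent.QTKE.LfEmpty.Amalgam

/-!
Two nodes on one 2-group: either the four-groups do not commute and both are short, or the kernels agree,
or one element of order 3 moves the other four-group into the product.
-/

set_option autoImplicit false
set_option linter.unusedSectionVars false
set_option linter.style.haveILetI false

namespace Cfsg.Lib.QTLf

open Subgroup Cfsg.Lib.JComp

universe u

variable {G : Type u} [Group G]

/-- `x` moves `Wb` only by elements of `Wa`. -/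
def Toward (x : G) (Wa Wb : Subgroup G) : Prop := ∀ v ∈ Wb, x * v * x⁻¹ * v ∈ Wa

/-- `x` moves the kernel of `Wa` only by elements of the kernel of `Wb`. -/
def Dir (S : Subgroup G) (x : G) (Wa Wb : Subgroup G) : Prop :=
  ∀ q ∈ ker S Wa, x * q * x⁻¹ * q⁻¹ ∈ ker S Wb

theorem span2_comm (S : Subgroup G) (x y : G) : span2 S x y = span2 S y x := sup_comm _ _

theorem commutes_symm {A B : Subgroup G} (h : A ≤ centralizer (B : Set G)) : B ≤ centralizer (A : Set G) :=
  le_centralizer_iff.1 h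

variable [Finite G] {S Wa Wb : Subgroup G} {xa xb wa wb : G}

theorem comm_of_le (hc : Wb ≤ centralizer (Wa : Set G)) {u v : G} (hu : u ∈ Wb) (hv : v ∈ Wa) : u * v = v * u :=
  (mem_centralizer_iff.1 (hc hu) v hv).symm

theorem Dir.of_eq (na : Node S xa Wa wa) (h : ker S Wa = ker S Wb) : Dir S xa Wa Wb := fun q hq => by
  rw [← h]
  exact mul_mem (conj_mem na.xQ hq) (inv_mem hq)

/-- Non-commuting four-groups: equal labels and shortness. -/
theorem noncomm (na : Node S xa Wa wa) (nb : Node S xb Wb wb) (h : ¬ Wb ≤ centralizer (Wa : Set G)) :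
    wa = wb ∧ ∀ q ∈ ker S Wa, xa * q * xa⁻¹ * q⁻¹ ∈ Wa := by
  obtain ⟨u, hu, hun⟩ := SetLike.not_le_iff_exists.1 h
  have huS : u ∈ S := nb.WS hu
  have hua : u ∉ ker S Wa := fun e => hun (mem_inf.1 e).2
  have hu1 : u ≠ 1 := fun e => hun (e ▸ one_mem _)
  have huw : u ≠ wb := fun e => hun (mem_cent_iff.2 fun v hv =>
    conj_eq_iff_comm.2 (by rw [e]; exact (nb.w_central (na.WS hv)).symm))
  set p := xa * wa * xa⁻¹ with hp
  have hpS : p ∈ S := na.WS na.p_mem
  have h1 : u * p * u⁻¹ = p * wa := na.moves huS hua na.p_mem na.p_ne_one na.move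
  have hpb : p ∉ ker S Wb := fun e => na.w1 (by
    rw [← nb.Q_comm e hu, mul_inv_cancel_right] at h1
    exact mul_eq_left.1 h1.symm)
  have h2 : p * u * p⁻¹ = u * wb := nb.moves hpS hpb hu hu1 huw
  have hw : wa = wb := by
    have e1 : u * p * u⁻¹ * p⁻¹ = wa := by
      rw [h1, show p * wa * p⁻¹ = wa from na.wc p hpS]
    have e2 : u * p * u⁻¹ * p⁻¹ = wb := by
      calc u * p * u⁻¹ * p⁻¹ = u * (p * u * p⁻¹)⁻¹ := by group
        _ = u * (u * wb)⁻¹ := by rw [h2]
        _ = u * wb⁻¹ * u⁻¹ := by group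
        _ = wb := by rw [elem_inv nb.elem nb.wW, nb.wc u huS]
    exact e1.symm.trans e2
  refine ⟨hw, na.short na.grp_normQ huS hua fun q hq => ?_⟩
  by_cases hqb : q ∈ ker S Wb
  · rw [← nb.Q_comm hqb hu, mul_inv_cancel_right, mul_inv_cancel]
    exact one_mem _
  · have hqp : q * p ∈ ker S Wb := nb.mul_mem_Q (mem_inf.1 hq).1 hqb hpS hpb
    have e : u * q * u⁻¹ * q⁻¹ = q * wa⁻¹ * q⁻¹ := by
      calc u * q * u⁻¹ * q⁻¹ = u * (q * p) * u⁻¹ * (u * p * u⁻¹)⁻¹ * q⁻¹ := by group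
        _ = q * p * (p * wa)⁻¹ * q⁻¹ := by rw [← nb.Q_comm hqp hu, mul_inv_cancel_right, h1]
        _ = q * (p * wa⁻¹ * p⁻¹) * q⁻¹ := by group
        _ = q * wa⁻¹ * q⁻¹ := by rw [elem_inv na.elem na.wW, na.wc p hpS]
    rw [e]
    exact conj_mem (na.SW (mem_inf.1 hq).1) (inv_mem na.wW)

theorem ker_ne_of_noncomm (na : Node S xa Wa wa) (nb : Node S xb Wb wb)
    (h : ¬ Wb ≤ centralizer (Wa : Set G)) : ker S Wa ≠ ker S Wb := fun e =>
  h fun _ hu => (mem_inf.1 (e.ge (nb.W_le_Q hu))).2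

theorem card_zpowers_sq {w : G} (h : w * w = 1) (h1 : w ≠ 1) : Nat.card (zpowers w) = 2 := by
  haveI : Fact (Nat.Prime 2) := ⟨Nat.prime_two⟩
  rw [Nat.card_zpowers]
  exact orderOf_eq_prime (by rw [pow_two, h]) h1

theorem Node.two_mul_card (n : Node S xa Wa wa) {A : Subgroup G} (hA : A ≤ S) (hAn : ¬ A ≤ ker S Wa) :
    Nat.card A = 2 * Nat.card ↥(A ⊓ ker S Wa) := by
  obtain ⟨a, ha, han⟩ := SetLike.not_le_iff_exists.1 hAn
  have h2 : (ker S Wa).relIndex A = 2 := by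
    rw [relIndex, index_eq_two_iff_exists_notMem_and]
    refine ⟨⟨a, ha⟩, fun h => han (mem_subgroupOf.1 h), fun b => ?_⟩
    by_cases hb : (b : G) ∈ ker S Wa
    · exact Or.inr (mem_subgroupOf.2 hb)
    · exact Or.inl (mem_subgroupOf.2 (n.mul_mem_Q (hA b.2) hb (hA ha) han))
  have h := relIndex_mul_relIndex (⊥ : Subgroup G) (A ⊓ ker S Wa) A bot_le inf_le_left
  rw [relIndex_bot_left, relIndex_bot_left, inf_comm, inf_relIndex_right, h2] at h
  rw [← h, inf_comm]
  ring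

theorem mem_omega_core (na : Node S xa Wa wa) {v : G} (hv : v ∈ coreIn S (span2 S xa xb)) (hvW : v ∈ Wa) :
    v ∈ Cfsg.omegaCenterOf (coreIn S (span2 S xa xb)) :=
  mem_omegaCenterOf.2 ⟨hv, fun _ hr => na.Q_comm (core_le_left na hr) hvW, na.W_sq hvW⟩

theorem span_norm_omega (S : Subgroup G) (x y : G) :
    span2 S x y ≤ normalizer (Cfsg.omegaCenterOf (coreIn S (span2 S x y)) : Set G) :=
  (coreIn_norm _ _).trans (normalizer_le_omegaCenterOf _)

/-- The part of `S` centralizing `Ω₁Z` of the core lies in it. -/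
theorem cent_omega_le (na : Node S xa Wa wa) (nb : Node S xb Wb wb)
    (ha : xa ∉ centralizer (Cfsg.omegaCenterOf (coreIn S (span2 S xa xb)) : Set G))
    (hb : xb ∉ centralizer (Cfsg.omegaCenterOf (coreIn S (span2 S xa xb)) : Set G)) :
    centralizer (Cfsg.omegaCenterOf (coreIn S (span2 S xa xb)) : Set G) ⊓ S ≤
      coreIn S (span2 S xa xb) := by
  set X := span2 S xa xb
  set C := centralizer (Cfsg.omegaCenterOf (coreIn S X) : Set G)
  have hXC : X ≤ normalizer (C : Set G) := le_normalizer_of_conj fun g hg c hc =>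
    mem_cent_conj (span_norm_omega S xa xb hg) hc
  have key : ∀ {W : Subgroup G} {x w : G}, Node S x W w → Node.grp S x ≤ X → x ∉ C →
      Node.grp S x ≤ normalizer ((C ⊓ S : Subgroup G) : Set G) := by
    intro W x w n hPX hx
    have h1 : C ⊓ S = C ⊓ Node.grp S x := le_antisymm (inf_le_inf_left _ le_sup_left)
      (le_inf inf_le_left ((n.core_case (hPX.trans hXC) hx).trans inf_le_left))
    rw [h1]
    exact Cfsg.Lib.Coprime.le_normalizer_inf (hPX.trans hXC) le_normalizer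
  exact le_coreIn inf_le_right (inf_le_right.trans ((le_sup_left : S ≤ Node.grp S xa).trans le_sup_left))
    (sup_le (key na le_sup_left ha) (key nb le_sup_right hb))

theorem side_or_le (na : Node S xa Wa wa) (nb : Node S xb Wb wb) (hWb : Wb ≤ coreIn S (span2 S xa xb)) :
    Toward xa Wa Wb ∨ Wa ≤ coreIn S (span2 S xa xb) := by
  have hcomm := span2_comm S xa xb
  have hWV : Wb ≤ Cfsg.omegaCenterOf (coreIn S (span2 S xa xb)) := fun v hv => by
    rw [hcomm] at hWb ⊢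
    exact mem_omega_core nb (hWb hv) hv
  by_cases hx : xa ∈ centralizer (Wb : Set G)
  · refine Or.inl fun v hv => ?_
    rw [mem_cent_iff.1 hx v hv, nb.W_sq hv]
    exact one_mem _
  · refine Or.inr fun v hv => cent_omega_le na nb (fun h => hx (centralizer_le hWV h))
      (fun h => nb.move (mem_cent_iff.1 h _ (hWV nb.wW))) (mem_inf.2 ⟨?_, na.WS hv⟩)
    exact mem_cent_iff.2 fun r hr =>
      conj_eq_iff_comm.2 (na.Q_comm (core_le_left na (omegaCenterOf_le _ hr)) hv).symm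

theorem offender_step (na : Node S xa Wa wa) (nb : Node S xb Wb wb) (hWa : Wa ≤ coreIn S (span2 S xa xb))
    (hWb : Wb ≤ coreIn S (span2 S xa xb)) {A : Subgroup G} (hA : MaxE S A)
    (hmax : ∀ B, MaxE S B → ¬ B ≤ coreIn S (span2 S xa xb) →
      Nat.card ↥(B ⊓ coreIn S (span2 S xa xb)) ≤ Nat.card ↥(A ⊓ coreIn S (span2 S xa xb)))
    (hAn : ¬ A ≤ ker S Wa) : Toward xa Wa Wb := by
  set R := coreIn S (span2 S xa xb)
  set V := Cfsg.omegaCenterOf R
  have hRQ : R ≤ ker S Wa := core_le_left na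
  obtain ⟨a, ha, han⟩ := SetLike.not_le_iff_exists.1 hAn
  have haS := hA.1 ha
  set p := xa * wa * xa⁻¹ with hp
  have hpA : p ∉ A := fun h => by
    rcases na.fixed_of_moves haS han na.p_mem (conj_eq_iff_comm.2 (elem_comm hA.2.1 ha h)) with e | e
    · exact na.p_ne_one e
    · exact na.move e
  -- `(A ∩ Q) W` is again of largest order
  have hel : Cfsg.IsElementaryAbelian 2 (A ⊓ ker S Wa ⊔ Wa : Subgroup G) :=
    Cfsg.Lib.ElemToolkit.elementary_sup (Cfsg.Lib.ElemToolkit.elementary_mono inf_le_left hA.2.1) na.elem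
      fun b hb v hv => na.Q_comm (mem_inf.1 hb).2 hv
  have hAc := na.two_mul_card hA.1 hAn
  have hint : Nat.card ↥((A ⊓ ker S Wa) ⊓ Wa) ≤ 2 := by
    refine (card_zpowers_sq (na.W_sq na.wW) na.w1) ▸ Cfsg.Lib.ElemToolkit.card_le_card_of_le fun v hv => ?_
    obtain ⟨hvA, hvW⟩ := mem_inf.1 hv
    rcases na.fixed_of_moves haS han hvW (conj_eq_iff_comm.2 (elem_comm hA.2.1 ha (mem_inf.1 hvA).1)) with e | e
    · exact e ▸ one_mem _
    · exact e ▸ mem_zpowers _
  have hcard : Nat.card A ≤ Nat.card ↥(A ⊓ ker S Wa ⊔ Wa) := by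
    have h1 := Cfsg.Lib.ElemToolkit.mul_card_le (A ⊓ ker S Wa) Wa
    rw [na.four] at h1
    have h3 := h1.trans (Nat.mul_le_mul_left _ hint)
    omega
  set A' := A ⊓ ker S Wa ⊔ Wa
  have hA' : MaxE S A' := ⟨sup_le (inf_le_right.trans inf_le_left) na.WS, hel,
    fun D hD hDe => (hA.2.2 D hD hDe).trans hcard⟩
  have hlt : Nat.card ↥(A ⊓ R) < Nat.card ↥(A' ⊓ R) := by
    have h1 : A ⊓ R ≤ A' ⊓ R := le_inf ((inf_le_inf_left A hRQ).trans le_sup_left) inf_le_right
    refine lt_of_le_of_ne (Cfsg.Lib.ElemToolkit.card_le_card_of_le h1) fun e => hpA ?_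
    have h2 : p ∈ A' ⊓ R := mem_inf.2 ⟨mem_sup_right na.p_mem, hWa na.p_mem⟩
    exact (mem_inf.1 (eq_of_le_of_card_ge h1 e.ge ▸ h2)).1
  have hAR : A' ≤ R := by
    by_contra hn
    exact absurd (hmax A' hA' hn) (not_le.2 hlt)
  have heq : A ⊓ ker S Wa = A ⊓ R := le_antisymm (le_inf inf_le_left (le_sup_left.trans hAR))
    (inf_le_inf_left A hRQ)
  have hVR : ∀ v ∈ V, ∀ r ∈ R, r * v = v * r := fun v hv r hr => (mem_omegaCenterOf.1 hv).2.1 r hr
  -- the subgroup of `V` centralized by `a`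
  have hVS : V ≤ S := (omegaCenterOf_le _).trans (coreIn_le _ _)
  have hAV : Cfsg.IsElementaryAbelian 2 (A ⊓ R ⊔ V : Subgroup G) :=
    Cfsg.Lib.ElemToolkit.elementary_sup (Cfsg.Lib.ElemToolkit.elementary_mono inf_le_left hA.2.1)
      (elem_omegaCenterOf _) fun b hb v hv => hVR v hv b (mem_inf.1 hb).2
  have hV2 : Nat.card V ≤ 2 * Nat.card ↥((A ⊓ R) ⊓ V) := by
    have h1 := Cfsg.Lib.ElemToolkit.mul_card_le (A ⊓ R) V
    have h2 := hA.2.2 _ (sup_le (inf_le_left.trans hA.1) hVS) hAV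
    rw [hAc, heq] at h2
    have h3 := h1.trans (Nat.mul_le_mul_right _ h2)
    have h4 : 0 < Nat.card ↥(A ⊓ R) := Nat.card_pos
    nlinarith
  set V' := (A ⊓ R) ⊓ V with hV'
  have hpV : p ∈ V := mem_omega_core na (hWa na.p_mem) na.p_mem
  have hVeq : V' ⊔ zpowers p = V := by
    refine eq_of_le_of_card_ge (sup_le inf_le_right (zpowers_le.2 hpV)) ?_
    have h1 := Cfsg.Lib.ElemToolkit.mul_card_le V' (zpowers p)
    rw [card_zpowers_sq (na.W_sq na.p_mem) na.p_ne_one, show V' ⊓ zpowers p = ⊥ from ?_, card_bot, mul_one] at h1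
    · omega
    · refine eq_bot_iff.2 fun v hv => mem_bot.2 ?_
      obtain ⟨hvV, hvp⟩ := mem_inf.1 hv
      have hvA : v ∈ A := (mem_inf.1 (mem_inf.1 hvV).1).1
      rcases na.fixed_of_moves haS han (zpowers_le.2 na.p_mem hvp)
        (conj_eq_iff_comm.2 (elem_comm hA.2.1 ha hvA)) with e | e
      · exact e
      · exfalso
        have h2 : zpowers v = zpowers p := eq_of_le_of_card_ge (zpowers_le.2 hvp) (by
          rw [card_zpowers_sq (na.W_sq na.p_mem) na.p_ne_one, e, card_zpowers_sq (na.W_sq na.wW) na.w1])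
        exact hpA (zpowers_le.2 hvA (h2.ge (mem_zpowers p)))
  have hmove : ∀ m ∈ V, a * m * a⁻¹ * m⁻¹ ∈ Wa := by
    intro m hm
    rw [← hVeq] at hm
    obtain ⟨v, hv, y, hy, rfl⟩ := (Cfsg.Lib.Coprime.mem_sup_of_le_normalizer (fun y hy =>
      centralizer_le_normalizer _ (mem_centralizer_iff.2 fun v hv =>
        elem_comm (elem_omegaCenterOf R) (mem_inf.1 hv).2 (zpowers_le.2 hpV hy)) : zpowers p ≤
          normalizer (V' : Set G))).1 hm
    have hyW : y ∈ Wa := zpowers_le.2 na.p_mem hy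
    obtain ⟨hvAR, -⟩ := mem_inf.1 hv
    have hc : a * v * a⁻¹ = v := conj_eq_iff_comm.2 (elem_comm hA.2.1 ha (mem_inf.1 hvAR).1)
    rw [show a * (v * y) * a⁻¹ * (v * y)⁻¹ = (a * v * a⁻¹) * (a * y * a⁻¹ * y⁻¹) * v⁻¹ by group, hc]
    exact conj_mem (na.SW (hA.1 (mem_inf.1 hvAR).1)) (mul_mem (conj_mem (na.SW haS) hyW) (inv_mem hyW))
  have hs := na.short (M := V) ((le_sup_left (b := Node.grp S xb)).trans (span_norm_omega S xa xb)) haS han hmove
  intro v hv
  have hvV : v ∈ V := by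
    have e := span2_comm S xa xb
    show v ∈ Cfsg.omegaCenterOf (coreIn S (span2 S xa xb))
    have hR : v ∈ coreIn S (span2 S xa xb) := hWb hv
    rw [e] at hR ⊢
    exact mem_omega_core nb hR hv
  have h := hs v hvV
  rwa [elem_inv nb.elem hv] at h

/-- The pair theorem. -/
theorem pair (na : Node S xa Wa wa) (nb : Node S xb Wb wb) (hc : Wb ≤ centralizer (Wa : Set G))
    (hQ : ker S Wa ≠ ker S Wb) : Toward xa Wa Wb ∨ Toward xb Wb Wa := by
  set X := span2 S xa xb with hX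
  set R := coreIn S X with hR
  have hswap : coreIn S (span2 S xb xa) = R := by rw [span2_comm]
  have hRa : Node.grp S xa ≤ normalizer (R : Set G) := (le_sup_left (b := Node.grp S xb)).trans (coreIn_norm _ _)
  have hRb : Node.grp S xb ≤ normalizer (R : Set G) := (le_sup_right (a := Node.grp S xa)).trans (coreIn_norm _ _)
  by_cases hWb : Wb ≤ R
  · by_cases hWa : Wa ≤ R
    swap
    · exact Or.inl ((side_or_le na nb hWb).resolve_right hWa)
    -- both four-groups in the core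
    obtain ⟨A0, hA0, hA0n⟩ := na.offend
    have hA0R : ¬ A0 ≤ R := fun h => hA0n ((h.trans (core_le_left na)).trans inf_le_right)
    obtain ⟨A, ⟨hA, hAR⟩, hmax⟩ := Set.exists_max_image {A : Subgroup G | MaxE S A ∧ ¬ A ≤ R}
      (fun A => Nat.card ↥(A ⊓ R)) (Set.toFinite _) ⟨A0, hA0, hA0R⟩
    have hmax' : ∀ B, MaxE S B → ¬ B ≤ R → Nat.card ↥(B ⊓ R) ≤ Nat.card ↥(A ⊓ R) :=
      fun B hB hBn => hmax B ⟨hB, hBn⟩
    set 𝒜 := {B : Subgroup G | MaxE S B ∧ ¬ B ≤ R ∧ Nat.card ↥(B ⊓ R) = Nat.card ↥(A ⊓ R)} with h𝒜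
    by_cases hall : ∀ B ∈ 𝒜, B ≤ ker S Wa ⊓ ker S Wb
    · exfalso
      have hinv : ∀ {g : G}, g ∈ normalizer (R : Set G) → ∀ {Q : Subgroup G}, Q ≤ S →
          g ∈ normalizer (Q : Set G) → ∀ B ∈ 𝒜, B ≤ Q → cj g B ∈ 𝒜 := by
        intro g hgR Q hQS hgQ B hB hBQ
        obtain ⟨hBm, hBn, hBc⟩ := hB
        refine ⟨⟨((Subgroup.map_mono hBQ).trans (cj_eq_self hgQ).le).trans hQS, elem_cj hBm.2.1 g,
          fun D hD hDe => by rw [card_cj]; exact hBm.2.2 D hD hDe⟩, fun h => hBn fun b hb => ?_, ?_⟩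
        · have := mem_cj.1 ((cj_eq_self hgR).ge (h (conj_mem_cj (g := g) hb)))
          simpa [mul_assoc] using this
        · rw [← hBc, ← card_cj g (B ⊓ R), show cj g (B ⊓ R) = cj g B ⊓ cj g R from
            Subgroup.map_inf _ _ _ (MulAut.conj g).injective, cj_eq_self hgR]
      set U := sSup 𝒜
      have hUS : U ≤ S := sSup_le fun B hB => hB.1.1
      have hnU : ∀ {W : Subgroup G} {x w : G}, Node S x W w → Node.grp S x ≤ normalizer (R : Set G) →
          (∀ B ∈ 𝒜, B ≤ ker S W) → Node.grp S x ≤ normalizer (U : Set G) := fun n hn hle g hg =>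
        mem_normalizer_sSup fun B hB => le_sSup (hinv (hn hg) inf_le_left (n.grp_normQ hg) B hB (hle B hB))
      have hUR : U ≤ R := le_coreIn hUS (hUS.trans ((le_sup_left : S ≤ Node.grp S xa).trans le_sup_left))
        (sup_le (hnU na hRa fun B hB => (hall B hB).trans inf_le_left)
          (hnU nb hRb fun B hB => (hall B hB).trans inf_le_right))
      exact hAR ((le_sSup (show A ∈ 𝒜 from ⟨hA, hAR, rfl⟩)).trans hUR)
    · push Not at hall
      obtain ⟨B, ⟨hB, hBn, hBc⟩, hBQ⟩ := hall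
      have hmB : ∀ D, MaxE S D → ¬ D ≤ R → Nat.card ↥(D ⊓ R) ≤ Nat.card ↥(B ⊓ R) :=
        fun D hD hDn => hBc ▸ hmax' D hD hDn
      by_cases hBa : B ≤ ker S Wa
      · refine Or.inr (offender_step nb na (hswap ▸ hWb) (hswap ▸ hWa) hB (hswap ▸ hmB)
          fun hBb => hBQ (le_inf hBa hBb))
      · exact Or.inl (offender_step na nb hWa hWb hB hmB hBa)
  · by_cases hWa : Wa ≤ R
    · refine Or.inr ((side_or_le nb na (hswap.symm ▸ hWa)).resolve_right fun h => hWb (hswap ▸ h))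
    -- both outside the core
    exfalso
    have ha := na.inf_eq_bot (hRa (mem_sup_right (mem_zpowers xa))) hWa
    have hb := nb.inf_eq_bot (hRb (mem_sup_right (mem_zpowers xb))) hWb
    have h48 := amalgam_bound na nb hQ ha hb
    rw [← relIndex_mul_relIndex R S (Node.grp S xa) (coreIn_le _ _) le_sup_left, na.index_three] at h48
    have h16 : R.relIndex S ∣ 16 := Nat.dvd_of_mul_dvd_mul_right (by norm_num : 0 < 3) h48
    rw [← relIndex_mul_relIndex R (ker S Wa) S (core_le_left na) inf_le_left, na.index_two] at h16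
    have h8 : R.relIndex (ker S Wa) ∣ 8 := Nat.dvd_of_mul_dvd_mul_right (by norm_num : 0 < 2) h16
    set Qi := ker S Wa ⊓ ker S Wb with hQi
    have hRi : R ≤ Qi := le_inf (core_le_left na) (core_le_right nb)
    rw [← relIndex_mul_relIndex R Qi (ker S Wa) hRi inf_le_left] at h8
    have h4 : R.relIndex Qi ≤ 4 := by
      have h1 : Qi.relIndex (ker S Wa) ≠ 1 := fun e => by
        obtain ⟨d, hd, hdn⟩ := exists_diff na nb hQ
        exact hdn (mem_inf.1 (relIndex_eq_one.1 e hd)).2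
      have h2 := Nat.le_of_dvd (by norm_num) h8
      have h3 : Qi.relIndex (ker S Wa) ≠ 0 := fun e => by
        have := relIndex_dvd_card Qi (ker S Wa)
        rw [e, zero_dvd_iff] at this
        exact Nat.card_pos.ne' this
      have h5 : 2 ≤ Qi.relIndex (ker S Wa) := by omega
      nlinarith
    have hV : ∀ {W : Subgroup G} {x w : G}, Node S x W w → Node.grp S x ≤ normalizer (R : Set G) →
        W ⊓ R = ⊥ → W ≤ Qi → W ⊔ R = Qi ∧ Node.grp S x ≤ normalizer ((W ⊔ R : Subgroup G) : Set G) := by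
      intro W x w n hn hWR hWQ
      refine ⟨?_, fun g hg => mem_normalizer_of_cj (by
        rw [show cj g (W ⊔ R) = cj g W ⊔ cj g R from Subgroup.map_sup _ _ _, cj_eq_self (n.grp_normW hg),
          cj_eq_self (hn hg)])⟩
      refine le_antisymm (sup_le hWQ hRi) (relIndex_eq_one.1 ?_)
      have h1 := relIndex_mul_relIndex R (W ⊔ R) Qi le_sup_right (sup_le hWQ hRi)
      have h2 : R.relIndex (W ⊔ R) = 4 := by
        have hWn : W ≤ normalizer (R : Set G) := n.WS.trans ((le_sup_left : S ≤ Node.grp S x).trans hn)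
        haveI : (R.subgroupOf (W ⊔ R)).Normal :=
          normal_subgroupOf_of_le_normalizer (sup_le hWn le_normalizer)
        have e := Subgroup.relIndex_sup_right (H := W.subgroupOf (W ⊔ R)) (K := R.subgroupOf (W ⊔ R))
        rw [← subgroupOf_sup le_sup_left le_sup_right, subgroupOf_self, relIndex_top_right,
          relIndex_subgroupOf le_sup_left] at e
        change R.relIndex (W ⊔ R) = R.relIndex W at e
        rw [e, ← inf_relIndex_right, inf_comm, hWR, relIndex_bot_left, n.four]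
      rw [h2] at h1
      have h3 : (W ⊔ R).relIndex Qi ≠ 0 := fun e => by
        have := relIndex_dvd_card (W ⊔ R) Qi
        rw [e, zero_dvd_iff] at this
        exact Nat.card_pos.ne' this
      omega
    obtain ⟨ea, hna⟩ := hV na hRa ha (le_inf na.W_le_Q (le_inf na.WS (commutes_symm hc)))
    obtain ⟨eb, hnb⟩ := hV nb hRb hb (le_inf (le_inf nb.WS hc) nb.W_le_Q)
    rw [ea] at hna
    rw [eb] at hnb
    have hQiS : Qi ≤ S := inf_le_left.trans inf_le_left
    have hle := le_coreIn hQiS (hQiS.trans ((le_sup_left : S ≤ Node.grp S xa).trans le_sup_left))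
      (sup_le hna hnb)
    exact hWa ((le_inf na.W_le_Q (le_inf na.WS (commutes_symm hc))).trans hle)

theorem toward_fix (na : Node S xa Wa wa) (nb : Node S xb Wb wb) (hc : Wb ≤ centralizer (Wa : Set G))
    (hQ : ker S Wa ≠ ker S Wb) (ht : Toward xa Wa Wb) : xa * wb * xa⁻¹ = wb := by
  obtain ⟨d, hd, hdn⟩ := exists_diff na nb hQ
  set p := xb * wb * xb⁻¹ with hp
  have hpW : p ∈ Wb := nb.p_mem
  have hdp : d * p * d⁻¹ = p * wb := nb.moves (mem_inf.1 hd).1 hdn hpW nb.p_ne_one nb.move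
  set r := xa * p * xa⁻¹ * p with hr
  have hrW : r ∈ Wa := ht p hpW
  have hxp : xa * p * xa⁻¹ = r * p := by rw [hr, mul_assoc (xa * p * xa⁻¹) p p, nb.W_sq hpW, mul_one]
  set d' := xa * d * xa⁻¹ with hd'
  have hd'Q : d' ∈ ker S Wa := conj_mem na.xQ hd
  have e1 : r * (p * (xa * wb * xa⁻¹)) = r * (d' * p * d'⁻¹) := by
    calc r * (p * (xa * wb * xa⁻¹)) = (xa * p * xa⁻¹) * (xa * wb * xa⁻¹) := by rw [hxp]; exact (mul_assoc r p _).symm
      _ = xa * (p * wb) * xa⁻¹ := by group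
      _ = xa * (d * p * d⁻¹) * xa⁻¹ := by rw [hdp]
      _ = d' * (xa * p * xa⁻¹) * d'⁻¹ := by rw [hd']; group
      _ = (d' * r * d'⁻¹) * (d' * p * d'⁻¹) := by rw [hxp]; group
      _ = _ := by rw [conj_eq_iff_comm.2 (na.Q_comm hd'Q hrW)]
  have e2 := mul_left_cancel e1
  rcases nb.comm_cases (mem_inf.1 hd'Q).1 hpW with h | h <;> rw [h] at e2
  · refine absurd ?_ nb.w1
    have h1 : xa * wb * xa⁻¹ = 1 := mul_eq_left.1 e2
    calc wb = xa⁻¹ * (xa * wb * xa⁻¹) * xa := by group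
      _ = 1 := by rw [h1]; group
  · exact mul_left_cancel e2

theorem toward_ne (na : Node S xa Wa wa) (nb : Node S xb Wb wb) (hc : Wb ≤ centralizer (Wa : Set G))
    (hQ : ker S Wa ≠ ker S Wb) (ht : Toward xa Wa Wb) : wa ≠ wb := fun e =>
  na.move (e ▸ toward_fix na nb hc hQ ht)

theorem toward_dir (na : Node S xa Wa wa) (nb : Node S xb Wb wb) (hc : Wb ≤ centralizer (Wa : Set G))
    (hQ : ker S Wa ≠ ker S Wb) (ht : Toward xa Wa Wb) : Dir S xa Wa Wb := by
  have hfix := toward_fix na nb hc hQ ht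
  intro q hq
  have hq' : xa * q * xa⁻¹ ∈ ker S Wa := conj_mem na.xQ hq
  have hqS := (mem_inf.1 hq).1
  have key : ∀ v ∈ Wb, (xa * q * xa⁻¹) * v * (xa * q * xa⁻¹)⁻¹ = q * v * q⁻¹ := by
    intro v hv
    set r := xa * v * xa⁻¹ * v with hr
    have hrW : r ∈ Wa := ht v hv
    set r2 := xa⁻¹ * r * xa with hr2
    have hr2W : r2 ∈ Wa := by
      have := conj_mem (inv_mem na.xW) hrW
      rwa [inv_inv] at this
    have e : xa⁻¹ * v * xa = r2 * v := by
      have h1 : xa * (r2 * v) * xa⁻¹ = r * (r * v) := by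
        calc xa * (r2 * v) * xa⁻¹ = r * (xa * v * xa⁻¹) := by rw [hr2]; group
          _ = _ := by rw [hr, mul_assoc (xa * v * xa⁻¹) v v, nb.W_sq hv, mul_one]
      rw [← mul_assoc r r v, na.W_sq hrW, one_mul] at h1
      conv_lhs => rw [← h1]
      group
    obtain ⟨ε, hε, hεq⟩ : ∃ ε, xa * ε * xa⁻¹ = ε ∧ q * v * q⁻¹ = v * ε := by
      rcases nb.comm_cases hqS hv with h | h
      · exact ⟨1, by group, by rw [h, mul_one]⟩
      · exact ⟨wb, hfix, h⟩
    calc (xa * q * xa⁻¹) * v * (xa * q * xa⁻¹)⁻¹ = xa * (q * (xa⁻¹ * v * xa) * q⁻¹) * xa⁻¹ := by group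
      _ = xa * ((q * r2 * q⁻¹) * (q * v * q⁻¹)) * xa⁻¹ := by rw [e]; group
      _ = xa * (r2 * v) * xa⁻¹ * (xa * ε * xa⁻¹) := by
        rw [conj_eq_iff_comm.2 (na.Q_comm hq hr2W), hεq]; group
      _ = v * ε := by rw [hε, ← e]; group
      _ = _ := hεq.symm
  refine mem_inf.2 ⟨S.mul_mem (mem_inf.1 hq').1 (inv_mem hqS), mem_cent_iff.2 fun v hv => ?_⟩
  have hv0 := conj_mem (inv_mem (nb.SW hqS)) hv
  calc xa * q * xa⁻¹ * q⁻¹ * v * (xa * q * xa⁻¹ * q⁻¹)⁻¹
      = (xa * q * xa⁻¹) * (q⁻¹ * v * q⁻¹⁻¹) * (xa * q * xa⁻¹)⁻¹ := by group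
    _ = q * (q⁻¹ * v * q⁻¹⁻¹) * q⁻¹ := key _ hv0
    _ = v := by group

end Cfsg.Lib.QTLf
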