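import Cfsg.Agent.QTKE.LfEmpty.Local
import Cfsg.Agent.S1823

/-!
Orbits of components under `T` and the push-up to a common member of `ℋ(T)`.
-/

set_option autoImplicit false
set_option linter.unusedSectionVars false
set_option linter.style.haveILetI false

namespace Cfsg.Lib.QTLf

open Subgroup Cfsg.Lib.JComp

universe u

variable {G : Type u} [Group G] [Finite G]

theorem relIndex_sup_normalized {A B : Subgroup G} (h : B ≤ normalizer (A : Set G)) :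
    A.relIndex (A ⊔ B) = A.relIndex B := by
  haveI : (A.subgroupOf (A ⊔ B)).Normal := normal_subgroupOf_of_le_normalizer (sup_le le_normalizer h)
  have e := Subgroup.relIndex_sup_right (H := B.subgroupOf (A ⊔ B)) (K := A.subgroupOf (A ⊔ B))
  rw [← subgroupOf_sup le_sup_right le_sup_left, sup_comm B A, subgroupOf_self, relIndex_top_right,
    relIndex_subgroupOf le_sup_right] at e
  exact e

theorem mul_pow_mem {N : Subgroup G} {e g : G} (hg : g ∈ normalizer (N : Set G)) (he : e ∈ N) (i : ℕ) :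
    (e * g) ^ i * (g ^ i)⁻¹ ∈ N := by
  induction i with
  | zero => simp
  | succ i ih =>
    rw [pow_succ', pow_succ', show e * g * (e * g) ^ i * (g * g ^ i)⁻¹ =
      e * (g * ((e * g) ^ i * (g ^ i)⁻¹) * g⁻¹) by group]
    exact mul_mem he (conj_mem hg ih)

/-- An orbit of `T` on components: one or two components. -/
structure Orb (T K1 K2 : Subgroup G) (x1 w1 x2 w2 : G) : Prop where
  c1 : CN T K1 x1 w1
  c2 : CN T K2 x2 w2
  loc : ∃ L ∈ Cfsg.calHOver T, K1 ≤ L ∧ K2 ≤ L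
  perm : ∀ s ∈ T, (cj s K1 = K1 ∧ cj s K2 = K2) ∨ (cj s K1 = K2 ∧ cj s K2 = K1)
  swap : ∃ t ∈ T, cj t K1 = K2

/-- The common kernel of an orbit. -/
abbrev qOrb (T K1 K2 : Subgroup G) : Subgroup G :=
  ker (T1 T) (Cfsg.wOf K1) ⊓ ker (T1 T) (Cfsg.wOf K2)

variable {T : Sylow 2 G} (h : Hyps T)

include h

theorem Hyps.exists_orb {K : Subgroup G} {x w : G} (hK : IsK (T : Subgroup G) K)
    (c : CN (T : Subgroup G) K x w) :
    ∃ K2 x2 w2, Orb (T : Subgroup G) K K2 x w x2 w2 ∧ ((T : Subgroup G) ≤ normalizer (K : Set G) → K2 = K) := by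
  obtain ⟨L, hs, -, hKL, hL⟩ := hK
  have hTJ : (T : Subgroup G) ≤ normalizer (Jof (T : Subgroup G) : Set G) :=
    le_normalizer.trans (Cfsg.Lib.Thompson.normalizer_le_normalizer_thompson _)
  by_cases hsing : (T : Subgroup G) ≤ normalizer (K : Set G)
  · exact ⟨K, x, w, ⟨c, c, ⟨L, hL, hKL, hKL⟩, fun s hs => Or.inl ⟨cj_eq_self (hsing hs), cj_eq_self (hsing hs)⟩,
      1, one_mem _, cj_one K⟩, fun _ => rfl⟩
  obtain ⟨t, ht, htn⟩ := SetLike.not_le_iff_exists.1 hsing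
  have hne : K ≠ cj t K := fun e => htn (mem_normalizer_of_cj e.symm)
  obtain ⟨hK2, hK2L⟩ := h.conj_IsK hs c.comp hKL (hL.2 ht) (hTJ ht)
  refine ⟨cj t K, t * x * t⁻¹, t * w * t⁻¹, ⟨c, c.conj h (hTJ ht), ⟨L, hL, hKL, hK2L⟩, fun s hs' => ?_, t, ht, rfl⟩,
    fun e => absurd e hsing⟩
  obtain ⟨ha, haL⟩ := h.conj_IsK hs c.comp hKL (hL.2 hs') (hTJ hs')
  obtain ⟨hb, hbL⟩ := h.conj_IsK hs hK2 hK2L (hL.2 hs') (hTJ hs')
  have hinj : ∀ {A B : Subgroup G}, cj s A = cj s B → A = B := fun {A B} e => by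
    have := congrArg (cj s⁻¹) e
    rwa [cj_inv_cj, cj_inv_cj] at this
  rcases h.comps_two hL hs c.comp hKL hK2 hK2L ha haL hne with e | e <;>
    rcases h.comps_two hL hs c.comp hKL hK2 hK2L hb hbL hne with e' | e'
  · exact absurd (hinj (e.trans e'.symm)) hne
  · exact Or.inl ⟨e, e'⟩
  · exact Or.inr ⟨e, e'⟩
  · exact absurd (hinj (e.trans e'.symm)) hne

omit h in
theorem CN.oddGen_eq {K : Subgroup G} {x w : G} (c : CN (T : Subgroup G) K x w) : oddGen K = K :=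
  (tri_of_comp c.comp).gen

theorem core_le_dir {K K' : Subgroup G} {x w : G} (c : CN (T : Subgroup G) K x w)
    (hW' : T1 (T : Subgroup G) ≤ normalizer (Cfsg.wOf K' : Set G))
    (hd : Dir (T1 (T : Subgroup G)) x (Cfsg.wOf K) (Cfsg.wOf K')) :
    Cfsg.pCoreOf 2 K ≤ ker (T1 (T : Subgroup G)) (Cfsg.wOf K') := by
  set S := T1 (T : Subgroup G)
  set Qa := ker S (Cfsg.wOf K)
  set Qb := ker S (Cfsg.wOf K')
  have hQbn : S ≤ normalizer (Qb : Set G) := le_normalizer_of_conj fun s hs q hq =>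
    mem_inf.2 ⟨S.mul_mem (S.mul_mem hs (mem_inf.1 hq).1) (inv_mem hs), mem_cent_conj (hW' hs) (mem_inf.1 hq).2⟩
  set D := Qa ⊓ Qb
  have hxD : x ∈ normalizer (D : Set G) := mem_normalizer_of_cj_le (by
    rintro _ ⟨q, hq, rfl⟩
    obtain ⟨hqa, hqb⟩ := mem_inf.1 hq
    show x * q * x⁻¹ ∈ D
    refine mem_inf.2 ⟨conj_mem c.node.xQ hqa, ?_⟩
    rw [show x * q * x⁻¹ = (x * q * x⁻¹ * q⁻¹) * q by group]
    exact mul_mem (hd q hqa) hqb)
  have hQD : Qa ≤ normalizer (D : Set G) := Cfsg.Lib.Coprime.le_normalizer_inf le_normalizer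
    ((inf_le_left : Qa ≤ S).trans hQbn)
  set M := D ⊔ zpowers x
  have hQM : Qa ≤ normalizer (M : Set G) := fun q hq => mem_normalizer_of_cj_le (by
    rw [show cj q M = cj q D ⊔ cj q (zpowers x) from Subgroup.map_sup _ _ _, cj_eq_self (hQD hq), cj,
      MonoidHom.map_zpowers]
    refine sup_le le_sup_left (zpowers_le.2 ?_)
    show q * x * q⁻¹ ∈ M
    rw [show q * x * q⁻¹ = (q * x * q⁻¹ * x⁻¹) * x by group]
    refine mul_mem (mem_sup_left (mem_inf.2 ⟨c.node.commute_Q hq, ?_⟩)) (mem_sup_right (mem_zpowers x))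
    have h1 := conj_mem (hQbn (mem_inf.1 hq).1) (hd q⁻¹ (inv_mem hq))
    have e : q * (x * q⁻¹ * x⁻¹ * q⁻¹⁻¹) * q⁻¹ = q * x * q⁻¹ * x⁻¹ := by group
    rwa [e] at h1)
  have hKM : K ≤ M := by
    rw [← c.oddGen_eq]
    refine (closure_le _).2 fun k hk => mem_of_two_power_index (sup_le le_normalizer hQM)
      (relIndex_sup_two_pow (c.node.two.to_le inf_le_left) hQM) ?_ hk.2
    have h1 : K ≤ M ⊔ Qa := by
      conv_lhs => rw [c.gen]
      exact sup_le (c.core.trans le_sup_right) (zpowers_le.2 (mem_sup_left (mem_sup_right (mem_zpowers x))))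
    exact h1 hk.1
  intro o ho
  obtain ⟨d, hd', z, hz, rfl⟩ := (Cfsg.Lib.Coprime.mem_sup_of_le_normalizer
    (zpowers_le.2 hxD : zpowers x ≤ normalizer (D : Set G))).1 (hKM (JComp.pCoreOf_le K ho))
  have hzS : z ∈ S := by
    have := S.mul_mem (inv_mem (mem_inf.1 (mem_inf.1 hd').1).1) (mem_inf.1 (c.core ho)).1
    rwa [inv_mul_cancel_left] at this
  rw [eq_one_of_odd c.node.two hzS (Odd.of_dvd_nat c.node.x_odd (orderOf_dvd_of_mem_zpowers hz)), mul_one]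
  exact (mem_inf.1 hd').2

namespace Orb

variable {K1 K2 : Subgroup G} {x1 w1 x2 w2 : G} (o : Orb (T : Subgroup G) K1 K2 x1 w1 x2 w2)

include o

omit h in
theorem symm : Orb (T : Subgroup G) K2 K1 x2 w2 x1 w1 := by
  obtain ⟨L, hL, h1, h2⟩ := o.loc
  obtain ⟨t, ht, he⟩ := o.swap
  refine ⟨o.c2, o.c1, ⟨L, hL, h2, h1⟩, fun s hs => (o.perm s hs).imp And.symm And.symm, t⁻¹, inv_mem ht, ?_⟩
  rw [← he, cj_inv_cj]

omit h in
theorem T_norm : (T : Subgroup G) ≤ normalizer ((K1 ⊔ K2 : Subgroup G) : Set G) := fun s hs =>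
  mem_normalizer_of_cj (by
    rw [show cj s (K1 ⊔ K2) = cj s K1 ⊔ cj s K2 from Subgroup.map_sup _ _ _]
    rcases o.perm s hs with ⟨e1, e2⟩ | ⟨e1, e2⟩ <;> rw [e1, e2]
    exact sup_comm _ _)

theorem cross : K1 ≠ K2 → K1 ≤ centralizer (Cfsg.wOf K2 : Set G) := fun hne => by
  obtain ⟨L, hL, h1, h2⟩ := o.loc
  exact (h.comp_pair (h.setting_of_comp hL o.c1.comp h1) o.c2.comp h2 o.c1.comp h1 (Ne.symm hne)).1

theorem x_norm_q : x1 ∈ normalizer (qOrb (T : Subgroup G) K1 K2 : Set G) := by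
  refine mem_normalizer_of_cj_le ?_
  rintro _ ⟨q, hq, rfl⟩
  obtain ⟨hq1, hq2⟩ := mem_inf.1 hq
  have h1 : x1 * q * x1⁻¹ ∈ ker (T1 (T : Subgroup G)) (Cfsg.wOf K1) := conj_mem o.c1.node.xQ hq1
  show x1 * q * x1⁻¹ ∈ _
  refine mem_inf.2 ⟨h1, mem_inf.2 ⟨(mem_inf.1 h1).1, ?_⟩⟩
  rcases eq_or_ne K1 K2 with e | e
  · exact e ▸ (mem_inf.1 h1).2
  · have hx := o.cross h e o.c1.xK
    exact mul_mem (mul_mem hx (mem_inf.1 hq2).2) (inv_mem hx)

theorem T_norm_q : (T : Subgroup G) ≤ normalizer (qOrb (T : Subgroup G) K1 K2 : Set G) := fun s hs =>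
  mem_normalizer_of_cj (by
    rw [show cj s (qOrb (T : Subgroup G) K1 K2) = cj s (ker (T1 (T : Subgroup G)) (Cfsg.wOf K1)) ⊓
      cj s (ker (T1 (T : Subgroup G)) (Cfsg.wOf K2)) from Subgroup.map_inf _ _ _ (MulAut.conj s).injective,
      ker_cj, ker_cj, cj_eq_self (h.T_norm hs), ← wOf_cj, ← wOf_cj]
    rcases o.perm s hs with ⟨e1, e2⟩ | ⟨e1, e2⟩ <;> rw [e1, e2]
    exact inf_comm _ _)

theorem core_le_q : Cfsg.pCoreOf 2 K1 ≤ qOrb (T : Subgroup G) K1 K2 := fun y hy => by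
  refine mem_inf.2 ⟨o.c1.core hy, mem_inf.2 ⟨(mem_inf.1 (o.c1.core hy)).1, ?_⟩⟩
  rcases eq_or_ne K1 K2 with e | e
  · exact e ▸ (mem_inf.1 (o.c1.core hy)).2
  · exact o.cross h e (JComp.pCoreOf_le K1 hy)

theorem le_norm_q : K1 ⊔ K2 ⊔ (T : Subgroup G) ≤ normalizer (qOrb (T : Subgroup G) K1 K2 : Set G) := by
  have hT := o.T_norm_q h
  refine sup_le (sup_le (o.c1.gen_le (h.T1_le.trans hT) (o.x_norm_q h)) ?_) hT
  refine o.c2.gen_le (h.T1_le.trans hT) ?_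
  have := o.symm.x_norm_q h
  rwa [qOrb, inf_comm] at this

theorem q_ne : qOrb (T : Subgroup G) K1 K2 ≠ ⊥ := by
  intro e
  have hw : w1 ∈ qOrb (T : Subgroup G) K1 K2 :=
    mem_inf.2 ⟨o.c1.node.W_le_Q o.c1.node.wW, mem_inf.2 ⟨o.c1.node.WS o.c1.node.wW,
      mem_cent_iff.2 fun v hv => conj_eq_iff_comm.2 (o.c1.node.w_central (o.c2.node.WS hv)).symm⟩⟩
  rw [e, mem_bot] at hw
  exact o.c1.node.w1 hw

theorem q_le_T : qOrb (T : Subgroup G) K1 K2 ≤ (T : Subgroup G) :=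
  inf_le_left.trans (inf_le_left.trans h.T1_le)

theorem memH : K1 ⊔ K2 ⊔ (T : Subgroup G) ∈ Cfsg.calHOver (T : Subgroup G) :=
  h.over le_sup_right (o.q_ne h) (T.2.to_le (o.q_le_T h)) ((o.q_le_T h).trans le_sup_right) (o.le_norm_q h)

theorem setting : Setting (T : Subgroup G) (K1 ⊔ K2 ⊔ (T : Subgroup G)) :=
  h.setting_of_comp (o.memH h) o.c1.comp (le_sup_left.trans le_sup_left)

theorem x_mem {M : Subgroup G} (hTM : (T : Subgroup G) ≤ M) {g : G} (hg : g ∈ K1) (hgn : g ∉ Cfsg.pCoreOf 2 K1)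
    (hgM : g ∈ M) : x1 ∈ M := by
  obtain ⟨d, hd, i, hi, rfl⟩ := (tri_of_comp o.c1.comp).mem_cases o.c1.xK o.c1.node.order hg
  have h1 : x1 ^ i ∈ M := (Subgroup.mul_mem_cancel_left _ (hTM (h.T1_le (mem_inf.1 (o.c1.core hd)).1))).1 hgM
  interval_cases i
  · exact absurd (by simpa using hd) hgn
  · simpa using h1
  · have := mul_mem h1 h1
    rwa [← pow_add, show 2 + 2 = 3 + 1 from rfl, pow_add, o.c1.node.cube, one_mul, pow_one] at this

theorem x_not_core : x1 ∉ Cfsg.pCoreOf 2 K1 := fun hx =>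
  o.c1.node.x_not_mem (mem_inf.1 (o.c1.core hx)).1

theorem swap_mem {M : Subgroup G} (hTM : (T : Subgroup G) ≤ M) (hx : x1 ∈ M) : x2 ∈ M := by
  obtain ⟨t, ht, he⟩ := o.swap
  refine o.symm.x_mem h hTM (he ▸ conj_mem_cj o.c1.xK) (fun hc => o.x_not_core h ?_)
    (mul_mem (mul_mem (hTM ht) hx) (inv_mem (hTM ht)))
  rw [← he, pCoreOf_cj, mem_cj] at hc
  simpa [mul_assoc] using hc

theorem between {M : Subgroup G} (hTM : (T : Subgroup G) ≤ M) (hMH : M ≤ K1 ⊔ K2 ⊔ (T : Subgroup G)) :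
    M = (T : Subgroup G) ∨ M = K1 ⊔ K2 ⊔ (T : Subgroup G) := by
  by_cases hMT : M ≤ (T : Subgroup G)
  · exact Or.inl (le_antisymm hMT hTM)
  refine Or.inr (le_antisymm hMH ?_)
  have hT1M := h.T1_le.trans hTM
  suffices hx : x1 ∈ M from
    sup_le (sup_le (o.c1.gen_le hT1M hx) (o.c2.gen_le hT1M (o.swap_mem h hTM hx))) hTM
  obtain ⟨g, hg, hgT⟩ := SetLike.not_le_iff_exists.1 hMT
  obtain ⟨y, hy, t, ht, rfl⟩ := (Cfsg.Lib.Coprime.mem_sup_of_le_normalizer o.T_norm).1 (hMH hg)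
  have hyM : y ∈ M := (Subgroup.mul_mem_cancel_right _ (hTM ht)).1 hg
  have hyT : y ∉ (T : Subgroup G) := fun h' => hgT (mul_mem h' ht)
  by_cases hne : K1 = K2
  · rw [← hne, sup_idem] at hy
    exact o.x_mem h hTM hy (fun hc => hyT (h.T1_le (mem_inf.1 (o.c1.core hc)).1)) hyM
  obtain ⟨L, hL, h1L, h2L⟩ := o.loc
  have hs := h.setting_of_comp hL o.c1.comp h1L
  have hn21 : K2 ≤ normalizer (K1 : Set G) := hs.comps_le o.c1.comp h1L o.c2.comp h2L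
  have hn12 : K1 ≤ normalizer (K2 : Set G) := hs.comps_le o.c2.comp h2L o.c1.comp h1L
  obtain ⟨k1, hk1, k2, hk2, rfl⟩ := (Cfsg.Lib.Coprime.mem_sup_of_le_normalizer hn21).1 hy
  obtain ⟨d1, hd1, i, hi, rfl⟩ := (tri_of_comp o.c1.comp).mem_cases o.c1.xK o.c1.node.order hk1
  obtain ⟨d2, hd2, j, hj, rfl⟩ := (tri_of_comp o.c2.comp).mem_cases o.c2.xK o.c2.node.order hk2
  have hd2' : x1 ^ i * d2 * (x1 ^ i)⁻¹ ∈ Cfsg.pCoreOf 2 K2 :=
    conj_mem (normalizer_le_pCoreOf 2 K2 (hn12 (pow_mem o.c1.xK i))) hd2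
  have hdM : d1 * (x1 ^ i * d2 * (x1 ^ i)⁻¹) ∈ M :=
    mul_mem (hT1M (mem_inf.1 (o.c1.core hd1)).1) (hT1M (mem_inf.1 (o.c2.core hd2')).1)
  have hgM : x1 ^ i * x2 ^ j ∈ M := by
    refine (Subgroup.mul_mem_cancel_left _ hdM).1 ?_
    rwa [show d1 * (x1 ^ i * d2 * (x1 ^ i)⁻¹) * (x1 ^ i * x2 ^ j) = d1 * x1 ^ i * (d2 * x2 ^ j) by group]
  have hd2T : d2 ∈ (T : Subgroup G) := h.T1_le (mem_inf.1 (o.c2.core hd2)).1
  have hd1T : d1 ∈ (T : Subgroup G) := h.T1_le (mem_inf.1 (o.c1.core hd1)).1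
  by_cases hj0 : j = 0
  · subst hj0
    rw [pow_zero, mul_one] at hgM
    refine o.x_mem h hTM (pow_mem o.c1.xK i) (fun hc => hyT ?_) hgM
    rw [pow_zero, mul_one]
    exact mul_mem (mul_mem hd1T (h.T1_le (mem_inf.1 (o.c1.core hc)).1)) hd2T
  suffices hx2 : x2 ∈ M from o.symm.swap_mem h hTM hx2
  -- an element of the first kernel outside the second
  obtain ⟨a, ha, han⟩ := exists_diff o.c1.node o.c2.node
    (h.comp_pair hs o.c1.comp h1L o.c2.comp h2L hne).2.2.2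
  set N := qOrb (T : Subgroup G) K1 K2
  have hNM : N ≤ M := (o.q_le_T h).trans hTM
  have hx1N := o.x_norm_q h
  have hx2N : x2 ∈ normalizer (N : Set G) := by
    have := o.symm.x_norm_q h
    rwa [qOrb, inf_comm] at this
  have haS : a ∈ T1 (T : Subgroup G) := (mem_inf.1 ha).1
  have hax1 : a * x1 * a⁻¹ ∈ centralizer (Cfsg.wOf K2 : Set G) :=
    mem_cent_conj (o.c2.node.SW haS) (o.cross h hne o.c1.xK)
  have hx1c : x1 ∈ centralizer (Cfsg.wOf K2 : Set G) := o.cross h hne o.c1.xK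
  have he1 : a * x1 * a⁻¹ * x1⁻¹ ∈ N :=
    mem_inf.2 ⟨o.c1.node.commute_Q ha, mem_inf.2 ⟨(mem_inf.1 (o.c1.node.commute_Q ha)).1,
      mul_mem hax1 (inv_mem hx1c)⟩⟩
  have he2 : x2 * (a * x2 * a⁻¹) ∈ N := by
    have h2 := o.c2.node.invert haS han
    have hx2c : x2 ∈ centralizer (Cfsg.wOf K1 : Set G) := o.symm.cross h (Ne.symm hne) o.c2.xK
    exact mem_inf.2 ⟨mem_inf.2 ⟨(mem_inf.1 h2).1,
      mul_mem hx2c (mem_cent_conj (o.c1.node.SW haS) hx2c)⟩, h2⟩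
  set e1 := a * x1 * a⁻¹ * x1⁻¹
  set e2 := x2 * (a * x2 * a⁻¹) with he2d
  have hm : a * (x1 ^ i * x2 ^ j) * a⁻¹ ∈ M :=
    mul_mem (mul_mem (hT1M haS) hgM) (inv_mem (hT1M haS))
  have e : a * (x1 ^ i * x2 ^ j) * a⁻¹ = (e1 * x1) ^ i * ((x2⁻¹ * e2 * x2) * x2⁻¹) ^ j := by
    rw [show e1 * x1 = a * x1 * a⁻¹ by simp only [e1]; group,
      show (x2⁻¹ * e2 * x2) * x2⁻¹ = a * x2 * a⁻¹ by rw [he2d]; group, conj_pow, conj_pow]
    group
  have hf2 : x2⁻¹ * e2 * x2 ∈ N := by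
    have := conj_mem (inv_mem hx2N) he2
    rwa [inv_inv] at this
  have h1 := mul_pow_mem hx1N he1 i
  have h2 := mul_pow_mem (inv_mem hx2N) hf2 j
  set u := (e1 * x1) ^ i * (x1 ^ i)⁻¹
  set v := ((x2⁻¹ * e2 * x2) * x2⁻¹) ^ j * (x2⁻¹ ^ j)⁻¹
  have hv' : x1 ^ i * v * (x1 ^ i)⁻¹ ∈ N := conj_mem (pow_mem hx1N i) h2
  have h3 : x1 ^ i * x2⁻¹ ^ j ∈ M := by
    refine (Subgroup.mul_mem_cancel_left _ (hNM (mul_mem h1 hv'))).1 ?_
    have e' : u * (x1 ^ i * v * (x1 ^ i)⁻¹) * (x1 ^ i * x2⁻¹ ^ j) = a * (x1 ^ i * x2 ^ j) * a⁻¹ := by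
      rw [e]; simp only [u, v]; group
    rw [e']; exact hm
  have h4 : x2 ^ j * x2 ^ j ∈ M := by
    have := mul_mem (inv_mem h3) hgM
    have e' : (x1 ^ i * x2⁻¹ ^ j)⁻¹ * (x1 ^ i * x2 ^ j) = x2 ^ j * x2 ^ j := by rw [inv_pow]; group
    rwa [e'] at this
  interval_cases j
  · exact absurd rfl hj0
  · rw [pow_one] at h4
    have := mul_mem h4 h4
    rwa [show x2 * x2 * (x2 * x2) = x2 ^ 3 * x2 by simp only [pow_succ, pow_zero, one_mul, mul_assoc],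
      o.c2.node.cube, one_mul] at this
  · rwa [← pow_add, show 2 + 2 = 3 + 1 from rfl, pow_add, o.c2.node.cube, one_mul, pow_one] at h4

theorem not_le_T : ¬ K1 ⊔ K2 ⊔ (T : Subgroup G) ≤ (T : Subgroup G) := fun hle =>
  o.c1.node.x_ne_one (eq_one_of_odd T.2 (hle (mem_sup_left (mem_sup_left o.c1.xK))) o.c1.node.x_odd)

theorem coatom : ∃! K : Subgroup ↥(K1 ⊔ K2 ⊔ (T : Subgroup G)),
    IsCoatom K ∧ (T : Subgroup G).subgroupOf (K1 ⊔ K2 ⊔ (T : Subgroup G)) ≤ K := by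
  set H := K1 ⊔ K2 ⊔ (T : Subgroup G) with hH
  have hTH : (T : Subgroup G) ≤ H := le_sup_right
  have key : ∀ A : Subgroup ↥H, (T : Subgroup G).subgroupOf H ≤ A → A = (T : Subgroup G).subgroupOf H ∨ A = ⊤ := by
    intro A hA
    have hM : (T : Subgroup G) ≤ A.map H.subtype := fun t ht => ⟨⟨t, hTH ht⟩, hA (mem_subgroupOf.2 ht), rfl⟩
    have hA' : A = (A.map H.subtype).subgroupOf H :=
      (comap_map_eq_self_of_injective H.subtype_injective A).symm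
    rcases o.between h hM (map_subtype_le A) with e | e
    · exact Or.inl (hA'.trans (by rw [e]))
    · exact Or.inr (hA'.trans (by rw [e, subgroupOf_self]))
  have hne : (T : Subgroup G).subgroupOf H ≠ ⊤ := fun e => o.not_le_T h (subgroupOf_eq_top.1 e)
  refine ⟨_, ⟨⟨hne, fun A hA => (key A hA.le).resolve_left hA.ne'⟩, le_rfl⟩, ?_⟩
  rintro A ⟨hA, hle⟩
  exact (key A hle).resolve_right hA.1

theorem odd_index {R : Subgroup G} (hRT : R ≤ (T : Subgroup G))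
    (h1 : Cfsg.pCoreOf 2 K1 ≤ R) (h2 : Cfsg.pCoreOf 2 K2 ≤ R) :
    Odd (R.relIndex (Cfsg.oddGenerated (K1 ⊔ K2 ⊔ (T : Subgroup G)) ⊔ R)) := by
  set O := K1 ⊔ K2
  have hodd : Cfsg.oddGenerated (O ⊔ (T : Subgroup G)) = O := by
    refine le_antisymm ((closure_le _).2 fun g hg => mem_of_two_power_index
      (sup_le le_normalizer o.T_norm) (relIndex_sup_two_pow T.2 o.T_norm) hg.1 hg.2) ?_
    refine sup_le ?_ ?_
    · rw [← o.c1.oddGen_eq]
      exact oddGen_mono (le_sup_left.trans le_sup_left)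
    · rw [← o.c2.oddGen_eq]
      exact oddGen_mono (le_sup_right.trans le_sup_left)
  rw [hodd]
  have hRn : R ≤ normalizer (O : Set G) := hRT.trans o.T_norm
  set D := Cfsg.pCoreOf 2 K1 ⊔ Cfsg.pCoreOf 2 K2 with hD
  obtain ⟨L, hL, h1L, h2L⟩ := o.loc
  have hs := h.setting_of_comp hL o.c1.comp h1L
  have n11 : K1 ≤ normalizer (K1 : Set G) := le_normalizer
  have n12 : K2 ≤ normalizer (K1 : Set G) := hs.comps_le o.c1.comp h1L o.c2.comp h2L
  have n21 : K1 ≤ normalizer (K2 : Set G) := hs.comps_le o.c2.comp h2L o.c1.comp h1L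
  have n22 : K2 ≤ normalizer (K2 : Set G) := le_normalizer
  have hDn : ∀ g, g ∈ normalizer (K1 : Set G) → g ∈ normalizer (K2 : Set G) → g ∈ normalizer (D : Set G) :=
    fun g g1 g2 => mem_normalizer_of_cj (by
      rw [hD, show cj g (Cfsg.pCoreOf 2 K1 ⊔ Cfsg.pCoreOf 2 K2) =
        cj g (Cfsg.pCoreOf 2 K1) ⊔ cj g (Cfsg.pCoreOf 2 K2) from Subgroup.map_sup _ _ _,
        cj_eq_self (normalizer_le_pCoreOf 2 K1 g1), cj_eq_self (normalizer_le_pCoreOf 2 K2 g2)])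
  set M1 := D ⊔ zpowers x1 with hM1
  have hx1D : zpowers x1 ≤ normalizer (D : Set G) := zpowers_le.2 (hDn x1 (n11 o.c1.xK) (n21 o.c1.xK))
  have hM1eq : M1 = K1 ⊔ Cfsg.pCoreOf 2 K2 := by
    conv_rhs => rw [o.c1.gen]
    rw [hM1, hD, sup_right_comm]
  have hM1x : zpowers x2 ≤ normalizer (M1 : Set G) := by
    rw [hM1eq, zpowers_le]
    exact mem_normalizer_of_cj (by
      rw [show cj x2 (K1 ⊔ Cfsg.pCoreOf 2 K2) = cj x2 K1 ⊔ cj x2 (Cfsg.pCoreOf 2 K2) from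
        Subgroup.map_sup _ _ _, cj_eq_self (n12 o.c2.xK), cj_eq_self (normalizer_le_pCoreOf 2 K2 (n22 o.c2.xK))])
  have hO : O = M1 ⊔ zpowers x2 := by
    rw [hM1eq, sup_assoc, ← o.c2.gen]
  have d1 : D.relIndex M1 ∣ 3 := by
    rw [hM1, relIndex_sup_normalized hx1D, ← o.c1.node.order, ← Nat.card_zpowers]
    exact relIndex_dvd_card _ _
  have d2 : M1.relIndex O ∣ 3 := by
    rw [hO, relIndex_sup_normalized hM1x, ← o.c2.node.order, ← Nat.card_zpowers]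
    exact relIndex_dvd_card _ _
  have hDO : D ≤ O := sup_le ((JComp.pCoreOf_le K1).trans le_sup_left) ((JComp.pCoreOf_le K2).trans le_sup_right)
  have hoddD : Odd (D.relIndex O) := by
    rw [← relIndex_mul_relIndex D M1 O le_sup_left (hO ▸ le_sup_left)]
    exact (Odd.of_dvd_nat (by decide) d1).mul (Odd.of_dvd_nat (by decide) d2)
  -- `|O R : R| = |O : O ∩ R|`
  have h3 : O.relIndex (O ⊔ R) = O.relIndex R := relIndex_sup_normalized hRn
  have e1 := relIndex_mul_relIndex (O ⊓ R) R (O ⊔ R) inf_le_right le_sup_right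
  have e2 := relIndex_mul_relIndex (O ⊓ R) O (O ⊔ R) inf_le_left le_sup_left
  rw [← e2, h3, inf_relIndex_right] at e1
  have hpos : 0 < O.relIndex R := Nat.pos_of_ne_zero fun e => by
    have := relIndex_dvd_card O R
    rw [e, zero_dvd_iff] at this
    exact Nat.card_pos.ne' this
  rw [Nat.eq_of_mul_eq_mul_left hpos (e1.trans (mul_comm _ _))]
  exact hoddD.of_dvd_nat (relIndex_dvd_of_le_left O (le_inf hDO (sup_le h1 h2)))

/-- The push-up. -/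
theorem push {M₀ R : Subgroup G} (hM₀ : M₀ ∈ Cfsg.calHOver (T : Subgroup G)) (hR : R ≠ ⊥)
    (hRT : R ≤ (T : Subgroup G)) (hRM : M₀ ≤ normalizer (R : Set G))
    (h1 : Cfsg.pCoreOf 2 K1 ≤ R) (h2 : Cfsg.pCoreOf 2 K2 ≤ R) :
    ∃ M ∈ Cfsg.calHOver (T : Subgroup G), M₀ ≤ M ∧ K1 ≤ M ∧ K2 ≤ M := by
  haveI : Fact (Nat.Prime 2) := ⟨Nat.prime_two⟩
  set H := K1 ⊔ K2 ⊔ (T : Subgroup G)
  set X := Cfsg.oddGenerated H ⊔ R
  have hodd := o.odd_index h hRT h1 h2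
  have hnd : ¬ 2 ∣ (R.subgroupOf X).index := fun hd =>
    (Nat.not_even_iff_odd.2 hodd) (even_iff_two_dvd.2 hd)
  obtain ⟨R₀, hne, hle, hn⟩ := Cfsg.Lib.PushUpOrbit.common_normal h.hQ.2.2 T hM₀.2 (o.memH h).2 (o.memH h).1
    (o.coatom h) hR hRT
    ⟨((T.2.to_le hRT).of_equiv (subgroupOfEquivOfLe le_sup_right).symm).toSylow hnd, rfl⟩ hRM
  refine ⟨normalizer (R₀ : Set G), h.over ((o.memH h).2.trans (le_sup_right.trans hn)) hne
    (T.2.to_le (hle.trans hRT)) le_normalizer le_rfl, le_sup_left.trans hn, ?_, ?_⟩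
  · exact ((le_sup_left.trans le_sup_left : K1 ≤ H).trans le_sup_right).trans hn
  · exact ((le_sup_right.trans le_sup_left : K2 ≤ H).trans le_sup_right).trans hn

/-- One orbit shares a member with `N(J)`. -/
theorem with_NJ : ∃ M ∈ Cfsg.calHOver (T : Subgroup G),
    normalizer (Jof (T : Subgroup G) : Set G) ≤ M ∧ K1 ≤ M ∧ K2 ≤ M := by
  have hne : T1 (T : Subgroup G) ≠ ⊥ := fun e => o.c1.node.w1 (mem_bot.1 (e ▸ o.c1.node.WS o.c1.node.wW))
  exact o.push h (h.over (h.T_norm.trans h.NT1_le) hne (T.2.to_le h.T1_le)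
    (h.T1_le.trans (le_normalizer.trans (Cfsg.Lib.Thompson.normalizer_le_normalizer_thompson _))) h.NJ_norm)
    hne h.T1_le h.NJ_norm (o.c1.core.trans inf_le_left) (o.c2.core.trans inf_le_left)

/-- Two orbits with a uniform direction share a member. -/
theorem with_orb {L1 L2 : Subgroup G} {y1 v1 y2 v2 : G} (o' : Orb (T : Subgroup G) L1 L2 y1 v1 y2 v2)
    (d11 : Dir (T1 (T : Subgroup G)) x1 (Cfsg.wOf K1) (Cfsg.wOf L1))
    (d12 : Dir (T1 (T : Subgroup G)) x1 (Cfsg.wOf K1) (Cfsg.wOf L2))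
    (d21 : Dir (T1 (T : Subgroup G)) x2 (Cfsg.wOf K2) (Cfsg.wOf L1))
    (d22 : Dir (T1 (T : Subgroup G)) x2 (Cfsg.wOf K2) (Cfsg.wOf L2)) :
    ∃ M ∈ Cfsg.calHOver (T : Subgroup G), (K1 ≤ M ∧ K2 ≤ M) ∧ (L1 ≤ M ∧ L2 ≤ M) := by
  obtain ⟨M, hM, hM0, h1, h2⟩ := o.push h (o'.memH h) (o'.q_ne h) (o'.q_le_T h) (o'.le_norm_q h)
    (le_inf (core_le_dir h o.c1 o'.c1.node.SW d11) (core_le_dir h o.c1 o'.c2.node.SW d12))
    (le_inf (core_le_dir h o.c2 o'.c1.node.SW d21) (core_le_dir h o.c2 o'.c2.node.SW d22))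
  exact ⟨M, hM, ⟨h1, h2⟩, (le_sup_left.trans le_sup_left).trans hM0, (le_sup_right.trans le_sup_left).trans hM0⟩

end Orb

end Cfsg.Lib.QTLf
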