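import Cfsg.Agent.QTKE.LfEmpty.Tiny

/-!
Components normalized by `T`: they either give a dihedral centralizer or do not occur.
-/

set_option autoImplicit false
set_option linter.unusedSectionVars false
set_option linter.style.haveILetI false

namespace Cfsg.Lib.QTLf

open Subgroup Cfsg.Lib.JComp

universe u

variable {G : Type u} [Group G] [Finite G]

/-- The 2-core of `K` centralizes `W_L` and `Ω₁Z(J)`. -/
def Below (T K L : Subgroup G) : Prop := Cfsg.pCoreOf 2 K ≤ ker (T1 T) (Cfsg.wOf L)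

variable {T : Sylow 2 G} (h : Hyps T)

include h

theorem Hyps.T_le_NJ : (T : Subgroup G) ≤ normalizer (Jof (T : Subgroup G) : Set G) :=
  le_normalizer.trans (Cfsg.Lib.Thompson.normalizer_le_normalizer_thompson _)

theorem Below.conj {K L : Subgroup G} (hb : Below (T : Subgroup G) K L) {t : G}
    (ht : t ∈ normalizer (Jof (T : Subgroup G) : Set G)) : Below (T : Subgroup G) (cj t K) (cj t L) := by
  have h1 : cj t (Cfsg.pCoreOf 2 K) ≤ cj t (ker (T1 (T : Subgroup G)) (Cfsg.wOf L)) := Subgroup.map_mono hb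
  rwa [← pCoreOf_cj, ker_cj, cj_eq_self (h.NJ_norm ht), ← wOf_cj] at h1

theorem Hyps.below_of_dir {K L : Subgroup G} {x w y v : G} (c : CN (T : Subgroup G) K x w)
    (d : CN (T : Subgroup G) L y v) (hd : Dir (T1 (T : Subgroup G)) x (Cfsg.wOf K) (Cfsg.wOf L)) :
    Below (T : Subgroup G) K L := core_le_dir h c d.node.SW hd

theorem Hyps.below_or {K L : Subgroup G} {x w y v : G} (c : CN (T : Subgroup G) K x w)
    (d : CN (T : Subgroup G) L y v) (hc : Cfsg.wOf L ≤ centralizer (Cfsg.wOf K : Set G)) :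
    Below (T : Subgroup G) K L ∨ Below (T : Subgroup G) L K := by
  by_cases hQ : ker (T1 (T : Subgroup G)) (Cfsg.wOf K) = ker (T1 (T : Subgroup G)) (Cfsg.wOf L)
  · exact Or.inl (c.core.trans hQ.le)
  rcases pair c.node d.node hc hQ with ht | ht
  · exact Or.inl (h.below_of_dir c d (toward_dir c.node d.node hc hQ ht))
  · exact Or.inr (h.below_of_dir d c (toward_dir d.node c.node (commutes_symm hc) (Ne.symm hQ) ht))

/-- Two orbits with uniform direction share a member. -/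
theorem Hyps.share {K1 K2 L1 L2 : Subgroup G} {x1 w1 x2 w2 y1 v1 y2 v2 : G}
    (o : Orb (T : Subgroup G) K1 K2 x1 w1 x2 w2) (o' : Orb (T : Subgroup G) L1 L2 y1 v1 y2 v2)
    (b11 : Below (T : Subgroup G) K1 L1) (b12 : Below (T : Subgroup G) K1 L2)
    (b21 : Below (T : Subgroup G) K2 L1) (b22 : Below (T : Subgroup G) K2 L2) :
    ∃ M ∈ Cfsg.calHOver (T : Subgroup G), (K1 ≤ M ∧ K2 ≤ M) ∧ (L1 ≤ M ∧ L2 ≤ M) := by
  obtain ⟨M, hM, hM0, h1, h2⟩ := o.push h (o'.memH h) (o'.q_ne h) (o'.q_le_T h) (o'.le_norm_q h)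
    (le_inf b11 b12) (le_inf b21 b22)
  exact ⟨M, hM, ⟨h1, h2⟩, (le_sup_left.trans le_sup_left).trans hM0, (le_sup_right.trans le_sup_left).trans hM0⟩

theorem Hyps.three_false {M A B C : Subgroup G} (hM : M ∈ Cfsg.calHOver (T : Subgroup G))
    (hA : Cfsg.IsJComponent (T : Subgroup G) A) (hB : Cfsg.IsJComponent (T : Subgroup G) B)
    (hC : Cfsg.IsJComponent (T : Subgroup G) C) (hAM : A ≤ M) (hBM : B ≤ M) (hCM : C ≤ M) (hAB : A ≠ B)
    (hAC : A ≠ C) (hBC : B ≠ C) : False := by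
  rcases h.comps_two hM (h.setting_of_comp hM hA hAM) hA hAM hB hBM hC hCM hAB with e | e
  · exact hAC e.symm
  · exact hBC e.symm

omit h in
theorem single_orb {K : Subgroup G} {x w : G} (c : CN (T : Subgroup G) K x w) (hK : IsK (T : Subgroup G) K)
    (hn : (T : Subgroup G) ≤ normalizer (K : Set G)) : Orb (T : Subgroup G) K K x w x w := by
  obtain ⟨L, -, -, hKL, hL⟩ := hK
  exact ⟨c, c, ⟨L, hL, hKL, hKL⟩, fun s hs => Or.inl ⟨cj_eq_self (hn hs), cj_eq_self (hn hs)⟩, 1, one_mem _,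
    cj_one K⟩

/-- An element of `T` sends the label to the label. -/
theorem Hyps.label_conj {K L : Subgroup G} {x w y v : G} (c : CN (T : Subgroup G) K x w)
    (d : CN (T : Subgroup G) L y v) {t : G} (ht : t ∈ normalizer (Jof (T : Subgroup G) : Set G))
    (he : cj t K = L) : t * w * t⁻¹ = v := by
  have h1 := conj_mem (normalizer_le_omegaCenterOf _ ht) c.wZ
  have h2 : t * w * t⁻¹ ∈ Cfsg.wOf L := by rw [← he, wOf_cj]; exact conj_mem_cj c.node.wW
  rcases d.w_unique h1 h2 with e | e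
  · exact absurd (by calc w = t⁻¹ * (t * w * t⁻¹) * t := by group
                        _ = 1 := by rw [e]; group) c.node.w1
  · exact e

theorem Orb.w_ne {K1 K2 : Subgroup G} {x1 w1 x2 w2 : G} (o : Orb (T : Subgroup G) K1 K2 x1 w1 x2 w2)
    (hne : K1 ≠ K2) : w1 ≠ w2 := by
  obtain ⟨L, hL, h1, h2⟩ := o.loc
  exact (h.same_dir (h.setting_of_comp hL o.c1.comp h1) o.c1 o.c2 h1 h2 hne).2.2.2.1

theorem Hyps.single_wreath {K K1 K2 : Subgroup G} {x w x1 w1 x2 w2 : G} (c : CN (T : Subgroup G) K x w)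
    (hK : IsK (T : Subgroup G) K) (hn : (T : Subgroup G) ≤ normalizer (K : Set G))
    (o : Orb (T : Subgroup G) K1 K2 x1 w1 x2 w2) (hne : K1 ≠ K2) : False := by
  have ok := single_orb c hK hn
  obtain ⟨t, ht, he⟩ := o.swap
  have htJ := h.T_le_NJ ht
  have htK : cj t K = K := cj_eq_self (hn ht)
  have hK1 : K ≠ K1 := fun e => hne (by rw [← he, ← e, htK])
  have hK2 : K ≠ K2 := fun e => hK1 (by
    have h1 : cj t K = cj t K1 := by rw [htK, he, e]
    have := congrArg (cj t⁻¹) h1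
    rwa [cj_inv_cj, cj_inv_cj] at this)
  have hwv : w ≠ w1 := fun e => o.w_ne h hne (by
    rw [← h.label_conj o.c1 o.c2 htJ he, ← e]
    exact (h.label_conj c c htJ htK).symm)
  have hc : Cfsg.wOf K1 ≤ centralizer (Cfsg.wOf K : Set G) := by
    by_contra hn'
    exact hwv (noncomm c.node o.c1.node hn').1
  rcases h.below_or c o.c1 hc with hb | hb
  · have hb2 := hb.conj h htJ
    rw [htK, he] at hb2
    obtain ⟨M, hM, ⟨h1, -⟩, h2, h3⟩ := h.share ok o hb hb2 hb hb2
    exact h.three_false hM c.comp o.c1.comp o.c2.comp h1 h2 h3 hK1 hK2 hne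
  · have hb2 := hb.conj h htJ
    rw [htK, he] at hb2
    obtain ⟨M, hM, ⟨h1, h2⟩, h3, -⟩ := h.share o ok hb hb hb2 hb2
    exact h.three_false hM c.comp o.c1.comp o.c2.comp h3 h1 h2 hK1 hK2 hne

theorem Hyps.singles_share {K L : Subgroup G} {x w y v : G} (c : CN (T : Subgroup G) K x w)
    (d : CN (T : Subgroup G) L y v) (hK : IsK (T : Subgroup G) K) (hL : IsK (T : Subgroup G) L)
    (hn : (T : Subgroup G) ≤ normalizer (K : Set G)) (hm : (T : Subgroup G) ≤ normalizer (L : Set G))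
    (hc : Cfsg.wOf L ≤ centralizer (Cfsg.wOf K : Set G)) :
    ∃ M ∈ Cfsg.calHOver (T : Subgroup G), K ≤ M ∧ L ≤ M := by
  rcases h.below_or c d hc with hb | hb
  · obtain ⟨M, hM, ⟨h1, -⟩, h2, -⟩ := h.share (single_orb c hK hn) (single_orb d hL hm) hb hb hb hb
    exact ⟨M, hM, h1, h2⟩
  · obtain ⟨M, hM, ⟨h1, -⟩, h2, -⟩ := h.share (single_orb d hL hm) (single_orb c hK hn) hb hb hb hb
    exact ⟨M, hM, h2, h1⟩

/-- If some component is normalized by `T`, all are, with commuting four-groups, or a centralizer is dihedral. -/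
theorem Hyps.singles [IsSimpleGroup G] {K : Subgroup G} (hK : IsK (T : Subgroup G) K)
    (hn : (T : Subgroup G) ≤ normalizer (K : Set G)) :
    ∃ t : G, orderOf t = 2 ∧ Nonempty (↥(centralizer ({t} : Set G)) ≃* DihedralGroup 4) := by
  classical
  by_contra hnone
  have hall : ∀ L, IsK (T : Subgroup G) L → (T : Subgroup G) ≤ normalizer (L : Set G) := by
    intro L hL
    by_contra hm
    obtain ⟨x, w, c⟩ := h.exists_CN hK
    obtain ⟨y, v, d⟩ := h.exists_CN hL
    obtain ⟨L2, y2, v2, o, -⟩ := h.exists_orb hL d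
    refine h.single_wreath c hK hn o fun e => hm fun s hs => ?_
    rcases o.perm s hs with ⟨e1, -⟩ | ⟨e1, -⟩
    · exact mem_normalizer_of_cj e1
    · exact mem_normalizer_of_cj (e1.trans e.symm)
  have hshare : ∀ A B, IsK (T : Subgroup G) A → IsK (T : Subgroup G) B →
      ∃ M ∈ Cfsg.calHOver (T : Subgroup G), A ≤ M ∧ B ≤ M := by
    intro A B hA hB
    obtain ⟨x, w, c⟩ := h.exists_CN hA
    obtain ⟨y, v, d⟩ := h.exists_CN hB
    refine h.singles_share c d hA hB (hall A hA) (hall B hB) ?_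
    by_contra hnc
    exact hnone (h.tiny c d (hall A hA) (hall B hB) hnc)
  have hR : ∀ {A B : Subgroup G} {xa wa xb wb : G}, CN (T : Subgroup G) A xa wa → CN (T : Subgroup G) B xb wb →
      IsK (T : Subgroup G) A → IsK (T : Subgroup G) B → A ≠ B →
      qOrb (T : Subgroup G) A B ≠ ⊥ ∧ qOrb (T : Subgroup G) A B ≤ (T : Subgroup G) ∧
      (A ⊔ B ⊔ (T : Subgroup G) ≤ normalizer (qOrb (T : Subgroup G) A B : Set G)) ∧
      normalizer (qOrb (T : Subgroup G) A B : Set G) ∈ Cfsg.calHOver (T : Subgroup G) := by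
    intro A B xa wa xb wb ca cb hA hB hne
    obtain ⟨M, hM, hAM, hBM⟩ := hshare A B hA hB
    have hs := h.setting_of_comp hM ca.comp hAM
    have pab := h.comp_pair hs ca.comp hAM cb.comp hBM hne
    have pba := h.comp_pair hs cb.comp hBM ca.comp hAM hne.symm
    have hTn : (T : Subgroup G) ≤ normalizer (qOrb (T : Subgroup G) A B : Set G) := fun s hs' =>
      mem_normalizer_of_cj (by
        rw [show cj s (qOrb (T : Subgroup G) A B) = cj s (ker (T1 (T : Subgroup G)) (Cfsg.wOf A)) ⊓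
          cj s (ker (T1 (T : Subgroup G)) (Cfsg.wOf B)) from Subgroup.map_inf _ _ _ (MulAut.conj s).injective,
          ker_cj, ker_cj, cj_eq_self (h.T_norm hs'), ← wOf_cj, ← wOf_cj, cj_eq_self (hall A hA hs'),
          cj_eq_self (hall B hB hs')])
    have hxn : ∀ {C D : Subgroup G} {xc wc : G}, CN (T : Subgroup G) C xc wc →
        C ≤ centralizer (Cfsg.wOf D : Set G) → xc ∈ normalizer (qOrb (T : Subgroup G) C D : Set G) := by
      intro C D xc wc cc hcd
      refine mem_normalizer_of_cj_le ?_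
      rintro _ ⟨q, hq, rfl⟩
      obtain ⟨hq1, hq2⟩ := mem_inf.1 hq
      have h1 : xc * q * xc⁻¹ ∈ ker (T1 (T : Subgroup G)) (Cfsg.wOf C) := conj_mem cc.node.xQ hq1
      show xc * q * xc⁻¹ ∈ _
      refine mem_inf.2 ⟨h1, mem_inf.2 ⟨(mem_inf.1 h1).1, ?_⟩⟩
      exact mul_mem (mul_mem (hcd cc.xK) (mem_inf.1 hq2).2) (inv_mem (hcd cc.xK))
    have hxb : xb ∈ normalizer (qOrb (T : Subgroup G) A B : Set G) := by
      have := hxn cb pab.1
      rwa [qOrb, inf_comm] at this
    have hne' : qOrb (T : Subgroup G) A B ≠ ⊥ := fun e => ca.node.w1 (mem_bot.1 (e ▸ mem_inf.2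
      ⟨ca.node.W_le_Q ca.node.wW, mem_inf.2 ⟨ca.node.WS ca.node.wW,
        mem_cent_iff.2 fun v hv => conj_eq_iff_comm.2 (ca.node.w_central (cb.node.WS hv)).symm⟩⟩))
    have hqT : qOrb (T : Subgroup G) A B ≤ (T : Subgroup G) := inf_le_left.trans (inf_le_left.trans h.T1_le)
    exact ⟨hne', hqT, sup_le (sup_le (ca.gen_le (h.T1_le.trans hTn) (hxn ca pba.1))
      (cb.gen_le (h.T1_le.trans hTn) hxb)) hTn, h.over hTn hne' (T.2.to_le hqT) le_normalizer le_rfl⟩
  by_cases hthree : ∃ A B C, IsK (T : Subgroup G) A ∧ IsK (T : Subgroup G) B ∧ IsK (T : Subgroup G) C ∧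
      A ≠ B ∧ A ≠ C ∧ B ≠ C
  · obtain ⟨A, B, C, hA, hB, hC, hAB, hAC, hBC⟩ := hthree
    obtain ⟨xa, wa, ca⟩ := h.exists_CN hA
    obtain ⟨xb, wb, cb⟩ := h.exists_CN hB
    obtain ⟨xc, wc, cc⟩ := h.exists_CN hC
    obtain ⟨hne, hqT, hle, hN⟩ := hR ca cb hA hB hAB
    have hbel : ∀ {D : Subgroup G} {xd wd : G}, CN (T : Subgroup G) D xd wd → IsK (T : Subgroup G) D → C ≠ D →
        Below (T : Subgroup G) C D := by
      intro D xd wd cd hD hCD
      obtain ⟨M, hM, hCM, hDM⟩ := hshare C D hC hD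
      exact h.below_of_dir cc cd (h.same_dir (h.setting_of_comp hM cc.comp hCM) cc cd hCM hDM hCD).2.2.2.2
    have hb : Cfsg.pCoreOf 2 C ≤ qOrb (T : Subgroup G) A B :=
      le_inf (hbel ca hA hAC.symm) (hbel cb hB hBC.symm)
    obtain ⟨M, hM, hM0, hCM, -⟩ := (single_orb cc hC (hall C hC)).push h hN hne hqT le_rfl hb hb
    exact h.three_false hM ca.comp cb.comp cc.comp (((le_sup_left.trans le_sup_left).trans hle).trans hM0)
      (((le_sup_right.trans le_sup_left).trans hle).trans hM0) hCM hAB hAC hBC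
  have htwo : ∀ {A B C : Subgroup G}, IsK (T : Subgroup G) A → IsK (T : Subgroup G) B →
      IsK (T : Subgroup G) C → A ≠ B → C = A ∨ C = B := by
    intro A B C hA hB hC hAB
    by_contra hno
    push Not at hno
    exact hthree ⟨A, B, C, hA, hB, hC, hAB, hno.1.symm, hno.2.symm⟩
  obtain ⟨x, w, c⟩ := h.exists_CN hK
  obtain ⟨M, hM, hNJ, hKM, -⟩ := (single_orb c hK hn).with_NJ h
  by_cases hMall : ∀ L, IsK (T : Subgroup G) L → L ≤ M
  · exact h.noTop M hM fun H hH => h.le_of hH (inf_le_right.trans hNJ) fun L _ _ hL => hMall L hL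
  push Not at hMall
  obtain ⟨L, hL, hLM⟩ := hMall
  have hKL : K ≠ L := fun e => hLM (e ▸ hKM)
  obtain ⟨y, v, d⟩ := h.exists_CN hL
  obtain ⟨M', hM', hNJ', hLM', -⟩ := (single_orb d hL (hall L hL)).with_NJ h
  have hkey : ∀ {A B N : Subgroup G} {xa wa : G}, CN (T : Subgroup G) A xa wa → IsK (T : Subgroup G) A →
      IsK (T : Subgroup G) B → A ≠ B → N ∈ Cfsg.calHOver (T : Subgroup G) →
      normalizer (Jof (T : Subgroup G) : Set G) ≤ N → A ≤ N → ¬ B ≤ N →
      normalizer (Jof (T : Subgroup G) : Set G) ≤ normalizer (A : Set G) := by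
    intro A B N xa wa ca hA hB hAB hN hNJN hAN hBN n hn'
    have hs := h.setting_of_comp hN ca.comp hAN
    obtain ⟨h1, h2⟩ := h.conj_IsK hs ca.comp hAN (hNJN hn') hn'
    rcases htwo hA hB ⟨N, hs, h1, h2, hN⟩ hAB with e | e
    · exact mem_normalizer_of_cj e
    · exact absurd (e ▸ h2) hBN
  by_cases hKM' : K ≤ M'
  · refine h.noTop M' hM' fun H hH => h.le_of hH (inf_le_right.trans hNJ') fun C _ _ hC => ?_
    rcases htwo hK hL hC hKL with e | e <;> rw [e] <;> assumption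
  have hnK := hkey c hK hL hKL hM hNJ hKM hLM
  have hnL := hkey d hL hK hKL.symm hM' hNJ' hLM' hKM'
  obtain ⟨hne, hqT, hle, hN⟩ := hR c d hK hL hKL
  refine h.noTop _ hN fun H hH => h.le_of hH (inf_le_right.trans fun n hn' => mem_normalizer_of_cj ?_)
    fun C _ _ hC => ?_
  · rw [show cj n (qOrb (T : Subgroup G) K L) = cj n (ker (T1 (T : Subgroup G)) (Cfsg.wOf K)) ⊓
      cj n (ker (T1 (T : Subgroup G)) (Cfsg.wOf L)) from Subgroup.map_inf _ _ _ (MulAut.conj n).injective,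
      ker_cj, ker_cj, cj_eq_self (h.NJ_norm hn'), ← wOf_cj, ← wOf_cj, cj_eq_self (hnK hn'), cj_eq_self (hnL hn')]
  · rcases htwo hK hL hC hKL with e | e <;> rw [e]
    exacts [(le_sup_left.trans le_sup_left).trans hle, (le_sup_right.trans le_sup_left).trans hle]

end Cfsg.Lib.QTLf
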