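import Cfsg.Agent.QTKE.LfEmpty.Share
import Cfsg.Agent.JComp.Pair
import Cfsg.Agent.Classical.TwoGroups.DihedralEight

/-!
Two `T`-invariant components with non-commuting four-groups.
-/

set_option autoImplicit false
set_option linter.unusedSectionVars false
set_option linter.style.haveILetI false

namespace Cfsg.Lib.QTLf

open Subgroup Cfsg.Lib.JComp

universe u

variable {G : Type u} [Group G] [Finite G]

theorem exists_central_involution {T R : Subgroup G} (hT : IsPGroup 2 T) (hRT : R ≤ T)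
    (hn : T ≤ normalizer (R : Set G)) (hR : R ≠ ⊥) : ∃ z ∈ R, z ≠ 1 ∧ z ∈ Cfsg.omegaCenterOf T := by
  haveI : Fact (Nat.Prime 2) := ⟨Nat.prime_two⟩
  obtain ⟨z, hzR, hz1, hzc⟩ := exists_fixed (hT.to_le hRT) hT hn hR
  obtain ⟨⟨v, hv⟩, hvo⟩ := exists_prime_orderOf_dvd_card' (G := zpowers z) 2
    (Cfsg.Lib.Embedded.dvd_of_ne_bot (hT.to_le (zpowers_le.2 (hRT hzR)))
      fun e => hz1 (mem_bot.1 (e ▸ mem_zpowers z)))
  rw [orderOf_mk] at hvo
  refine ⟨v, zpowers_le.2 hzR hv, fun e => ?_, mem_omegaCenterOf.2 ⟨hRT (zpowers_le.2 hzR hv), fun y hy => ?_, ?_⟩⟩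
  · rw [e, orderOf_one] at hvo; omega
  · obtain ⟨n, rfl⟩ := mem_zpowers_iff.1 hv
    exact ((show Commute y z from hzc y hy).zpow_right n).eq
  · rw [← pow_two, ← hvo, pow_orderOf_eq_one]

variable {T : Sylow 2 G} (h : Hyps T)

include h

theorem CN.cent_core {K : Subgroup G} {x w k : G} (c : CN (T : Subgroup G) K x w) (hk : k ∈ K)
    (hkc : k ∈ centralizer (Cfsg.wOf K : Set G)) : k ∈ Cfsg.pCoreOf 2 K := by
  obtain ⟨o, ho, i, hi, rfl⟩ := (tri_of_comp c.comp).mem_cases c.xK c.node.order hk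
  have h1 := (Subgroup.mul_mem_cancel_left _ (mem_inf.1 (c.core ho)).2).1 hkc
  interval_cases i
  · simpa using ho
  · rw [pow_one] at h1
    exact absurd (mem_cent_iff.1 h1 w c.node.wW) c.node.move
  · have h2 := mul_mem h1 h1
    rw [← pow_add, show 2 + 2 = 3 + 1 from rfl, pow_add, c.node.cube, one_mul, pow_one] at h2
    exact absurd (mem_cent_iff.1 h2 w c.node.wW) c.node.move

/-- A `T`-invariant component gives a node on `T`. -/
theorem CN.node_T {K : Subgroup G} {x w : G} (c : CN (T : Subgroup G) K x w)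
    (hn : (T : Subgroup G) ≤ normalizer (K : Set G)) : Node (T : Subgroup G) x (Cfsg.wOf K) w := by
  have n := c.node
  have hTW : (T : Subgroup G) ≤ normalizer (Cfsg.wOf K : Set G) := hn.trans (normalizer_le_wOf K)
  have hTJ : (T : Subgroup G) ≤ normalizer (Jof (T : Subgroup G) : Set G) :=
    le_normalizer.trans (Cfsg.Lib.Thompson.normalizer_le_normalizer_thompson _)
  have hcT : Cfsg.pCoreOf 2 K ≤ ker (T : Subgroup G) (Cfsg.wOf K) := fun y hy =>
    mem_inf.2 ⟨h.T1_le (mem_inf.1 (c.core hy)).1, (mem_inf.1 (c.core hy)).2⟩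
  refine ⟨T.2, n.cube, n.elem, n.four, n.WS.trans h.T1_le, n.xW, hTW, n.wW, n.w1, fun t ht => ?_, n.move,
    ?_, fun t ht => ?_, ?_⟩
  · rcases c.w_unique (conj_mem (normalizer_le_omegaCenterOf _ (hTJ ht)) c.wZ) (conj_mem (hTW ht) n.wW) with e | e
    · exact absurd (by calc w = t⁻¹ * (t * w * t⁻¹) * t := by group
                          _ = 1 := by rw [e]; group) n.w1
    · exact e
  · refine mem_normalizer_of_cj_le ?_
    rintro _ ⟨q, hq, rfl⟩
    show x * q * x⁻¹ ∈ _
    have hqW := mem_cent_conj n.xW (mem_inf.1 hq).2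
    refine mem_inf.2 ⟨?_, hqW⟩
    have hK : x * q * x⁻¹ * q⁻¹ ∈ K := by
      rw [show x * q * x⁻¹ * q⁻¹ = x * (q * x⁻¹ * q⁻¹) by group]
      exact K.mul_mem c.xK (conj_mem (hn (mem_inf.1 hq).1) (inv_mem c.xK))
    have h2 := (mem_inf.1 (hcT (c.cent_core h hK (mul_mem hqW (inv_mem (mem_inf.1 hq).2))))).1
    have := (T : Subgroup G).mul_mem h2 (mem_inf.1 hq).1
    rwa [inv_mul_cancel_right] at this
  · obtain ⟨o, ho, i, hi, e⟩ := (tri_of_comp c.comp).mem_cases c.xK n.order (conj_mem (hn ht) c.xK)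
    interval_cases i
    · exfalso
      rw [pow_zero, mul_one] at e
      refine n.x_ne_one (eq_one_of_odd T.2 ?_ n.x_odd)
      have := (T : Subgroup G).mul_mem ((T : Subgroup G).mul_mem (inv_mem ht) (mem_inf.1 (hcT ho)).1) ht
      rw [← e] at this
      simpa [mul_assoc] using this
    · refine ⟨1, Or.inl rfl, ?_⟩
      rw [e]
      have := hcT (conj_mem (inv_mem (normalizer_le_pCoreOf 2 K (le_normalizer (pow_mem c.xK 1)))) ho)
      simpa [mul_assoc] using this
    · refine ⟨2, Or.inr rfl, ?_⟩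
      rw [e]
      have := hcT (conj_mem (inv_mem (normalizer_le_pCoreOf 2 K (le_normalizer (pow_mem c.xK 2)))) ho)
      simpa [mul_assoc] using this
  · obtain ⟨A, hA, hAn⟩ := n.offend
    refine ⟨A, ?_, hAn⟩
    exact rank_of_jof_eq (T := T1 (T : Subgroup G)) (S := (T : Subgroup G)) h.jof_T1.symm hA

theorem Hyps.tiny [IsSimpleGroup G] {K K' : Subgroup G} {x w x' w' : G} (c : CN (T : Subgroup G) K x w)
    (c' : CN (T : Subgroup G) K' x' w') (hn : (T : Subgroup G) ≤ normalizer (K : Set G))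
    (hn' : (T : Subgroup G) ≤ normalizer (K' : Set G))
    (hnc : ¬ Cfsg.wOf K' ≤ centralizer (Cfsg.wOf K : Set G)) :
    ∃ t : G, orderOf t = 2 ∧ Nonempty (↥(centralizer ({t} : Set G)) ≃* DihedralGroup 4) := by
  haveI : Fact (Nat.Prime 2) := ⟨Nat.prime_two⟩
  set S := (T : Subgroup G)
  have na := c.node_T h hn
  have nb := c'.node_T h hn'
  set W := Cfsg.wOf K
  set W' := Cfsg.wOf K'
  obtain ⟨hww, hsh⟩ := noncomm na nb hnc
  obtain ⟨-, hsh'⟩ := noncomm nb na fun e => hnc (commutes_symm e)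
  have hQ := ker_ne_of_noncomm na nb hnc
  set X := span2 S x x'
  set R := coreIn S X
  have hRn : Node.grp S x ≤ normalizer (R : Set G) :=
    (le_sup_left (b := Node.grp S x')).trans (coreIn_norm S X)
  have hRn' : Node.grp S x' ≤ normalizer (R : Set G) :=
    (le_sup_right (a := Node.grp S x)).trans (coreIn_norm S X)
  have hW : W ⊓ R = ⊥ := na.inf_eq_bot (hRn (mem_sup_right (mem_zpowers x))) fun hle =>
    hnc (commutes_symm ((hle.trans (core_le_right nb)).trans inf_le_right))
  have hW' : W' ⊓ R = ⊥ := nb.inf_eq_bot (hRn' (mem_sup_right (mem_zpowers x'))) fun hle =>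
    hnc ((hle.trans (core_le_left na)).trans inf_le_right)
  have hR : R = ⊥ := by
    by_contra hR
    have hcx : ∀ {y v : G} {U : Subgroup G}, Node S y U v → (∀ q ∈ ker S U, y * q * y⁻¹ * q⁻¹ ∈ U) →
        U ⊓ R = ⊥ → Node.grp S y ≤ normalizer (R : Set G) → ∀ r ∈ R, y * r = r * y := by
      intro y v U n hs hU hyn r hr
      have h1 := le_of_inf_bot hU (hs r (n.le_Q_of_normal (coreIn_le _ _) hyn hr))
        (mul_mem (conj_mem (hyn (mem_sup_right (mem_zpowers y))) hr) (inv_mem hr))
      rw [mul_inv_eq_one] at h1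
      exact conj_eq_iff_comm.1 h1
    obtain ⟨z, hzR, hz1, hz⟩ := exists_central_involution T.2 (coreIn_le S X)
      ((le_sup_left : S ≤ Node.grp S x).trans hRn) hR
    obtain ⟨hzT, hzc, -⟩ := mem_omegaCenterOf.1 hz
    set H := centralizer ({z} : Set G)
    have hTH : S ≤ H := fun t ht => mem_centralizer_singleton_iff.2 (hzc t ht)
    have hH : H ∈ Cfsg.calHOver S := h.over hTH (R := zpowers z)
      (fun e => hz1 (mem_bot.1 (e ▸ mem_zpowers z))) (T.2.to_le (zpowers_le.2 hzT)) (zpowers_le.2 (hTH hzT))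
      (by
        refine le_trans ?_ (centralizer_le_normalizer _)
        rw [le_centralizer_iff, zpowers_le]
        exact mem_centralizer_iff.2 fun g hg => mem_centralizer_singleton_iff.1 hg)
    have hKH := c.gen_le (h.T1_le.trans hTH) (mem_centralizer_singleton_iff.2 (hcx na hsh hW hRn z hzR))
    have hKH' := c'.gen_le (h.T1_le.trans hTH) (mem_centralizer_singleton_iff.2 (hcx nb hsh' hW' hRn' z hzR))
    have hne : K ≠ K' := fun e => hnc fun v hv => (mem_inf.1 (na.W_le_Q (by subst e; exact hv))).2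
    exact hnc (h.comp_pair (h.setting_of_comp hH c.comp hKH) c.comp hKH c'.comp hKH' hne).2.2.1
  -- the order of `T`
  have h48 := amalgam_bound na nb hQ hW hW'
  rw [show coreIn S (span2 S x x') = ⊥ from hR, ← relIndex_mul_relIndex ⊥ S (Node.grp S x) bot_le le_sup_left,
    relIndex_bot_left, na.index_three] at h48
  have h16 : Nat.card S ∣ 16 := Nat.dvd_of_mul_dvd_mul_right (by norm_num : 0 < 3) h48
  set Q := ker S W
  have hQc : Nat.card S = Nat.card Q * 2 := by
    have := relIndex_mul_relIndex (⊥ : Subgroup G) Q S bot_le inf_le_left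
    rw [relIndex_bot_left, relIndex_bot_left, na.index_two] at this
    exact this.symm
  have hQ4 : 4 ≤ Nat.card Q := na.four ▸ Cfsg.Lib.ElemToolkit.card_le_card_of_le na.W_le_Q
  obtain ⟨u, hu, hun⟩ := SetLike.not_le_iff_exists.1 hnc
  have huS : u ∈ S := nb.WS hu
  have huQ : u ∉ Q := fun e => hun (mem_inf.1 e).2
  have hu2 : u * u = 1 := nb.W_sq hu
  have hui : u⁻¹ = u := inv_eq_of_mul_eq_one_right hu2
  set p := x * w * x⁻¹ with hp
  have hup : u * p * u⁻¹ = p * w := na.moves huS huQ na.p_mem na.p_ne_one na.move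
  have hnc' : u * p ≠ p * u := fun e => na.w1 (by
    rw [conj_eq_iff_comm.2 e] at hup
    exact mul_eq_left.1 hup.symm)
  have hw2 : w * w = 1 := na.W_sq na.wW
  rcases (show Nat.card Q = 4 ∨ Nat.card Q = 8 by
    have h1 : Nat.card Q ∣ 8 := by
      rw [hQc] at h16
      exact Nat.dvd_of_mul_dvd_mul_right (by norm_num : 0 < 2) h16
    have h2 := Nat.le_of_dvd (by norm_num) h1
    generalize Nat.card Q = m at h1 hQ4 h2 ⊢
    interval_cases m <;> omega) with h4 | h8
  · -- order eight
    have hQW : Q = W := (eq_of_le_of_card_ge na.W_le_Q (h4.le.trans na.four.ge)).symm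
    have hS8 : Nat.card S = 8 := by rw [hQc, h4]
    have hZ : Cfsg.omegaCenterOf S = zpowers w := by
      refine le_antisymm (fun z hz => ?_) (zpowers_le.2 (mem_omegaCenterOf.2
        ⟨na.WS na.wW, fun t ht => na.w_central ht, hw2⟩))
      obtain ⟨hzS, hzc, -⟩ := mem_omegaCenterOf.1 hz
      have hzQ : z ∈ Q := by
        by_contra hzn
        rcases na.fixed_of_moves hzS hzn na.p_mem (conj_eq_iff_comm.2 (hzc p (na.WS na.p_mem)).symm) with e | e
        · exact na.p_ne_one e
        · exact na.move e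
      rw [hQW] at hzQ
      rcases na.fixed_of_moves huS huQ hzQ (conj_eq_iff_comm.2 (hzc u huS)) with e | e
      · exact e ▸ one_mem _
      · exact e ▸ mem_zpowers w
    have hC : centralizer ({w} : Set G) = S := by
      rw [show S = centralizer (Cfsg.omegaCenterOf S : Set G) from h.cent.symm, hZ]
      refine le_antisymm (fun g hg => mem_centralizer_iff.2 fun v hv => ?_) (centralizer_le fun v hv => ?_)
      · obtain ⟨n, rfl⟩ := mem_zpowers_iff.1 hv
        exact ((show Commute w g from (mem_centralizer_singleton_iff.1 hg).symm).zpow_left n).eq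
      · rw [Set.mem_singleton_iff] at hv
        exact hv ▸ mem_zpowers w
    refine ⟨w, orderOf_eq_prime (by rw [pow_two, hw2]) na.w1, ?_⟩
    rw [hC]
    exact Cfsg.Lib.Classical.TwoGroups.dihedral_eight hS8 ⟨u, huS⟩ ⟨p, na.WS na.p_mem⟩ (Subtype.ext hu2)
      (Subtype.ext (na.W_sq na.p_mem)) fun e => hnc' (congrArg Subtype.val e)
  -- order sixteen
  exfalso
  obtain ⟨q, hq, hqW⟩ : ∃ q ∈ Q, q ∉ W := SetLike.not_le_iff_exists.1 fun hle => by
    have := Cfsg.Lib.ElemToolkit.card_le_card_of_le hle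
    rw [h8, na.four] at this
    omega
  obtain ⟨u0, hu0, hfix⟩ := na.exists_fixed (fun v hv => na.Q_comm hq hv) (hsh q hq)
  set cc := q * u0 with hcd
  have hcQ : cc ∈ Q := mul_mem hq (na.W_le_Q hu0)
  have hcW : cc ∉ W := fun e => hqW ((Subgroup.mul_mem_cancel_right _ hu0).1 e)
  have hWQ : W.relIndex Q = 2 := by
    have := relIndex_mul_relIndex (⊥ : Subgroup G) W Q bot_le na.W_le_Q
    rw [relIndex_bot_left, relIndex_bot_left, na.four, h8] at this
    omega
  have hQdec : ∀ y ∈ Q, y ∈ W ∨ cc * y ∈ W := by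
    intro y hy
    by_cases hyW : y ∈ W
    · exact Or.inl hyW
    · exact Or.inr (mem_subgroupOf.1 ((Subgroup.mul_mem_iff_of_index_two
        (show (W.subgroupOf Q).index = 2 from hWQ)).2
        ⟨fun e => absurd (mem_subgroupOf.1 e) hcW, fun e => absurd (mem_subgroupOf.1 e) hyW⟩ :
          (⟨cc, hcQ⟩ : Q) * ⟨y, hy⟩ ∈ W.subgroupOf Q))
  have hc2 : cc * cc = 1 := by
    have hW2 : cc * cc ∈ W := by
      rcases hQdec _ (mul_mem hcQ hcQ) with e | e
      · exact e
      · exfalso
        refine hcW ?_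
        rcases hQdec _ hcQ with e' | e'
        · exact e'
        · exact (Subgroup.mul_mem_cancel_right _ e').1 e
    refine na.fix hW2 ?_
    calc x * (cc * cc) * x⁻¹ = (x * cc * x⁻¹) * (x * cc * x⁻¹) := by group
      _ = cc * cc := by rw [hfix]
  have hci : cc⁻¹ = cc := inv_eq_of_mul_eq_one_right hc2
  have hQab : ∀ a ∈ Q, ∀ b ∈ Q, a * b = b * a := by
    intro a ha b hb
    rcases hQdec a ha with e | e
    · exact (na.Q_comm hb e).symm
    have ea : a = cc * (cc * a) := by rw [← mul_assoc, hc2, one_mul]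
    rcases hQdec b hb with e' | e'
    · exact na.Q_comm ha e'
    have eb : b = cc * (cc * b) := by rw [← mul_assoc, hc2, one_mul]
    have k1 : Commute cc (cc * a) := na.Q_comm hcQ e
    have k2 : Commute cc (cc * b) := na.Q_comm hcQ e'
    have k3 : Commute (cc * a) (cc * b) := elem_comm na.elem e e'
    rw [ea, eb]
    exact (((Commute.refl cc).mul_right k2).mul_left ((k1.symm).mul_right k3)).eq
  have huc : u * cc * u⁻¹ = cc := by
    have hQm : u * cc * u⁻¹ ∈ Q := conj_mem (na.S_normQ huS) hcQ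
    have hinv := na.invert huS huQ
    have hxf : x * (u * cc * u⁻¹) * x⁻¹ = u * cc * u⁻¹ := by
      set q1 := x * (u * x * u⁻¹) with hq1
      calc x * (u * cc * u⁻¹) * x⁻¹ = x * (u * (x * cc * x⁻¹) * u⁻¹) * x⁻¹ := by rw [hfix]
        _ = q1 * (u * cc * u⁻¹) * q1⁻¹ := by rw [hq1]; group
        _ = _ := conj_eq_iff_comm.2 (hQab _ hinv _ hQm)
    rcases hQdec _ hQm with e | e
    · have h1 := na.fix e hxf
      exfalso
      refine hcW ?_
      rw [show cc = u⁻¹ * (u * cc * u⁻¹) * u by group, h1]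
      simpa using one_mem W
    · have h1 := na.fix e (by
        calc x * (cc * (u * cc * u⁻¹)) * x⁻¹ = (x * cc * x⁻¹) * (x * (u * cc * u⁻¹) * x⁻¹) := by group
          _ = _ := by rw [hfix, hxf])
      rw [mul_eq_one_iff_inv_eq, hci] at h1
      exact h1.symm
  have hcS : cc ∈ S := (mem_inf.1 hcQ).1
  have hccen : ∀ t ∈ S, t * cc = cc * t := by
    intro t ht
    by_cases htQ : t ∈ Q
    · exact hQab t htQ cc hcQ
    · have htu := na.mul_mem_Q ht htQ huS huQ
      have hcu : Commute cc u := (conj_eq_iff_comm.1 huc).symm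
      have h2 : Commute cc (t * u) := (hQab _ htu cc hcQ).symm
      have := h2.mul_right hcu.inv_right
      rw [mul_inv_cancel_right] at this
      exact this.eq.symm
  set D := W ⊔ zpowers u
  have hDdec : ∀ d ∈ D, ∃ v ∈ W, d = v ∨ d = v * u := by
    intro d hd
    obtain ⟨v, hv, y, hy, rfl⟩ := (Cfsg.Lib.Coprime.mem_sup_of_le_normalizer
      (zpowers_le.2 (na.SW huS) : zpowers u ≤ normalizer (W : Set G))).1 hd
    obtain ⟨k, rfl⟩ := mem_powers_iff_mem_zpowers.2 hy
    refine ⟨v, hv, ?_⟩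
    rcases Nat.even_or_odd k with ⟨j, hj⟩ | ⟨j, hj⟩
    · exact Or.inl (by show v * u ^ k = v; rw [hj, pow_add, ← (Commute.refl u).mul_pow, hu2, one_pow, mul_one])
    · exact Or.inr (by
        show v * u ^ k = v * u
        rw [hj, pow_succ, two_mul, pow_add, ← (Commute.refl u).mul_pow, hu2, one_pow, one_mul])
  have hDS : D ≤ S := sup_le na.WS (zpowers_le.2 huS)
  have hSdec : ∀ t ∈ S, t ∈ D ∨ cc * t ∈ D := by
    intro t ht
    by_cases htQ : t ∈ Q
    · exact (hQdec t htQ).imp mem_sup_left mem_sup_left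
    · have e : t = (t * u) * u := by rw [mul_assoc, hu2, mul_one]
      rcases hQdec _ (na.mul_mem_Q ht htQ huS huQ) with e' | e'
      · exact Or.inl (by rw [e]; exact mul_mem (mem_sup_left e') (mem_sup_right (mem_zpowers u)))
      · refine Or.inr ?_
        rw [e, ← mul_assoc]
        exact mul_mem (mem_sup_left e') (mem_sup_right (mem_zpowers u))
  have hDn : S ≤ normalizer (D : Set G) := le_normalizer_of_conj fun t ht d hd => by
    rcases hSdec t ht with e | e
    · exact mul_mem (mul_mem e hd) (inv_mem e)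
    · have := mul_mem (mul_mem e hd) (inv_mem e)
      rw [show cc * t * d * (cc * t)⁻¹ = cc * (t * d * t⁻¹) * cc⁻¹ by group,
        ← hccen _ (S.mul_mem (S.mul_mem ht (hDS hd)) (inv_mem ht)), mul_inv_cancel_right] at this
      exact this
  have hDi : ∀ a ∈ S, ∃ d ∈ D, a = d ∨ a = cc * d := fun a ha => by
    rcases hSdec a ha with e | e
    · exact ⟨a, e, Or.inl rfl⟩
    · exact ⟨cc * a, e, Or.inr (by rw [← mul_assoc, hc2, one_mul])⟩
  have hcl : ∀ {d : G}, d ∈ D → Commute cc d := fun hd => (hccen _ (hDS hd)).symm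
  have hab : ∀ a ∈ S, ∀ b ∈ S, a * b * a⁻¹ * b⁻¹ ∈ D := by
    intro a ha b hb
    obtain ⟨d, hd, ea⟩ := hDi a ha
    obtain ⟨d', hd', eb⟩ := hDi b hb
    have hb' : a * b * a⁻¹ = d * b * d⁻¹ := by
      rcases ea with rfl | rfl
      · rfl
      · rw [show cc * d * b * (cc * d)⁻¹ = cc * (d * b * d⁻¹) * cc⁻¹ by group]
        exact conj_eq_iff_comm.2 (hccen _ (S.mul_mem (S.mul_mem (hDS hd) hb) (inv_mem (hDS hd)))).symm
    rw [hb']
    rcases eb with rfl | rfl
    · exact mul_mem (mul_mem (mul_mem hd hd') (inv_mem hd)) (inv_mem hd')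
    · have e : d * (cc * d') * d⁻¹ * (cc * d')⁻¹ = d * d' * d⁻¹ * d'⁻¹ := by
        rw [← mul_assoc d cc d', ← (hcl hd).eq, mul_assoc cc d d', (hcl (mul_mem hd hd')).eq,
          mul_assoc (d * d') cc d⁻¹, (hcl (inv_mem hd)).eq, ← mul_assoc, _root_.mul_inv_rev]
        rw [mul_assoc (d * d' * d⁻¹) cc, ← mul_assoc cc d'⁻¹, (hcl (inv_mem hd')).eq, mul_assoc d'⁻¹ cc,
          mul_inv_cancel, mul_one]
      rw [e]
      exact mul_mem (mul_mem (mul_mem hd hd') (inv_mem hd)) (inv_mem hd')
  have hcD : cc ∉ D := fun e => by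
    obtain ⟨v, hv, e' | e'⟩ := hDdec _ e
    · exact hcW (e' ▸ hv)
    · refine huQ ?_
      rw [show u = v⁻¹ * cc by rw [e']; group]
      exact mul_mem (inv_mem (na.W_le_Q hv)) hcQ
  have hconj : ∀ {y : G} {U : Subgroup G}, Node S y U w → ∀ e ∈ U, e ≠ 1 →
      ∃ g : G, g * e * g⁻¹ = w := by
    intro y U n e he he1
    rcases n.cases he with r | r | r | r
    · exact absurd r he1
    · exact ⟨1, by rw [r]; group⟩
    · exact ⟨y⁻¹, by rw [r]; group⟩
    · refine ⟨y, ?_⟩
      have h3 := n.mover.conj3 w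
      set p1 := y * w * y⁻¹ with hp1
      set p2 := y * p1 * y⁻¹ with hp2
      have hp12 : p1 * p2 = w := by
        have hs := n.mover.sum_eq_one (n.dlR_eq.ge n.wW)
        rw [← hp1, ← hp2] at hs
        have : p1 * p2 = w⁻¹ := eq_inv_of_mul_eq_one_right (by rw [← mul_assoc]; exact hs)
        rw [this, elem_inv n.elem n.wW]
      calc y * e * y⁻¹ = (y * w * y⁻¹) * (y * p1 * y⁻¹) := by rw [r]; group
        _ = p1 * p2 := by rw [← hp1, ← hp2]
        _ = w := hp12
  have hctrl : ∀ a : G, a * cc * a⁻¹ ∈ S → a * cc * a⁻¹ * cc⁻¹ ∈ D := by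
    intro a ha
    rcases hSdec _ ha with e | e
    swap
    · rw [hci, hccen _ ha]
      exact e
    exfalso
    set e0 := a * cc * a⁻¹ with he0
    have he1 : e0 ≠ 1 := fun e' => hcW (by
      rw [show cc = a⁻¹ * e0 * a by rw [he0]; group, e']
      simpa using one_mem W)
    have he2 : e0 * e0 = 1 := by
      calc e0 * e0 = a * (cc * cc) * a⁻¹ := by rw [he0]; group
        _ = 1 := by rw [hc2]; group
    obtain ⟨g, hg⟩ : ∃ g : G, g * e0 * g⁻¹ = w := by
      obtain ⟨v, hv, e' | e'⟩ := hDdec _ e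
      · exact hconj na e0 (e' ▸ hv) he1
      · have hfixv : u * v * u⁻¹ = v := by
          calc u * v * u⁻¹ = v⁻¹ * (v * u * (v * u)) * (u * u)⁻¹ := by group
            _ = v⁻¹ := by rw [← e', he2, hu2]; group
            _ = v := elem_inv na.elem hv
        have hvw : v ∈ W' := by
          rcases na.fixed_of_moves huS huQ hv hfixv with r | r
          · rw [r]; exact one_mem _
          · rw [r, hww]; exact nb.wW
        exact hconj (hww.symm ▸ nb) e0 (e' ▸ W'.mul_mem hvw hu) he1
    set a' := g * a with ha'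
    have ha'c : a' * cc * a'⁻¹ = w := by
      calc a' * cc * a'⁻¹ = g * (a * cc * a⁻¹) * g⁻¹ := by rw [ha']; group
        _ = w := hg
    set C := centralizer ({w} : Set G)
    have hSC : S ≤ C := fun t ht => mem_centralizer_singleton_iff.2 (na.w_central ht)
    have hTC : cj a' S ≤ C := by
      rintro _ ⟨t, ht, rfl⟩
      refine mem_centralizer_singleton_iff.2 ?_
      show a' * t * a'⁻¹ * w = w * (a' * t * a'⁻¹)
      rw [← ha'c]
      calc a' * t * a'⁻¹ * (a' * cc * a'⁻¹) = a' * (t * cc) * a'⁻¹ := by group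
        _ = a' * (cc * t) * a'⁻¹ := by rw [hccen t ht]
        _ = _ := by group
    obtain ⟨l, hl, hle⟩ := exists_conj_le (sylowIn_of_sylow T hSC) hTC (T.2.map _)
    set n := l⁻¹ * a' with hn0
    have hnS : ∀ t ∈ S, n * t * n⁻¹ ∈ S := fun t ht => by
      have := mem_cj.1 (hle (conj_mem_cj (g := a') ht))
      simpa [hn0, mul_assoc] using this
    have hncc : n * cc * n⁻¹ = w := by
      calc n * cc * n⁻¹ = l⁻¹ * (a' * cc * a'⁻¹) * l := by rw [hn0]; group
        _ = l⁻¹ * (w * l) := by rw [ha'c]; group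
        _ = l⁻¹ * (l * w) := by rw [mem_centralizer_singleton_iff.1 hl]
        _ = w := by group
    have hsq : ∀ t ∈ S, t * t = 1 ∨ t * t = w := by
      intro t ht
      have key : ∀ d ∈ D, d * d = 1 ∨ d * d = w := by
        intro d hd
        obtain ⟨v, hv, r | r⟩ := hDdec d hd
        · exact Or.inl (by rw [r]; exact na.W_sq hv)
        · rcases na.comm_cases huS hv with r' | r'
          · refine Or.inl ?_
            calc d * d = v * (u * v * u⁻¹) * (u * u) := by rw [r]; group
              _ = 1 := by rw [r', hu2, mul_one, na.W_sq hv]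
          · refine Or.inr ?_
            calc d * d = v * (u * v * u⁻¹) * (u * u) := by rw [r]; group
              _ = w := by rw [r', hu2, mul_one, ← mul_assoc, na.W_sq hv, one_mul]
      obtain ⟨d, hd, r | r⟩ := hDi t ht
      · rw [r]; exact key d hd
      · rw [r, show cc * d * (cc * d) = cc * (d * cc) * d by group, ← (hcl hd).eq,
          show cc * (cc * d) * d = (cc * cc) * (d * d) by group, hc2, one_mul]
        exact key d hd
    have hpu : (p * u) * (p * u) = w := by
      calc p * u * (p * u) = p * (u * p * u⁻¹) * (u * u) := by group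
        _ = w := by rw [hup, hu2, mul_one, ← mul_assoc, na.W_sq na.p_mem, one_mul]
    have hnw : n * w * n⁻¹ = w := by
      rcases hsq _ (hnS _ (S.mul_mem (na.WS na.p_mem) huS)) with r | r
      · exfalso
        refine na.w1 ?_
        calc w = n⁻¹ * (n * (p * u) * n⁻¹ * (n * (p * u) * n⁻¹)) * n := by rw [← hpu]; group
          _ = 1 := by rw [r]; group
      · calc n * w * n⁻¹ = n * (p * u) * n⁻¹ * (n * (p * u) * n⁻¹) := by rw [← hpu]; group
          _ = w := r
    refine hcW ?_
    rw [show cc = w from mul_left_cancel (mul_right_cancel (hncc.trans hnw.symm))]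
    exact na.wW
  have htop : JComp.oddClosure G = ⊤ := by
    haveI : (JComp.oddClosure G).Normal := ⟨fun y hy g => by
      have hle : JComp.oddClosure G ≤ (JComp.oddClosure G).comap (MulAut.conj g).toMonoidHom :=
        (closure_le _).2 fun z hz => subset_closure (by
          show Odd (orderOf ((MulAut.conj g) z))
          rw [MulEquiv.orderOf_eq]; exact hz)
      exact hle hy⟩
    rcases IsSimpleGroup.eq_bot_or_eq_top_of_normal (JComp.oddClosure G) inferInstance with e | e
    · exact absurd (mem_bot.1 (e ▸ (subset_closure na.x_odd : x ∈ JComp.oddClosure G))) na.x_ne_one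
    · exact e
  exact JComp.notMem_oddClosure T D (normal_subgroupOf_of_le_normalizer hDn) hab hcS hcD hc2 hctrl
    (htop.ge (mem_top _))

end Cfsg.Lib.QTLf
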