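import Cfsg.Agent.QTKE.LfEmpty.Diag
import Cfsg.Agent.TwoFusion.TransferApps

/-!
The diagonal case is impossible: two transfers over `T/T₁`.
-/

set_option autoImplicit false
set_option linter.unusedSectionVars false
set_option linter.style.haveILetI false

namespace Cfsg.Lib.QTLf

open Subgroup Cfsg.Lib.JComp

universe u

variable {G : Type u} [Group G] [Finite G]

/-- A maximal 2-subgroup has maximal order. -/
theorem card_le_of_max {P C R : Subgroup G} (hP : IsPGroup 2 P) (hPC : P ≤ C)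
    (hmax : ∀ Q : Subgroup G, IsPGroup 2 Q → P ≤ Q → Q ≤ C → Q ≤ P) (hR : IsPGroup 2 R) (hRC : R ≤ C) :
    Nat.card R ≤ Nat.card P := by
  haveI : Fact (Nat.Prime 2) := ⟨Nat.prime_two⟩
  obtain ⟨Q, hQ⟩ := (hP.comap_of_injective C.subtype C.subtype_injective).exists_le_sylow
  obtain ⟨Q', hQ'⟩ := (hR.comap_of_injective C.subtype C.subtype_injective).exists_le_sylow
  have hup : ∀ {A : Subgroup G} (S : Subgroup C), A ≤ C → A.comap C.subtype ≤ S → A ≤ S.map C.subtype :=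
    fun {A} S hAC hle a ha => ⟨⟨a, hAC ha⟩, hle (show ((⟨a, hAC ha⟩ : C) : G) ∈ A from ha), rfl⟩
  have hQP : (Q : Subgroup C).map C.subtype ≤ P :=
    hmax _ (Q.isPGroup'.map C.subtype) (hup _ hPC hQ) (map_subtype_le _)
  have hc : ∀ S : Subgroup C, Nat.card ↥(S.map C.subtype) = Nat.card S := fun S =>
    (Nat.card_congr (S.equivMapOfInjective _ C.subtype_injective).toEquiv).symm
  calc Nat.card R ≤ Nat.card ↥((Q' : Subgroup C).map C.subtype) :=
        Cfsg.Lib.ElemToolkit.card_le_card_of_le (hup _ hRC hQ')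
    _ = Nat.card ↥((Q : Subgroup C).map C.subtype) := by
        rw [hc, hc, Sylow.card_eq_multiplicity, Sylow.card_eq_multiplicity]
    _ ≤ Nat.card P := Cfsg.Lib.ElemToolkit.card_le_card_of_le hQP

theorem card_sup_le_two {H X : Subgroup G} {w : G} (hX : X ≤ normalizer (H : Set G)) (hX4 : Nat.card X = 4)
    (hwH : w ∈ H) (hwX : w ∈ X) (hw : w ≠ 1) : Nat.card ↥(H ⊔ X) ≤ 2 * Nat.card H := by
  have h2 : 2 ≤ Nat.card ↥(H ⊓ X) := two_le_card fun e => hw (mem_bot.1 (e ▸ mem_inf.2 ⟨hwH, hwX⟩))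
  have e := card_mul_relIndex (inf_le_right : H ⊓ X ≤ X)
  rw [inf_relIndex_right, hX4] at e
  rw [← card_mul_relIndex (le_sup_left : H ≤ H ⊔ X), relIndex_sup_normalized hX, mul_comm 2]
  exact Nat.mul_le_mul_left _ (by nlinarith)

variable {T : Sylow 2 G} (h : Hyps T)

include h

namespace Diag

variable {K1 K2 L1 L2 : Subgroup G} {x1 w1 x2 w2 y1 y2 : G}
  (D : Diag (T : Subgroup G) K1 K2 L1 L2 x1 w1 x2 w2 y1 y2)

include D

theorem out_perm {s : G} (hs : s ∈ (T : Subgroup G)) (hsn : s ∉ T1 (T : Subgroup G)) :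
    cj s K1 = K2 ∧ cj s K2 = K1 ∧ cj s L1 = L2 ∧ cj s L2 = L1 := by
  have hsJ := h.T_le_NJ hs
  have hne := D.q.o.w_ne h D.q.hK
  rcases D.q.o.perm s hs with ⟨e1, e2⟩ | ⟨e1, e2⟩ <;> rcases D.q.o'.perm s hs with ⟨e3, e4⟩ | ⟨e3, e4⟩
  · exact absurd (D.q.mem_T1 h hsJ e1 e2 e3 e4) hsn
  · exact absurd ((h.label_conj D.q.o.c1 D.q.o.c1 hsJ e1).symm.trans
      (h.label_conj D.q.o'.c1 D.q.o'.c2 hsJ e3)) hne
  · exact absurd ((h.label_conj D.q.o'.c1 D.q.o'.c1 hsJ e3).symm.trans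
      (h.label_conj D.q.o.c1 D.q.o.c2 hsJ e1)) hne
  · exact ⟨e1, e2, e3, e4⟩

theorem conj_w {s : G} (hs : s ∈ (T : Subgroup G)) (hsn : s ∉ T1 (T : Subgroup G)) :
    s * w1 * s⁻¹ = w2 ∧ s * w2 * s⁻¹ = w1 := by
  obtain ⟨e1, e2, -, -⟩ := D.out_perm h hs hsn
  exact ⟨h.label_conj D.q.o.c1 D.q.o.c2 (h.T_le_NJ hs) e1, h.label_conj D.q.o.c2 D.q.o.c1 (h.T_le_NJ hs) e2⟩

theorem exists_out_T : ∃ t ∈ (T : Subgroup G), t ∉ T1 (T : Subgroup G) := by
  obtain ⟨t, ht, he⟩ := D.q.o.swap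
  refine ⟨t, ht, fun hn => D.q.o.w_ne h D.q.hK ?_⟩
  rw [← h.label_conj D.q.o.c1 D.q.o.c2 (h.T_le_NJ ht) he]
  exact (mem_cent_iff.1 hn w1 D.q.o.c1.wZ).symm

theorem mul_out {b c : G} (hb : b ∈ (T : Subgroup G)) (hbn : b ∉ T1 (T : Subgroup G))
    (hc : c ∈ (T : Subgroup G)) (hcn : c ∉ T1 (T : Subgroup G)) : b * c ∈ T1 (T : Subgroup G) := by
  obtain ⟨e1, e2, e3, e4⟩ := D.out_perm h hb hbn
  obtain ⟨f1, f2, f3, f4⟩ := D.out_perm h hc hcn
  refine D.q.mem_T1 h (h.T_le_NJ (mul_mem hb hc)) ?_ ?_ ?_ ?_ <;> rw [← cj_cj]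
  · rw [f1, e2]
  · rw [f2, e1]
  · rw [f3, e4]
  · rw [f4, e3]

theorem idx_T : (T1 (T : Subgroup G)).relIndex (T : Subgroup G) = 2 := by
  obtain ⟨t, ht, htn⟩ := D.exists_out_T h
  rw [relIndex, index_eq_two_iff_exists_notMem_and]
  refine ⟨⟨t, ht⟩, fun e => htn (mem_subgroupOf.1 e), fun b => ?_⟩
  by_cases hb : (b : G) ∈ T1 (T : Subgroup G)
  · exact Or.inr (mem_subgroupOf.2 hb)
  · exact Or.inl (mem_subgroupOf.2 (D.mul_out h b.2 hb ht htn))

theorem comm_mem {a b : G} (ha : a ∈ (T : Subgroup G)) (hb : b ∈ (T : Subgroup G)) :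
    a * b * a⁻¹ * b⁻¹ ∈ T1 (T : Subgroup G) := by
  by_cases ha' : a ∈ T1 (T : Subgroup G)
  · rw [show a * b * a⁻¹ * b⁻¹ = a * (b * a⁻¹ * b⁻¹) by group]
    exact mul_mem ha' (conj_mem (h.T_norm hb) (inv_mem ha'))
  by_cases hb' : b ∈ T1 (T : Subgroup G)
  · exact mul_mem (conj_mem (h.T_norm ha) hb') (inv_mem hb')
  rw [show a * b * a⁻¹ * b⁻¹ = (a * b) * (a⁻¹ * b⁻¹) by group]
  exact mul_mem (D.mul_out h ha ha' hb hb') (D.mul_out h (inv_mem ha) (fun e => ha' (inv_mem_iff.1 e))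
    (inv_mem hb) fun e => hb' (inv_mem_iff.1 e))

theorem conj_G1 {s a : G} (hs : s ∈ (T : Subgroup G)) (hsn : s ∉ T1 (T : Subgroup G)) (ha : a ∈ D.G1) :
    s * a * s⁻¹ ∈ D.swap.G1 := by
  obtain ⟨e1, -, e3, -⟩ := D.out_perm h hs hsn
  have := conj_mem_cj (g := s) ha
  rwa [show cj s D.G1 = cj s (Cfsg.wOf K1) ⊔ cj s (Cfsg.wOf L1) from Subgroup.map_sup _ _ _, ← wOf_cj,
    ← wOf_cj, e1, e3] at this

theorem conj_R1 {s r : G} (hs : s ∈ (T : Subgroup G)) (hsn : s ∉ T1 (T : Subgroup G)) (hr : r ∈ D.R1) :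
    s * r * s⁻¹ ∈ D.swap.R1 := by
  obtain ⟨e1, -, e3, -⟩ := D.out_perm h hs hsn
  exact mem_inf.2 ⟨e1 ▸ ker_conj h hs (mem_inf.1 hr).1, e3 ▸ ker_conj h hs (mem_inf.1 hr).2⟩

theorem card_T : Nat.card (T : Subgroup G) = 2 * Nat.card ↥(T1 (T : Subgroup G)) := by
  rw [← card_mul_relIndex h.T1_le, D.idx_T h, mul_comm]

theorem cent_small {s : G} (hs : s ∈ (T : Subgroup G)) (hsn : s ∉ T1 (T : Subgroup G)) :
    4 * Nat.card ↥((T : Subgroup G) ⊓ centralizer ({s} : Set G)) ≤ Nat.card ↥(T1 (T : Subgroup G)) := by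
  set C := T1 (T : Subgroup G) ⊓ centralizer ({s} : Set G)
  set Zs := Z0 (T : Subgroup G) ⊓ centralizer ({s} : Set G)
  set P := (T : Subgroup G) ⊓ centralizer ({s} : Set G)
  have hC : D.R1 ⊓ C ≤ Zs := by
    intro c hc
    obtain ⟨hcR, -, hcs⟩ := hc
    refine mem_inf.2 ⟨D.RR_le h hcR ?_, hcs⟩
    have := D.conj_R1 h hs hsn hcR
    rwa [conj_eq_iff_comm.2 (mem_centralizer_singleton_iff.1 hcs).symm] at this
  have hZ : 2 * Nat.card ↥Zs ≤ Nat.card ↥(Z0 (T : Subgroup G)) := by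
    rw [← card_mul_relIndex (inf_le_left : Zs ≤ Z0 (T : Subgroup G)), mul_comm 2]
    refine Nat.mul_le_mul_left _ ?_
    have h1 : Zs.relIndex (Z0 (T : Subgroup G)) ≠ 1 := fun e => hsn (mem_cent_iff.2 fun z hz =>
      conj_eq_iff_comm.2 (mem_centralizer_singleton_iff.1 (mem_inf.1 (relIndex_eq_one.1 e hz)).2).symm)
    have h2 : Zs.relIndex (Z0 (T : Subgroup G)) ≠ 0 := index_ne_zero_of_finite
    exact (Nat.two_le_iff _).2 ⟨h2, h1⟩
  have h4 : D.R1.relIndex C ≤ 4 :=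
    (relIndex_le_of_le_right inf_le_left (by rw [D.R1_index h]; decide)).trans (D.R1_index h).le
  have hCc : Nat.card ↥C ≤ 4 * Nat.card ↥Zs := by
    rw [← card_mul_relIndex (inf_le_right : D.R1 ⊓ C ≤ C), inf_relIndex_right, mul_comm]
    exact Nat.mul_le_mul h4 (Cfsg.Lib.ElemToolkit.card_le_card_of_le hC)
  have hP : Nat.card ↥P ≤ 2 * Nat.card ↥C := by
    rw [← card_mul_relIndex (inf_le_right : T1 (T : Subgroup G) ⊓ P ≤ P), inf_relIndex_right, mul_comm]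
    exact Nat.mul_le_mul ((relIndex_le_of_le_right inf_le_left (by rw [D.idx_T h]; decide)).trans (D.idx_T h).le)
      (Cfsg.Lib.ElemToolkit.card_le_card_of_le fun c hc => mem_inf.2 ⟨hc.1, hc.2.2⟩)
  have h16 := D.card_T1 h
  omega

theorem cent_big_of {v : G} (hv : v ∈ D.R1) (hv' : v ∈ ker (T1 (T : Subgroup G)) (Cfsg.wOf K2)) :
    Nat.card ↥(T1 (T : Subgroup G)) ≤ 2 * Nat.card ↥((T : Subgroup G) ⊓ centralizer ({v} : Set G)) := by
  set H := D.G1 ⊔ Cfsg.wOf K2 ⊔ Z0 (T : Subgroup G)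
  obtain ⟨hv1, hv2⟩ := mem_inf.1 hv
  have n2 := D.q.o.c2.node
  have m2 := D.q.o'.c2.node
  have hW : ∀ {W : Subgroup G}, W ≤ T1 (T : Subgroup G) → v ∈ ker (T1 (T : Subgroup G)) W →
      W ≤ (T : Subgroup G) ⊓ centralizer ({v} : Set G) := fun {W} hWS hvW u hu =>
    mem_inf.2 ⟨h.T1_le (hWS hu), mem_centralizer_singleton_iff.2 (mem_centralizer_iff.1 (mem_inf.1 hvW).2 u hu)⟩
  have hHle : H ≤ (T : Subgroup G) ⊓ centralizer ({v} : Set G) := by
    refine sup_le (sup_le (sup_le (hW D.q.o.c1.node.WS hv1) (hW D.q.o'.c1.node.WS hv2)) (hW n2.WS hv'))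
      fun z hz => mem_inf.2 ⟨h.T1_le (Z0_le_T1 _ hz), mem_centralizer_singleton_iff.2 ?_⟩
    exact (conj_eq_iff_comm.1 (mem_cent_iff.1 (mem_inf.1 hv1).1 z hz)).symm
  have hX : Cfsg.wOf L2 ≤ normalizer (H : Set G) := fun b hb => mem_normalizer_of_cj (by
    have hbS := m2.WS hb
    rw [show cj b H = cj b (D.G1 ⊔ Cfsg.wOf K2) ⊔ cj b (Z0 (T : Subgroup G)) from Subgroup.map_sup _ _ _,
      show cj b (D.G1 ⊔ Cfsg.wOf K2) = cj b D.G1 ⊔ cj b (Cfsg.wOf K2) from Subgroup.map_sup _ _ _,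
      cj_eq_self (n2.SW hbS), cj_eq_self (centralizer_le_normalizer _ hbS),
      cj_eq_self (centralizer_le_normalizer _ (mem_centralizer_iff.2 fun a ha =>
        D.commG h ha (mem_sup_right hb)))])
  have hle : T1 (T : Subgroup G) ≤ H ⊔ Cfsg.wOf L2 := fun g hg => by
    obtain ⟨a1, ha1, a2, ha2, r, hr, rfl⟩ := D.decomp h hg
    refine mul_mem (mul_mem (mem_sup_left (mem_sup_left (mem_sup_left ha1))) ?_)
      (mem_sup_left (mem_sup_right hr))
    exact (sup_le ((le_sup_right.trans le_sup_left).trans le_sup_left) le_sup_right :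
      Cfsg.wOf K2 ⊔ Cfsg.wOf L2 ≤ H ⊔ Cfsg.wOf L2) ha2
  calc Nat.card ↥(T1 (T : Subgroup G)) ≤ Nat.card ↥(H ⊔ Cfsg.wOf L2) :=
        Cfsg.Lib.ElemToolkit.card_le_card_of_le hle
    _ ≤ 2 * Nat.card ↥H := card_sup_le_two hX m2.four (mem_sup_left (mem_sup_right n2.wW)) m2.wW m2.w1
    _ ≤ _ := Nat.mul_le_mul_left 2 (Cfsg.Lib.ElemToolkit.card_le_card_of_le hHle)

theorem cent_big {v : G} (hv : v ∈ D.R1) (hv2 : v * v = 1) :
    Nat.card ↥(T1 (T : Subgroup G)) ≤ 2 * Nat.card ↥((T : Subgroup G) ⊓ centralizer ({v} : Set G)) := by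
  rcases D.swap.invol_side (mem_inf.1 (mem_inf.1 hv).1).1 hv2 with e | e
  · exact D.cent_big_of h hv e
  · exact D.flip.cent_big_of h (mem_inf.2 ⟨(mem_inf.1 hv).2, (mem_inf.1 hv).1⟩) e

/-- An element commuting with the twisted pairs `u · sus⁻¹` centralizes `W(K₁)`. -/
theorem cent_W {e s : G} (hs : s ∈ (T : Subgroup G)) (hsn : s ∉ T1 (T : Subgroup G))
    (he : e ∈ T1 (T : Subgroup G)) (hm : ∀ u ∈ D.G1, e * (u * (s * u * s⁻¹)) = u * (s * u * s⁻¹) * e) :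
    e ∈ ker (T1 (T : Subgroup G)) (Cfsg.wOf K1) := by
  refine mem_inf.2 ⟨he, mem_cent_iff.2 fun u hu => ?_⟩
  have hu' : s * u * s⁻¹ ∈ Cfsg.wOf K2 := by
    rw [← (D.out_perm h hs hsn).1, wOf_cj]; exact conj_mem_cj hu
  set u' := s * u * s⁻¹
  have hz := D.q.o.z_ne h D.q.hK
  have hE : (e * u * e⁻¹) * (e * u' * e⁻¹) = u * u' := by
    calc (e * u * e⁻¹) * (e * u' * e⁻¹) = e * (u * u') * e⁻¹ := by group
      _ = _ := conj_eq_iff_comm.2 (hm u (mem_sup_left hu))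
  rcases D.q.o.c1.node.comm_cases he hu with f | f
  · exact f
  exfalso
  rcases D.q.o.c2.node.comm_cases he hu' with g | g <;> rw [f, g] at hE
  · rw [mul_assoc] at hE
    exact D.q.o.c1.node.w1 (mul_eq_right.1 (mul_left_cancel hE))
  · refine hz ?_
    have hwu : w1 * u' = u' * w1 := (D.q.o.c1.node.w_central (D.q.o.c2.node.WS hu')).symm
    rw [show u * w1 * (u' * w2) = u * (w1 * u') * w2 by group, hwu,
      show u * (u' * w1) * w2 = (u * u') * (w1 * w2) by group] at hE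
    exact mul_eq_left.1 hE

theorem mem_Z0 {e s : G} (hs : s ∈ (T : Subgroup G)) (hsn : s ∉ T1 (T : Subgroup G)) (hs2 : s * s = 1)
    (he : e ∈ T1 (T : Subgroup G)) (hm : ∀ u ∈ D.G1, e * (u * (s * u * s⁻¹)) = u * (s * u * s⁻¹) * e) :
    e ∈ Z0 (T : Subgroup G) := by
  have hm' : ∀ u ∈ D.swap.G1, e * (u * (s * u * s⁻¹)) = u * (s * u * s⁻¹) * e := by
    intro u hu
    have h1 : s * u * s⁻¹ ∈ D.G1 := D.swap.conj_G1 h hs hsn hu
    have h2 := hm _ h1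
    rwa [show s * (s * u * s⁻¹) * s⁻¹ = (s * s) * u * (s * s)⁻¹ by group, hs2, one_mul, inv_one, mul_one,
      D.commG h h1 hu] at h2
  have hf : ∀ {A B : Subgroup G}, ∀ u ∈ A ⊔ B, u ∈ B ⊔ A := fun {A B} u hu => sup_comm A B ▸ hu
  exact D.RR_le h (mem_inf.2 ⟨D.cent_W h hs hsn he hm, D.flip.cent_W h hs hsn he fun u hu => hm u (hf u hu)⟩)
    (mem_inf.2 ⟨D.swap.cent_W h hs hsn he hm', D.flip.swap.cent_W h hs hsn he fun u hu => hm' u (hf u hu)⟩)

theorem sylow_cent {s : G} (hs : s ∈ (T : Subgroup G)) (hsn : s ∉ T1 (T : Subgroup G)) (hs2 : s * s = 1) :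
    ∀ R : Subgroup G, IsPGroup 2 R → R ≤ centralizer ({s} : Set G) →
      Nat.card R ≤ Nat.card ↥((T : Subgroup G) ⊓ centralizer ({s} : Set G)) := by
  set P := (T : Subgroup G) ⊓ centralizer ({s} : Set G)
  intro R hR hRC
  refine card_le_of_max (T.2.to_le inf_le_left) inf_le_right (fun Q hQ hPQ hQC => ?_) hR hRC
  by_contra hne
  obtain ⟨r, hrQ, hrN, hrP⟩ := JComp.exists_normalizing hQ hPQ fun e => hne e.ge
  set z := w1 * w2 with hz
  have hzO := mem_omegaCenterOf.1 (D.q.o.z_omega h)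
  have hzP : z ∈ P := mem_inf.2 ⟨hzO.1, mem_centralizer_singleton_iff.2 (hzO.2.1 s hs).symm⟩
  set y := r * z * r⁻¹
  have hyP : y ∈ P := conj_mem hrN hzP
  have hyc : ∀ p ∈ P, y * p = p * y := fun p hp => by
    have h1 : r⁻¹ * p * r ∈ (T : Subgroup G) := by
      have := conj_mem (inv_mem hrN) hp
      rw [inv_inv] at this
      exact this.1
    have h2 : Commute z (r⁻¹ * p * r) := (hzO.2.1 _ h1).symm
    calc y * p = r * (z * (r⁻¹ * p * r)) * r⁻¹ := by simp only [y]; group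
      _ = r * ((r⁻¹ * p * r) * z) * r⁻¹ := by rw [h2.eq]
      _ = _ := by simp only [y]; group
  have hodd : ∀ k : G, Odd (orderOf k) → k * y = y * k → k = 1 := fun k ho hk => by
    have h1 : r⁻¹ * k * r ∈ (T : Subgroup G) := by
      rw [← D.zT, mem_centralizer_singleton_iff]
      calc r⁻¹ * k * r * (w1 * w2) = r⁻¹ * (k * y) * r := by simp only [y, z]; group
        _ = r⁻¹ * (y * k) * r := by rw [hk]
        _ = _ := by simp only [y, z]; group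
    have e := eq_one_of_odd T.2 h1 (by
      rw [show r⁻¹ * k * r = MulAut.conj r⁻¹ k by simp, MulEquiv.orderOf_eq]; exact ho)
    calc k = r * (r⁻¹ * k * r) * r⁻¹ := by group
      _ = 1 := by rw [e]; group
  suffices hyz : y = z by
    refine hrP (mem_inf.2 ⟨?_, hQC hrQ⟩)
    rw [← D.zT, mem_centralizer_singleton_iff]
    exact conj_eq_iff_comm.1 hyz
  have hpair : ∀ u ∈ D.G1, u * (s * u * s⁻¹) ∈ P ∧ s * (u * (s * u * s⁻¹)) = u * (s * u * s⁻¹) * s := by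
    intro u hu
    have h1 := D.conj_G1 h hs hsn hu
    have h2 : s * (u * (s * u * s⁻¹)) * s⁻¹ = u * (s * u * s⁻¹) := by
      calc s * (u * (s * u * s⁻¹)) * s⁻¹ = (s * u * s⁻¹) * ((s * s) * u * (s * s)⁻¹) := by group
        _ = _ := by rw [hs2, one_mul, inv_one, mul_one, D.commG h hu h1]
    exact ⟨mem_inf.2 ⟨h.T1_le (mul_mem (D.G1_le hu) (D.swap.G1_le h1)),
      mem_centralizer_singleton_iff.2 (conj_eq_iff_comm.1 h2).symm⟩, conj_eq_iff_comm.1 h2⟩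
  have hyT := (mem_inf.1 hyP).1
  by_cases hy1 : y ∈ T1 (T : Subgroup G)
  · have hyZ := D.mem_Z0 h hs hsn hs2 hy1 fun u hu => hyc _ (hpair u hu).1
    have hno : ∀ {K : Subgroup G} {x w : G}, CN (T : Subgroup G) K x w → y ∉ Zc (T : Subgroup G) K :=
      fun c hy => c.node.x_ne_one (hodd _ c.node.x_odd (conj_eq_iff_comm.1 ((c.fix_iff hyZ).2 hy)))
    exact D.q.eq_of_not_mem h hyZ D.q.o.z_Z0 (hno D.q.o.c1) (hno D.q.o.c2) (hno D.q.o'.c1) (hno D.q.o'.c2)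
      (D.q.o.z_not h D.q.hK) (D.q.o.z_not' h D.q.hK) (D.q.o'.z_not h D.q.hL) (D.q.o'.z_not' h D.q.hL)
  exfalso
  set e := s * y with he
  have heT : e ∈ T1 (T : Subgroup G) := D.mul_out h hs hsn hyT hy1
  have hye : y = s * e := by rw [he, ← mul_assoc, hs2, one_mul]
  have hsy : Commute s y := (mem_centralizer_singleton_iff.1 (mem_inf.1 hyP).2).symm
  have hes : Commute s e := (Commute.refl s).mul_right hsy
  have heZ : e ∈ Z0 (T : Subgroup G) := D.mem_Z0 h hs hsn hs2 heT fun u hu =>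
    ((show Commute s _ from (hpair u hu).2).mul_left (show Commute y _ from hyc _ (hpair u hu).1)).eq
  obtain ⟨e1, -, -, -⟩ := D.out_perm h hs hsn
  have hxs : s * x1 * s⁻¹ ∈ K2 := e1 ▸ conj_mem_cj D.q.o.c1.xK
  set x' := s * x1 * s⁻¹ with hx'
  have hxx : Commute x1 x' := D.commK h D.q.o.c1.xK hxs
  set k := x1 * x'
  have hk3 : k ^ 3 = 1 := by
    rw [hxx.mul_pow, D.q.o.c1.node.cube, one_mul, hx', conj_pow, D.q.o.c1.node.cube]; group
  have hko : Odd (orderOf k) := Odd.of_dvd_nat (by decide) (orderOf_dvd_of_pow_eq_one hk3)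
  have hk1 : k ≠ 1 := fun e' => D.q.o.c1.node.move (mem_cent_iff.1
    (D.q.o.symm.cross h (Ne.symm D.q.hK) (show x1 ∈ K2 by
      rw [eq_inv_of_mul_eq_one_left e']; exact inv_mem hxs)) w1 D.q.o.c1.node.wW)
  have hks : Commute k s := by
    refine (show Commute s k from conj_eq_iff_comm.1 ?_).symm
    calc s * k * s⁻¹ = x' * ((s * s) * x1 * (s * s)⁻¹) := by simp only [k, hx']; group
      _ = k := by rw [hs2, one_mul, inv_one, mul_one]; exact hxx.eq.symm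
  have hfix : ∀ f ∈ Z0 (T : Subgroup G), Commute s f → f ∈ Zc (T : Subgroup G) K1 → Commute k (s * f) := by
    intro f hf hsf hfc
    have h1 : Commute x1 f := conj_eq_iff_comm.1 ((D.q.o.c1.fix_iff hf).2 hfc)
    exact hks.mul_right (h1.mul_left ((hsf.mul_left h1).mul_left hsf.inv_left))
  by_cases hec : e ∈ Zc (T : Subgroup G) K1
  · exact hk1 (hodd k hko (hye ▸ hfix e heZ hes hec))
  · have hzs : Commute s z := hzO.2.1 s hs
    have hf := hfix (z * e) (mul_mem D.q.o.z_Z0 heZ) (hzs.mul_right hes)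
      (D.q.o.c1.mul_mem_Zc D.q.o.z_Z0 heZ (D.q.o.z_not h D.q.hK) hec)
    have hwy : w1 * y * w1⁻¹ = s * (z * e) := by
      have hea : e * w1⁻¹ = w1⁻¹ * e :=
        elem_comm (elem_omegaCenterOf (Jof (T : Subgroup G))) heZ (inv_mem D.q.o.c1.wZ)
      rw [hye]
      calc w1 * (s * e) * w1⁻¹ = w1 * s * (e * w1⁻¹) := by group
        _ = s * (s⁻¹ * w1 * s⁻¹⁻¹) * w1⁻¹ * e := by rw [hea]; group
        _ = s * (w2 * w1⁻¹) * e := by
          rw [(D.conj_w h (inv_mem hs) (fun e' => hsn (inv_mem_iff.1 e'))).1]; group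
        _ = _ := by
          rw [elem_inv (elem_omegaCenterOf (Jof (T : Subgroup G))) D.q.o.c1.wZ, hz, D.q.o.z_comm, mul_assoc]
    rw [← hwy] at hf
    refine hk1 ?_
    have h1 : w1⁻¹ * k * w1 = 1 := hodd _
      (by rw [show w1⁻¹ * k * w1 = MulAut.conj w1⁻¹ k by simp, MulEquiv.orderOf_eq]; exact hko) (by
      calc w1⁻¹ * k * w1 * y = w1⁻¹ * (k * (w1 * y * w1⁻¹)) * w1 := by group
        _ = w1⁻¹ * (w1 * y * w1⁻¹ * k) * w1 := by rw [hf.eq]
        _ = _ := by group)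
    calc k = w1 * (w1⁻¹ * k * w1) * w1⁻¹ := by group
      _ = 1 := by rw [h1]; group

theorem no_fusion {s a : G} (hs : s ∈ (T : Subgroup G)) (hsn : s ∉ T1 (T : Subgroup G)) (hs2 : s * s = 1) :
    a * s * a⁻¹ ∉ T1 (T : Subgroup G) := by
  intro hv
  set v := a * s * a⁻¹
  have hv2 : v * v = 1 := by
    calc v * v = a * (s * s) * a⁻¹ := by simp only [v]; group
      _ = 1 := by rw [hs2]; group
  obtain ⟨b, hb⟩ : ∃ b, b * v * b⁻¹ ∈ D.R1 := by
    rcases D.invol_side hv hv2 with e | e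
    · exact D.into_R1 e hv2
    · obtain ⟨b, hb⟩ := D.flip.into_R1 e hv2
      exact ⟨b, mem_inf.2 ⟨(mem_inf.1 hb).2, (mem_inf.1 hb).1⟩⟩
  set v' := b * v * b⁻¹ with hv'
  have hv'2 : v' * v' = 1 := by
    calc v' * v' = b * (v * v) * b⁻¹ := by rw [hv']; group
      _ = 1 := by rw [hv2]; group
  have h1 := D.cent_big h hb hv'2
  set P' := (T : Subgroup G) ⊓ centralizer ({v'} : Set G)
  have h2 := D.sylow_cent h hs hsn hs2 (cj (b * a)⁻¹ P') ((T.2.to_le (inf_le_left : P' ≤ _)).map _) (by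
    rintro _ ⟨p, hp, rfl⟩
    refine mem_centralizer_singleton_iff.2 ?_
    show (b * a)⁻¹ * p * (b * a)⁻¹⁻¹ * s = s * ((b * a)⁻¹ * p * (b * a)⁻¹⁻¹)
    have hp' := mem_centralizer_singleton_iff.1 (mem_inf.1 hp).2
    calc (b * a)⁻¹ * p * (b * a)⁻¹⁻¹ * s = (b * a)⁻¹ * (p * v') * (b * a) := by rw [hv']; simp only [v]; group
      _ = (b * a)⁻¹ * (v' * p) * (b * a) := by rw [hp']
      _ = _ := by rw [hv']; simp only [v]; group)
  rw [card_cj] at h2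
  have h3 := D.cent_small h hs hsn
  have h4 : 0 < Nat.card ↥((T : Subgroup G) ⊓ centralizer ({s} : Set G)) := Nat.card_pos
  omega

theorem commutator_top [IsSimpleGroup G] : commutator G = ⊤ := by
  refine (IsSimpleGroup.eq_bot_or_eq_top_of_normal _ inferInstance).resolve_left fun e => D.q.o.c1.node.move ?_
  have h1 := commutator_mem_commutator (mem_top x1) (mem_top w1)
  rw [← commutator_def, e, mem_bot, commutatorElement_eq_one_iff_mul_comm] at h1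
  exact conj_eq_iff_comm.2 h1

theorem invol_in [IsSimpleGroup G] {s : G} (hs : s ∈ (T : Subgroup G)) (hs2 : s * s = 1) :
    s ∈ T1 (T : Subgroup G) := by
  by_contra hsn
  haveI : Fact (Nat.Prime 2) := ⟨Nat.prime_two⟩
  refine Cfsg.Lib.TwoFusion.not_mem_commutator (p := 2) (T : Subgroup G) (T1 (T : Subgroup G))
    (normal_subgroupOf_of_le_normalizer h.T_norm) (fun _ ha _ hb => D.comm_mem h ha hb)
    ((Nat.Prime.coprime_iff_not_dvd Nat.prime_two).2 T.not_dvd_index) s hs hsn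
    ⟨1, by rw [pow_one]; exact orderOf_eq_prime (by rw [pow_two, hs2]) fun e => hsn (e ▸ one_mem _)⟩
    (fun m a hv => ?_) (D.commutator_top h ▸ mem_top s)
  have h2 : ∀ k : ℤ, s ^ k * s ^ k = 1 := fun k => by rw [← (Commute.refl s).mul_zpow, hs2, one_zpow]
  rcases Int.even_or_odd m with ⟨k, rfl⟩ | ⟨k, rfl⟩
  · rw [zpow_add, h2]
    simp
  · have e : s ^ (2 * k + 1) = s := by rw [zpow_add_one, two_mul, zpow_add, h2, one_mul]
    rw [e] at hv ⊢
    exact D.mul_out h hv (D.no_fusion h hs hsn hs2) (inv_mem hs) fun e' => hsn (inv_mem_iff.1 e')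

theorem sylow_w {R : Subgroup G} (hR : IsPGroup 2 R) (hRC : R ≤ centralizer ({w1} : Set G)) :
    Nat.card R ≤ Nat.card ↥(T1 (T : Subgroup G)) := by
  refine card_le_of_max (T.2.to_le h.T1_le) ?_ (fun Q hQ hle hQC => ?_) hR hRC
  · exact fun g hg => mem_centralizer_singleton_iff.2 (conj_eq_iff_comm.1 (mem_cent_iff.1 hg w1 D.q.o.c1.wZ))
  by_contra hne
  obtain ⟨r, hrQ, hrN, hrn⟩ := JComp.exists_normalizing hQ hle fun e => hne e.ge
  have hrT : r ∈ (T : Subgroup G) := by rw [← D.nJ]; exact h.NT1_le hrN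
  exact D.q.o.w_ne h D.q.hK ((conj_eq_iff_comm.2 (mem_centralizer_singleton_iff.1 (hQC hrQ))).symm.trans
    (D.conj_w h hrT hrn).1)

theorem false_of [IsSimpleGroup G] : False := by
  haveI : Fact (Nat.Prime 2) := ⟨Nat.prime_two⟩
  have heZ0 := elem_omegaCenterOf (Jof (T : Subgroup G))
  obtain ⟨τ, hτ, hτn, u, hu, huc, hτu⟩ : ∃ τ ∈ (T : Subgroup G), τ ∉ T1 (T : Subgroup G) ∧
      ∃ u ∈ Z0 (T : Subgroup G), u ∈ Zc (T : Subgroup G) K1 ∧ τ * τ = u := by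
    obtain ⟨t, ht, htn⟩ := D.exists_out_T h
    obtain ⟨a1, ha1, a2, ha2, r, hr, e⟩ := D.decomp h (D.mul_out h ht htn ht htn)
    have ha1T := D.G1_le ha1
    set τ := t * a1⁻¹
    have hτ : τ ∈ (T : Subgroup G) := mul_mem ht (h.T1_le (inv_mem ha1T))
    have hτn : τ ∉ T1 (T : Subgroup G) := fun e' => htn (by
      simpa [τ] using mul_mem e' ha1T)
    have hc2 := D.conj_G1 h ht htn ha1
    have hsq : τ * τ = (t * a1 * t⁻¹)⁻¹ * a2 * r := by
      have c1 : a1 * a2 = a2 * a1 := D.commG h ha1 ha2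
      have c2 : r * a1⁻¹ = a1⁻¹ * r :=
        (conj_eq_iff_comm.1 (mem_cent_iff.1 (inv_mem ha1T) r hr)).symm
      calc τ * τ = (t * a1⁻¹ * t⁻¹) * (t * t) * a1⁻¹ := by simp only [τ]; group
        _ = (t * a1 * t⁻¹)⁻¹ * (a1 * a2) * (r * a1⁻¹) := by rw [e]; group
        _ = _ := by rw [c1, c2]; group
    have hR : τ * τ ∈ D.R1 := by
      rw [hsq]
      exact mul_mem (mul_mem (inv_mem (D.swap.G1_le_R2 h hc2)) (D.swap.G1_le_R2 h ha2)) (D.Z0_le_R1 hr)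
    have hZ : τ * τ ∈ Z0 (T : Subgroup G) := D.RR_le h hR (by
      have := D.conj_R1 h hτ hτn hR
      rwa [show τ * (τ * τ) * τ⁻¹ = τ * τ by group] at this)
    by_cases hc : τ * τ ∈ Zc (T : Subgroup G) K1
    · exact ⟨τ, hτ, hτn, _, hZ, hc, rfl⟩
    refine ⟨τ * w1, mul_mem hτ (h.T1_le (Z0_le_T1 _ D.q.o.c1.wZ)),
      fun e' => hτn ((Subgroup.mul_mem_cancel_right _ (Z0_le_T1 _ D.q.o.c1.wZ)).1 e'),
      w1 * w2 * (τ * τ), mul_mem D.q.o.z_Z0 hZ,
      D.q.o.c1.mul_mem_Zc D.q.o.z_Z0 hZ (D.q.o.z_not h D.q.hK) hc, ?_⟩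
    calc τ * w1 * (τ * w1) = (τ * w1 * τ⁻¹) * (τ * τ * w1) := by group
      _ = w2 * (w1 * (τ * τ)) := by rw [(D.conj_w h hτ hτn).1, elem_comm heZ0 hZ D.q.o.c1.wZ]
      _ = _ := by rw [← mul_assoc, ← D.q.o.z_comm]
  have hu1 : u ≠ 1 := fun e => hτn (D.invol_in h hτ (hτu.trans e))
  have hu2 : u * u = 1 := elem_sq heZ0 hu
  have hTu : ∀ p ∈ (T : Subgroup G), p * u * p⁻¹ = u := fun p hp => by
    by_cases hp1 : p ∈ T1 (T : Subgroup G)
    · exact mem_cent_iff.1 hp1 u hu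
    have h1 := D.mul_out h hp hp1 (inv_mem hτ) fun e => hτn (inv_mem_iff.1 e)
    calc p * u * p⁻¹ = (p * τ⁻¹) * (τ * u * τ⁻¹) * (p * τ⁻¹)⁻¹ := by group
      _ = u := by rw [← hτu, show τ * (τ * τ) * τ⁻¹ = τ * τ by group, hτu, mem_cent_iff.1 h1 u hu]
  have hno : ∀ a : G, a * u * a⁻¹ ≠ w1 := by
    intro a e
    have := D.sylow_w h (R := cj a (T : Subgroup G)) (T.2.map _) (by
      rintro _ ⟨p, hp, rfl⟩
      refine mem_centralizer_singleton_iff.2 ?_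
      show a * p * a⁻¹ * w1 = w1 * (a * p * a⁻¹)
      rw [← e]
      calc a * p * a⁻¹ * (a * u * a⁻¹) = a * (p * u) * a⁻¹ := by group
        _ = a * (u * p) * a⁻¹ := by rw [conj_eq_iff_comm.1 (hTu p hp)]
        _ = _ := by group)
    rw [card_cj, D.card_T h] at this
    have h0 : 0 < Nat.card ↥(T1 (T : Subgroup G)) := Nat.card_pos
    omega
  refine Cfsg.Lib.TwoFusion.not_mem_commutator (p := 2) (T : Subgroup G) (T1 (T : Subgroup G))
    (normal_subgroupOf_of_le_normalizer h.T_norm) (fun _ ha _ hb => D.comm_mem h ha hb)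
    ((Nat.Prime.coprime_iff_not_dvd Nat.prime_two).2 T.not_dvd_index) τ hτ hτn ?_
    (fun m a hv => ?_) (D.commutator_top h ▸ mem_top τ)
  · obtain ⟨k, -, hk⟩ := (Nat.dvd_prime_pow Nat.prime_two).1
      (orderOf_dvd_of_pow_eq_one (show τ ^ 2 ^ 2 = 1 by
        rw [show (2 : ℕ) ^ 2 = 2 * 2 from rfl, pow_mul, pow_two τ, hτu, pow_two, hu2]))
    exact ⟨k, hk⟩
  have hkk : ∀ k : ℤ, τ ^ k * τ ^ k = u ^ k := fun k => by rw [← (Commute.refl τ).mul_zpow, hτu]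
  rcases Int.even_or_odd m with ⟨k, rfl⟩ | ⟨k, rfl⟩
  · rw [zpow_add, hkk] at hv ⊢
    refine mul_mem (D.invol_in h hv ?_) (inv_mem (Z0_le_T1 _ (zpow_mem hu k)))
    calc a * u ^ k * a⁻¹ * (a * u ^ k * a⁻¹) = a * (u ^ k * u ^ k) * a⁻¹ := by group
      _ = 1 := by rw [← (Commute.refl u).mul_zpow, hu2, one_zpow]; group
  have e : τ ^ (2 * k + 1) = u ^ k * τ := by rw [zpow_add_one, two_mul, zpow_add, hkk]
  rw [e] at hv ⊢
  have hun : u ^ k * τ ∉ T1 (T : Subgroup G) := fun e' =>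
    hτn ((Subgroup.mul_mem_cancel_left _ (Z0_le_T1 _ (zpow_mem hu k))).1 e')
  by_cases hv1 : a * (u ^ k * τ) * a⁻¹ ∈ T1 (T : Subgroup G)
  swap
  · exact D.mul_out h hv hv1 (inv_mem (mul_mem (h.T1_le (Z0_le_T1 _ (zpow_mem hu k))) hτ))
      fun e' => hun (inv_mem_iff.1 e')
  exfalso
  have hvv : a * (u ^ k * τ) * a⁻¹ * (a * (u ^ k * τ) * a⁻¹) = a * u * a⁻¹ := by
    have c : Commute (u ^ k) τ := (show Commute u τ from (conj_eq_iff_comm.1 (hTu τ hτ)).symm).zpow_left k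
    calc a * (u ^ k * τ) * a⁻¹ * (a * (u ^ k * τ) * a⁻¹) = a * ((u ^ k * τ) * (u ^ k * τ)) * a⁻¹ := by group
      _ = a * ((u ^ k * u ^ k) * (τ * τ)) * a⁻¹ := by rw [c.symm.mul_mul_mul_comm]
      _ = _ := by rw [← (Commute.refl u).mul_zpow, hu2, one_zpow, one_mul, hτu]
  obtain ⟨b1, hb1, b2, hb2, r, hr, hbr⟩ := D.decomp h hv1
  rw [hbr] at hvv
  have c1 : Commute r (b1 * b2) :=
    (conj_eq_iff_comm.1 (mem_cent_iff.1 (mul_mem (D.G1_le hb1) (D.swap.G1_le hb2)) r hr)).symm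
  have hprod : b1 * b2 * r * (b1 * b2 * r) = (b1 * b1) * (b2 * b2) := by
    rw [c1.mul_mul_mul_comm, elem_sq heZ0 hr, mul_one,
      (show Commute b2 b1 from (D.commG h hb1 hb2).symm).mul_mul_mul_comm]
  rw [hprod] at hvv
  obtain ⟨t, ht, htn⟩ := D.exists_out_T h
  rcases D.sq_G1 hb1 with f | f <;> rcases D.swap.sq_G1 hb2 with g | g <;> rw [f, g] at hvv
  · refine hu1 ?_
    calc u = a⁻¹ * (a * u * a⁻¹) * a := by group
      _ = 1 := by rw [← hvv]; group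
  · refine hno (t * a) ?_
    calc t * a * u * (t * a)⁻¹ = t * (a * u * a⁻¹) * t⁻¹ := by group
      _ = w1 := by rw [← hvv, one_mul]; exact (D.conj_w h ht htn).2
  · exact hno a (by rw [← hvv, mul_one])
  · have hx : a * x1 * a⁻¹ ∈ (T : Subgroup G) := by
      rw [← D.zT, mem_centralizer_singleton_iff, hvv]
      calc a * x1 * a⁻¹ * (a * u * a⁻¹) = a * (x1 * u) * a⁻¹ := by group
        _ = a * (u * x1) * a⁻¹ := by rw [conj_eq_iff_comm.1 ((D.q.o.c1.fix_iff hu).2 huc)]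
        _ = _ := by group
    have h1 := eq_one_of_odd T.2 hx (by
      rw [show a * x1 * a⁻¹ = MulAut.conj a x1 from rfl, MulEquiv.orderOf_eq]; exact D.q.o.c1.node.x_odd)
    refine D.q.o.c1.node.x_ne_one ?_
    calc x1 = a⁻¹ * (a * x1 * a⁻¹) * a := by group
      _ = 1 := by rw [h1]; group

end Diag

end Cfsg.Lib.QTLf
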