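import Cfsg.Agent.QTKE.LfEmpty.Singles

/-!
Two orbits of two components: the product of the labels and its centralizer; the mixed case.
-/

set_option autoImplicit false
set_option linter.unusedSectionVars false
set_option linter.style.haveILetI false

namespace Cfsg.Lib.QTLf

open Subgroup Cfsg.Lib.JComp

universe u

variable {G : Type u} [Group G] [Finite G]

/-- Two orbits, four components. -/
structure Quad (T K1 K2 L1 L2 : Subgroup G) (x1 w1 x2 w2 y1 v1 y2 v2 : G) : Prop where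
  o : Orb T K1 K2 x1 w1 x2 w2
  o' : Orb T L1 L2 y1 v1 y2 v2
  hK : K1 ≠ K2
  hL : L1 ≠ L2
  d11 : K1 ≠ L1
  d12 : K1 ≠ L2
  d21 : K2 ≠ L1
  d22 : K2 ≠ L2

theorem conj_inj {g a b : G} (e : g * a * g⁻¹ = g * b * g⁻¹) : a = b :=
  mul_left_cancel (mul_right_cancel e)

theorem cj_inj {g : G} {A B : Subgroup G} (e : cj g A = cj g B) : A = B := by
  have := congrArg (cj g⁻¹) e
  rwa [cj_inv_cj, cj_inv_cj] at this

theorem Z0_le_T1 (T : Subgroup G) : Z0 T ≤ T1 T := fun z hz => mem_cent_iff.2 fun _ hv =>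
  conj_eq_iff_comm.2 (elem_comm (elem_omegaCenterOf (Jof T)) hz hv)

variable {T : Sylow 2 G} (h : Hyps T)

include h

theorem Hyps.cent_over {z : G} (hz : z ∈ Cfsg.omegaCenterOf (T : Subgroup G)) (hz1 : z ≠ 1) :
    centralizer ({z} : Set G) ∈ Cfsg.calHOver (T : Subgroup G) := by
  obtain ⟨hzT, hzc, -⟩ := mem_omegaCenterOf.1 hz
  have hTH : (T : Subgroup G) ≤ centralizer ({z} : Set G) := fun t ht =>
    mem_centralizer_singleton_iff.2 (hzc t ht)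
  refine h.over hTH (R := zpowers z) (fun e => hz1 (mem_bot.1 (e ▸ mem_zpowers z)))
    (T.2.to_le (zpowers_le.2 hzT)) (zpowers_le.2 (hTH hzT)) (le_trans ?_ (centralizer_le_normalizer _))
  rw [le_centralizer_iff, zpowers_le]
  exact mem_centralizer_iff.2 fun g hg => mem_centralizer_singleton_iff.1 hg

theorem CN.Zc_mem_conj {K : Subgroup G} {x w t y : G} (c : CN (T : Subgroup G) K x w)
    (ht : t ∈ normalizer (Jof (T : Subgroup G) : Set G)) (hy : y ∈ Z0 (T : Subgroup G)) :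
    t * y * t⁻¹ ∈ Zc (T : Subgroup G) (cj t K) ↔ y ∈ Zc (T : Subgroup G) K := by
  rw [← (c.conj h ht).fix_iff (conj_mem (normalizer_le_omegaCenterOf _ ht) hy), ← c.fix_iff hy,
    show t * x * t⁻¹ * (t * y * t⁻¹) * (t * x * t⁻¹)⁻¹ = t * (x * y * x⁻¹) * t⁻¹ by group]
  exact ⟨conj_inj, fun e => by rw [e]⟩

namespace Orb

variable {K1 K2 : Subgroup G} {x1 w1 x2 w2 : G} (o : Orb (T : Subgroup G) K1 K2 x1 w1 x2 w2)

include o

theorem isK : IsK (T : Subgroup G) K1 := by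
  obtain ⟨L, hL, h1, -⟩ := o.loc
  exact ⟨L, h.setting_of_comp hL o.c1.comp h1, o.c1.comp, h1, hL⟩

theorem x_fix (hne : K1 ≠ K2) : x1 * w2 * x1⁻¹ = w2 :=
  mem_cent_iff.1 (o.cross h hne o.c1.xK) w2 o.c2.node.wW

omit h in
theorem z_Z0 : w1 * w2 ∈ Z0 (T : Subgroup G) := mul_mem o.c1.wZ o.c2.wZ

omit h in
theorem z_comm : w1 * w2 = w2 * w1 := elem_comm (elem_omegaCenterOf (Jof (T : Subgroup G))) o.c1.wZ o.c2.wZ

theorem z_not (hne : K1 ≠ K2) : w1 * w2 ∉ Zc (T : Subgroup G) K1 := fun hz => o.c1.w_not_Zc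
  ((Subgroup.mul_mem_cancel_right _ ((o.c1.fix_iff o.c2.wZ).1 (o.x_fix h hne))).1 hz)

theorem z_not' (hne : K1 ≠ K2) : w1 * w2 ∉ Zc (T : Subgroup G) K2 := by
  rw [o.z_comm]; exact o.symm.z_not h (Ne.symm hne)

theorem z_ne (hne : K1 ≠ K2) : w1 * w2 ≠ 1 := fun e => o.z_not h hne (e ▸ one_mem _)

theorem z_conj {s : G} (hs : s ∈ (T : Subgroup G)) : s * (w1 * w2) * s⁻¹ = w1 * w2 := by
  have hsJ := h.T_le_NJ hs
  rw [show s * (w1 * w2) * s⁻¹ = (s * w1 * s⁻¹) * (s * w2 * s⁻¹) by group]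
  rcases o.perm s hs with ⟨e1, e2⟩ | ⟨e1, e2⟩
  · rw [h.label_conj o.c1 o.c1 hsJ e1, h.label_conj o.c2 o.c2 hsJ e2]
  · rw [h.label_conj o.c1 o.c2 hsJ e1, h.label_conj o.c2 o.c1 hsJ e2]
    exact o.z_comm.symm

theorem z_omega : w1 * w2 ∈ Cfsg.omegaCenterOf (T : Subgroup G) :=
  mem_omegaCenterOf.2 ⟨h.T1_le (Z0_le_T1 _ o.z_Z0), fun _ hs => conj_eq_iff_comm.1 (o.z_conj h hs),
    elem_sq (elem_omegaCenterOf (Jof (T : Subgroup G))) o.z_Z0⟩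

end Orb

namespace Quad

variable {K1 K2 L1 L2 : Subgroup G} {x1 w1 x2 w2 y1 v1 y2 v2 : G}
  (q : Quad (T : Subgroup G) K1 K2 L1 L2 x1 w1 x2 w2 y1 v1 y2 v2)

include q

omit h in
theorem symmK : Quad (T : Subgroup G) K2 K1 L1 L2 x2 w2 x1 w1 y1 v1 y2 v2 :=
  ⟨q.o.symm, q.o', q.hK.symm, q.hL, q.d21, q.d22, q.d11, q.d12⟩

omit h in
theorem symmL : Quad (T : Subgroup G) K1 K2 L2 L1 x1 w1 x2 w2 y2 v2 y1 v1 :=
  ⟨q.o, q.o'.symm, q.hK, q.hL.symm, q.d12, q.d11, q.d22, q.d21⟩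

omit h in
theorem flip : Quad (T : Subgroup G) L1 L2 K1 K2 y1 v1 y2 v2 x1 w1 x2 w2 :=
  ⟨q.o', q.o, q.hL, q.hK, q.d11.symm, q.d21.symm, q.d12.symm, q.d22.symm⟩

theorem no_share {M : Subgroup G} (hM : M ∈ Cfsg.calHOver (T : Subgroup G)) (hK1 : K1 ≤ M) (hL1 : L1 ≤ M) :
    False := by
  obtain ⟨t, ht, he⟩ := q.o.swap
  have hK2 : K2 ≤ M := by
    rw [← he]
    rintro _ ⟨k, hk, rfl⟩
    exact M.mul_mem (M.mul_mem (hM.2 ht) (hK1 hk)) (inv_mem (hM.2 ht))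
  exact h.three_false hM q.o.c1.comp q.o.c2.comp q.o'.c1.comp hK1 hK2 hL1 q.hK q.d11 q.d21

theorem no_common {R : Subgroup G} (hRT : R ≤ (T : Subgroup G)) (hn : (T : Subgroup G) ≤ normalizer (R : Set G))
    (hc : ∀ r ∈ R, K1 ≤ centralizer ({r} : Set G) ∧ L1 ≤ centralizer ({r} : Set G)) : R = ⊥ := by
  by_contra hR
  obtain ⟨r, hr, hr1, hro⟩ := exists_central_involution T.2 hRT hn hR
  exact q.no_share h (h.cent_over hro hr1) (hc r hr).1 (hc r hr).2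

theorem Zc_bot {y : G} (hy : y ∈ Z0 (T : Subgroup G)) (h1 : y ∈ Zc (T : Subgroup G) K1)
    (h2 : y ∈ Zc (T : Subgroup G) K2) (h3 : y ∈ Zc (T : Subgroup G) L1) (h4 : y ∈ Zc (T : Subgroup G) L2) :
    y = 1 := by
  have hb := q.no_common h (R := Zc (T : Subgroup G) K1 ⊓ Zc (T : Subgroup G) K2 ⊓
      (Zc (T : Subgroup G) L1 ⊓ Zc (T : Subgroup G) L2))
    ((inf_le_left.trans inf_le_left).trans ((Zc_le _ _).trans ((Z0_le_T1 _).trans h.T1_le)))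
    (le_normalizer_of_conj fun s hs r hr => by
      obtain ⟨⟨r1, r2⟩, r3, r4⟩ := hr
      have hr0 := Zc_le _ _ r1
      have hsJ := h.T_le_NJ hs
      have t1 := (q.o.c1.Zc_mem_conj h hsJ hr0).2 r1
      have t2 := (q.o.c2.Zc_mem_conj h hsJ hr0).2 r2
      have t3 := (q.o'.c1.Zc_mem_conj h hsJ hr0).2 r3
      have t4 := (q.o'.c2.Zc_mem_conj h hsJ hr0).2 r4
      refine mem_inf.2 ⟨mem_inf.2 ?_, mem_inf.2 ?_⟩
      · rcases q.o.perm s hs with ⟨e1, e2⟩ | ⟨e1, e2⟩ <;> rw [e1] at t1 <;> rw [e2] at t2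
        exacts [⟨t1, t2⟩, ⟨t2, t1⟩]
      · rcases q.o'.perm s hs with ⟨e1, e2⟩ | ⟨e1, e2⟩ <;> rw [e1] at t3 <;> rw [e2] at t4
        exacts [⟨t3, t4⟩, ⟨t4, t3⟩])
    fun r hr => ⟨le_sup_left.trans (Zc_cen hr.1.1), le_sup_left.trans (Zc_cen hr.2.1)⟩
  exact mem_bot.1 (hb.le (mem_inf.2 ⟨mem_inf.2 ⟨h1, h2⟩, mem_inf.2 ⟨h3, h4⟩⟩))

/-- Elements of `Ω₁Z(J)` outside the four centres agree. -/
theorem eq_of_not_mem {a b : G} (ha : a ∈ Z0 (T : Subgroup G)) (hb : b ∈ Z0 (T : Subgroup G))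
    (a1 : a ∉ Zc (T : Subgroup G) K1) (a2 : a ∉ Zc (T : Subgroup G) K2) (a3 : a ∉ Zc (T : Subgroup G) L1)
    (a4 : a ∉ Zc (T : Subgroup G) L2) (b1 : b ∉ Zc (T : Subgroup G) K1) (b2 : b ∉ Zc (T : Subgroup G) K2)
    (b3 : b ∉ Zc (T : Subgroup G) L1) (b4 : b ∉ Zc (T : Subgroup G) L2) : a = b := by
  have := q.Zc_bot h (mul_mem ha hb) (q.o.c1.mul_mem_Zc ha hb a1 b1) (q.o.c2.mul_mem_Zc ha hb a2 b2)
    (q.o'.c1.mul_mem_Zc ha hb a3 b3) (q.o'.c2.mul_mem_Zc ha hb a4 b4)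
  rw [mul_eq_one_iff_eq_inv, elem_inv (elem_omegaCenterOf (Jof (T : Subgroup G))) hb] at this
  exact this

theorem label_nc (hn : ¬ Cfsg.wOf L1 ≤ centralizer (Cfsg.wOf K1 : Set G)) : v1 = w1 ∧ v2 = w2 := by
  have e1 := (noncomm q.o.c1.node q.o'.c1.node hn).1
  refine ⟨e1.symm, ?_⟩
  obtain ⟨t, ht, he⟩ := q.o.swap
  have htJ := h.T_le_NJ ht
  have h1 := h.label_conj q.o.c1 q.o.c2 htJ he
  rcases q.o'.perm t ht with ⟨e, -⟩ | ⟨e, -⟩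
  · have h2 := h.label_conj q.o'.c1 q.o'.c1 htJ e
    rw [← e1, h1] at h2
    exact absurd h2.symm (q.o.w_ne h q.hK)
  · have h2 := h.label_conj q.o'.c1 q.o'.c2 htJ e
    rw [← e1, h1] at h2
    exact h2.symm

/-- An element of `T` interchanging both pairs. -/
theorem exists_diag : ∃ d ∈ (T : Subgroup G),
    cj d K1 = K2 ∧ cj d K2 = K1 ∧ cj d L1 = L2 ∧ cj d L2 = L1 := by
  obtain ⟨s, hs, hsK⟩ := q.o.swap
  obtain ⟨u, hu, huL⟩ := q.o'.swap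
  have hsK2 : cj s K2 = K1 := ((q.o.perm s hs).resolve_left fun e => q.hK (e.1.symm.trans hsK)).2
  have huL2 : cj u L2 = L1 := ((q.o'.perm u hu).resolve_left fun e => q.hL (e.1.symm.trans huL)).2
  rcases q.o'.perm s hs with ⟨e1, e2⟩ | ⟨e1, e2⟩
  · rcases q.o.perm u hu with ⟨f1, f2⟩ | ⟨f1, f2⟩
    · refine ⟨s * u, mul_mem hs hu, ?_, ?_, ?_, ?_⟩
      · rw [← cj_cj, f1, hsK]
      · rw [← cj_cj, f2, hsK2]
      · rw [← cj_cj, huL, e2]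
      · rw [← cj_cj, huL2, e1]
    · exact ⟨u, hu, f1, f2, huL, huL2⟩
  · exact ⟨s, hs, hsK, hsK2, e1, e2⟩

theorem dir_facts (hc : Cfsg.wOf L1 ≤ centralizer (Cfsg.wOf K1 : Set G))
    (hn : ¬ Below (T : Subgroup G) L1 K1) :
    x1 * v1 * x1⁻¹ = v1 ∧ y1 * w1 * y1⁻¹ ≠ w1 ∧
      ∃ g ∈ zpowers y1, (g * x1 * g⁻¹) * w1 * (g * x1 * g⁻¹)⁻¹ = w1 := by
  have hQ : ker (T1 (T : Subgroup G)) (Cfsg.wOf K1) ≠ ker (T1 (T : Subgroup G)) (Cfsg.wOf L1) := fun e =>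
    hn (q.o'.c1.core.trans e.ge)
  have ht : Toward x1 (Cfsg.wOf K1) (Cfsg.wOf L1) :=
    (pair q.o.c1.node q.o'.c1.node hc hQ).resolve_right fun ht => hn (h.below_of_dir q.o'.c1 q.o.c1
      (toward_dir q.o'.c1.node q.o.c1.node (commutes_symm hc) hQ.symm ht))
  refine ⟨toward_fix q.o.c1.node q.o'.c1.node hc hQ ht, ?_⟩
  rcases opposite q.o.c1.node q.o'.c1.node hc hQ ht with hd | ⟨h1, h2⟩
  · exact absurd (h.below_of_dir q.o'.c1 q.o.c1 hd) hn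
  · exact ⟨h1, h2⟩

omit h in
/-- All four pairs commute. -/
def AllComm (_q : Quad (T : Subgroup G) K1 K2 L1 L2 x1 w1 x2 w2 y1 v1 y2 v2) : Prop :=
  (Cfsg.wOf L1 ≤ centralizer (Cfsg.wOf K1 : Set G) ∧ Cfsg.wOf L2 ≤ centralizer (Cfsg.wOf K1 : Set G)) ∧
    Cfsg.wOf L1 ≤ centralizer (Cfsg.wOf K2 : Set G) ∧ Cfsg.wOf L2 ≤ centralizer (Cfsg.wOf K2 : Set G)

omit h in
/-- The directions are mixed. -/
def Mixed (_q : Quad (T : Subgroup G) K1 K2 L1 L2 x1 w1 x2 w2 y1 v1 y2 v2) : Prop :=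
  (¬ Below (T : Subgroup G) L1 K1 ∧ ¬ Below (T : Subgroup G) L2 K2) ∧
    ¬ Below (T : Subgroup G) K1 L2 ∧ ¬ Below (T : Subgroup G) K2 L1

theorem mixed_cases (hc : q.AllComm) : q.Mixed ∨ q.symmL.Mixed := by
  obtain ⟨⟨c11, c12⟩, c21, c22⟩ := hc
  obtain ⟨d, hd, k1, k2, l1, l2⟩ := q.exists_diag h
  have hdJ := h.T_le_NJ hd
  have b11 : Below (T : Subgroup G) K1 L1 → Below (T : Subgroup G) K2 L2 := fun hb => by
    simpa [k1, l1] using hb.conj h hdJ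
  have b22 : Below (T : Subgroup G) K2 L2 → Below (T : Subgroup G) K1 L1 := fun hb => by
    simpa [k2, l2] using hb.conj h hdJ
  have b12 : Below (T : Subgroup G) K1 L2 → Below (T : Subgroup G) K2 L1 := fun hb => by
    simpa [k1, l2] using hb.conj h hdJ
  have b21 : Below (T : Subgroup G) K2 L1 → Below (T : Subgroup G) K1 L2 := fun hb => by
    simpa [k2, l1] using hb.conj h hdJ
  have a11 : Below (T : Subgroup G) L1 K1 → Below (T : Subgroup G) L2 K2 := fun hb => by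
    simpa [k1, l1] using hb.conj h hdJ
  have a22 : Below (T : Subgroup G) L2 K2 → Below (T : Subgroup G) L1 K1 := fun hb => by
    simpa [k2, l2] using hb.conj h hdJ
  have a12 : Below (T : Subgroup G) L2 K1 → Below (T : Subgroup G) L1 K2 := fun hb => by
    simpa [k1, l2] using hb.conj h hdJ
  have a21 : Below (T : Subgroup G) L1 K2 → Below (T : Subgroup G) L2 K1 := fun hb => by
    simpa [k2, l1] using hb.conj h hdJ
  have nb : ¬ (Below (T : Subgroup G) K1 L1 ∧ Below (T : Subgroup G) K1 L2) := fun ⟨h1, h2⟩ => by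
    obtain ⟨M, hM, ⟨hK1, -⟩, hL1, -⟩ := h.share q.o q.o' h1 h2 (b12 h2) (b11 h1)
    exact q.no_share h hM hK1 hL1
  have na : ¬ (Below (T : Subgroup G) L1 K1 ∧ Below (T : Subgroup G) L2 K1) := fun ⟨h1, h2⟩ => by
    obtain ⟨M, hM, ⟨hL1, -⟩, hK1, -⟩ := h.share q.o' q.o h1 (a12 h2) h2 (a11 h1)
    exact q.no_share h hM hK1 hL1
  rcases h.below_or q.o.c1 q.o'.c1 c11 with h1 | h1
  · have h2 : ¬ Below (T : Subgroup G) K1 L2 := fun h2 => nb ⟨h1, h2⟩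
    have h3 : Below (T : Subgroup G) L2 K1 := (h.below_or q.o.c1 q.o'.c2 c12).resolve_left h2
    have h4 : ¬ Below (T : Subgroup G) L1 K1 := fun h4 => na ⟨h4, h3⟩
    exact Or.inl ⟨⟨h4, fun e => h4 (a22 e)⟩, h2, fun e => h2 (b21 e)⟩
  · have h2 : ¬ Below (T : Subgroup G) L2 K1 := fun h2 => na ⟨h1, h2⟩
    have h3 : Below (T : Subgroup G) K1 L2 := (h.below_or q.o.c1 q.o'.c2 c12).resolve_right h2
    have h4 : ¬ Below (T : Subgroup G) K1 L1 := fun h4 => nb ⟨h4, h3⟩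
    exact Or.inr ⟨⟨h2, fun e => h2 (a21 e)⟩, h4, fun e => h4 (b22 e)⟩

theorem mixed_z (hc : q.AllComm) (hm : q.Mixed) : v1 * v2 = w1 * w2 := by
  obtain ⟨⟨c11, c12⟩, c21, c22⟩ := hc
  obtain ⟨⟨n11, n22⟩, n12, n21⟩ := hm
  obtain ⟨f11, g11, -⟩ := q.dir_facts h c11 n11
  obtain ⟨f22, g22, -⟩ := q.symmK.symmL.dir_facts h c22 n22
  obtain ⟨f12, g12, -⟩ := q.symmL.flip.dir_facts h (commutes_symm c12) n12
  obtain ⟨f21, g21, -⟩ := q.symmK.flip.dir_facts h (commutes_symm c21) n21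
  have a1 : v1 * v2 ∉ Zc (T : Subgroup G) K1 := fun hz => g12 ((q.o.c1.fix_iff q.o'.c2.wZ).2
    ((Subgroup.mul_mem_cancel_left _ ((q.o.c1.fix_iff q.o'.c1.wZ).1 f11)).1 hz))
  have a2 : v1 * v2 ∉ Zc (T : Subgroup G) K2 := fun hz => g21 ((q.o.c2.fix_iff q.o'.c1.wZ).2
    ((Subgroup.mul_mem_cancel_right _ ((q.o.c2.fix_iff q.o'.c2.wZ).1 f22)).1 hz))
  have b3 : w1 * w2 ∉ Zc (T : Subgroup G) L1 := fun hz => g11 ((q.o'.c1.fix_iff q.o.c1.wZ).2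
    ((Subgroup.mul_mem_cancel_right _ ((q.o'.c1.fix_iff q.o.c2.wZ).1 f21)).1 hz))
  have b4 : w1 * w2 ∉ Zc (T : Subgroup G) L2 := fun hz => g22 ((q.o'.c2.fix_iff q.o.c2.wZ).2
    ((Subgroup.mul_mem_cancel_left _ ((q.o'.c2.fix_iff q.o.c1.wZ).1 f12)).1 hz))
  exact q.eq_of_not_mem h q.o'.z_Z0 q.o.z_Z0 a1 a2 (q.o'.z_not h q.hL) (q.o'.z_not' h q.hL)
    (q.o.z_not h q.hK) (q.o.z_not' h q.hK) b3 b4

theorem z_eq : v1 * v2 = w1 * w2 := by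
  by_cases hc : q.AllComm
  · rcases q.mixed_cases h hc with hm | hm
    · exact q.mixed_z h hc hm
    · rw [← q.symmL.mixed_z h ⟨⟨hc.1.2, hc.1.1⟩, hc.2.2, hc.2.1⟩ hm]
      exact q.o'.z_comm
  simp only [AllComm, not_and_or] at hc
  rcases hc with (hn | hn) | (hn | hn)
  · obtain ⟨e1, e2⟩ := q.label_nc h hn
    rw [e1, e2]
  · obtain ⟨e1, e2⟩ := q.symmL.label_nc h hn
    rw [e1, e2]
    exact q.o.z_comm.symm
  · obtain ⟨e1, e2⟩ := q.symmK.label_nc h hn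
    rw [e1, e2]
    exact q.o.z_comm.symm
  · obtain ⟨e1, e2⟩ := q.symmK.symmL.label_nc h hn
    rw [e1, e2]

/-- An element of `N(J)` normalizing the four components centralizes `Ω₁Z(J)`. -/
theorem mem_T1 {n : G} (hn : n ∈ normalizer (Jof (T : Subgroup G) : Set G)) (e1 : cj n K1 = K1)
    (e2 : cj n K2 = K2) (e3 : cj n L1 = L1) (e4 : cj n L2 = L2) : n ∈ T1 (T : Subgroup G) := by
  refine mem_cent_iff.2 fun y hy => ?_
  have hny := conj_mem (normalizer_le_omegaCenterOf _ hn) hy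
  have key : ∀ {K : Subgroup G} {x w : G}, CN (T : Subgroup G) K x w → cj n K = K →
      n * y * n⁻¹ * y ∈ Zc (T : Subgroup G) K := fun {K x w} c e => by
    have hiff := c.Zc_mem_conj h hn hy
    rw [e] at hiff
    by_cases hyK : y ∈ Zc (T : Subgroup G) K
    · exact mul_mem (hiff.2 hyK) hyK
    · exact c.mul_mem_Zc hny hy (fun e' => hyK (hiff.1 e')) hyK
  have := q.Zc_bot h (mul_mem hny hy) (key q.o.c1 e1) (key q.o.c2 e2) (key q.o'.c1 e3) (key q.o'.c2 e4)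
  rw [mul_eq_one_iff_eq_inv, elem_inv (elem_omegaCenterOf (Jof (T : Subgroup G))) hy] at this
  exact this

end Quad

theorem Orb.NJ_perm {K1 K2 : Subgroup G} {x1 w1 x2 w2 : G} (o : Orb (T : Subgroup G) K1 K2 x1 w1 x2 w2)
    (hne : K1 ≠ K2) {n : G} (hn : n ∈ normalizer (Jof (T : Subgroup G) : Set G)) :
    (cj n K1 = K1 ∧ cj n K2 = K2) ∨ (cj n K1 = K2 ∧ cj n K2 = K1) := by
  obtain ⟨M, hM, hNJ, h1, h2⟩ := o.with_NJ h
  have hs := h.setting_of_comp hM o.c1.comp h1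
  obtain ⟨a, aM⟩ := h.conj_IsK hs o.c1.comp h1 (hNJ hn) hn
  obtain ⟨b, bM⟩ := h.conj_IsK hs o.c2.comp h2 (hNJ hn) hn
  rcases h.comps_two hM hs o.c1.comp h1 o.c2.comp h2 a aM hne with e | e <;>
    rcases h.comps_two hM hs o.c1.comp h1 o.c2.comp h2 b bM hne with e' | e'
  · exact absurd (cj_inj (e.trans e'.symm)) hne
  · exact Or.inl ⟨e, e'⟩
  · exact Or.inr ⟨e, e'⟩
  · exact absurd (cj_inj (e.trans e'.symm)) hne

theorem Orb.sq_fix {K1 K2 : Subgroup G} {x1 w1 x2 w2 : G} (o : Orb (T : Subgroup G) K1 K2 x1 w1 x2 w2)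
    (hne : K1 ≠ K2) {n : G} (hn : n ∈ normalizer (Jof (T : Subgroup G) : Set G)) :
    cj (n * n) K1 = K1 ∧ cj (n * n) K2 = K2 := by
  rw [← cj_cj, ← cj_cj]
  rcases o.NJ_perm h hne hn with ⟨e1, e2⟩ | ⟨e1, e2⟩
  · exact ⟨by rw [e1, e1], by rw [e2, e2]⟩
  · exact ⟨by rw [e1, e2], by rw [e2, e1]⟩

theorem Quad.NJ_eq {K1 K2 L1 L2 : Subgroup G} {x1 w1 x2 w2 y1 v1 y2 v2 : G}
    (q : Quad (T : Subgroup G) K1 K2 L1 L2 x1 w1 x2 w2 y1 v1 y2 v2) :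
    normalizer (Jof (T : Subgroup G) : Set G) = (T : Subgroup G) := by
  refine T.is_maximal' (fun ⟨y, hy⟩ => ?_) h.T_le_NJ
  obtain ⟨s, hs⟩ := exists_odd_pow y
  refine ⟨s, Subtype.ext ?_⟩
  show y ^ 2 ^ s = 1
  set n := y ^ 2 ^ s
  obtain ⟨k, hk⟩ := hs
  set g := n ^ (k + 1)
  have hg : g * g = n := by
    rw [← pow_add, show k + 1 + (k + 1) = (2 * k + 1) + 1 by ring, ← hk, pow_succ, pow_orderOf_eq_one, one_mul]
  have hgJ : g ∈ normalizer (Jof (T : Subgroup G) : Set G) := pow_mem (pow_mem hy _) _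
  obtain ⟨e1, e2⟩ := q.o.sq_fix h q.hK hgJ
  obtain ⟨e3, e4⟩ := q.o'.sq_fix h q.hL hgJ
  rw [hg] at e1 e2 e3 e4
  exact eq_one_of_odd T.2 (h.T1_le (q.mem_T1 h (pow_mem hy _) e1 e2 e3 e4)) ⟨k, hk⟩

/-- Outside an orbit: a second orbit. -/
theorem Hyps.quad_of {K1 K2 L : Subgroup G} {x1 w1 x2 w2 : G}
    (hns : ∀ K, IsK (T : Subgroup G) K → ¬ (T : Subgroup G) ≤ normalizer (K : Set G))
    (o : Orb (T : Subgroup G) K1 K2 x1 w1 x2 w2) (hne : K1 ≠ K2) (hL : IsK (T : Subgroup G) L)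
    (h1 : L ≠ K1) (h2 : L ≠ K2) :
    ∃ L2 y1 v1 y2 v2, Quad (T : Subgroup G) K1 K2 L L2 x1 w1 x2 w2 y1 v1 y2 v2 := by
  obtain ⟨y, v, d⟩ := h.exists_CN hL
  obtain ⟨L2, y2, v2, o', -⟩ := h.exists_orb hL d
  obtain ⟨t, ht, he⟩ := o'.symm.swap
  have hL2 : ∀ A, L2 = A → A = K1 ∨ A = K2 → False := fun A e hA => by
    subst e
    rcases o.perm t ht with ⟨e1, e2⟩ | ⟨e1, e2⟩ <;> rcases hA with hA | hA <;> subst hA
    exacts [h1 (he.symm.trans e1), h2 (he.symm.trans e2), h2 (he.symm.trans e1), h1 (he.symm.trans e2)]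
  refine ⟨L2, y, v, y2, v2, o, o', hne, fun e => hns L hL fun s hs => ?_, h1.symm,
    fun e => hL2 _ e.symm (Or.inl rfl), h2.symm, fun e => hL2 _ e.symm (Or.inr rfl)⟩
  rcases o'.perm s hs with ⟨e1, -⟩ | ⟨e1, -⟩
  · exact mem_normalizer_of_cj e1
  · exact mem_normalizer_of_cj (e1.trans e.symm)

theorem Hyps.exists_quad (hT : (T : Subgroup G) ≠ ⊥) (hns : ∀ K, IsK (T : Subgroup G) K → ¬ (T : Subgroup G) ≤ normalizer (K : Set G)) :
    ∃ K1 K2 L1 L2 x1 w1 x2 w2 y1 v1 y2 v2,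
      Quad (T : Subgroup G) K1 K2 L1 L2 x1 w1 x2 w2 y1 v1 y2 v2 := by
  obtain ⟨K, hK⟩ : ∃ K, IsK (T : Subgroup G) K := by
    by_contra hno
    push Not at hno
    have hover : normalizer (Jof (T : Subgroup G) : Set G) ∈ Cfsg.calHOver (T : Subgroup G) := by
      refine h.over h.T_le_NJ (R := T1 (T : Subgroup G)) (fun e => ?_) (T.2.to_le h.T1_le)
        (h.T1_le.trans h.T_le_NJ) h.NJ_norm
      obtain ⟨z, hz, hz1, hzo⟩ := exists_central_involution T.2 le_rfl le_normalizer hT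
      exact hz1 (mem_bot.1 (e.le (h.J_le_T1 (mem_omegaCenterOf.1 (omega_le_omega_jof _ hzo)).1)))
    exact h.noTop _ hover fun H hH => h.le_of hH inf_le_right fun L _ _ hL => absurd hL (hno L)
  obtain ⟨x, w, c⟩ := h.exists_CN hK
  obtain ⟨K2, x2, w2, o, -⟩ := h.exists_orb hK c
  have hne : K ≠ K2 := fun e => hns K hK fun s hs => by
    rcases o.perm s hs with ⟨e1, -⟩ | ⟨e1, -⟩
    · exact mem_normalizer_of_cj e1
    · exact mem_normalizer_of_cj (e1.trans e.symm)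
  obtain ⟨M, hM, hNJ, hKM, hK2M⟩ := o.with_NJ h
  obtain ⟨L, hL, hLM⟩ : ∃ L, IsK (T : Subgroup G) L ∧ ¬ L ≤ M := by
    by_contra hno
    push Not at hno
    exact h.noTop M hM fun H hH => h.le_of hH (inf_le_right.trans hNJ) fun L _ _ hL => hno L hL
  obtain ⟨L2, y1, v1, y2, v2, q⟩ :=
    h.quad_of hns o hne hL (fun e => hLM (e ▸ hKM)) fun e => hLM (e ▸ hK2M)
  exact ⟨_, _, _, _, _, _, _, _, _, _, _, _, q⟩

/-- The centralizer of the product of the labels. -/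
theorem Quad.cent_z {K1 K2 L1 L2 : Subgroup G} {x1 w1 x2 w2 y1 v1 y2 v2 : G}
    (hns : ∀ K, IsK (T : Subgroup G) K → ¬ (T : Subgroup G) ≤ normalizer (K : Set G))
    (q : Quad (T : Subgroup G) K1 K2 L1 L2 x1 w1 x2 w2 y1 v1 y2 v2) :
    centralizer ({w1 * w2} : Set G) = (T : Subgroup G) := by
  have hH := h.cent_over (q.o.z_omega h) (q.o.z_ne h q.hK)
  refine le_antisymm ((h.le_of hH inf_le_right fun K hKc hKH hK => ?_).trans (q.NJ_eq h).le) hH.2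
  exfalso
  have hcomm : ∀ g ∈ K, g * (w1 * w2) * g⁻¹ = w1 * w2 := fun g hg =>
    conj_eq_iff_comm.2 (mem_centralizer_singleton_iff.1 (hKH hg))
  by_cases e1 : K = K1
  · subst e1
    exact q.o.z_not h q.hK ((q.o.c1.fix_iff q.o.z_Z0).1 (hcomm _ q.o.c1.xK))
  by_cases e2 : K = K2
  · subst e2
    exact q.o.z_not' h q.hK ((q.o.c2.fix_iff q.o.z_Z0).1 (hcomm _ q.o.c2.xK))
  obtain ⟨K', a1, b1, a2, b2, q'⟩ := h.quad_of hns q.o q.hK hK e1 e2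
  refine q'.o'.z_not h q'.hL ((q'.o'.c1.fix_iff q'.o'.z_Z0).1 ?_)
  rw [q'.z_eq h]
  exact hcomm _ q'.o'.c1.xK

theorem Quad.mixed_false {K1 K2 L1 L2 : Subgroup G} {x1 w1 x2 w2 y1 v1 y2 v2 : G}
    (hns : ∀ K, IsK (T : Subgroup G) K → ¬ (T : Subgroup G) ≤ normalizer (K : Set G))
    (q : Quad (T : Subgroup G) K1 K2 L1 L2 x1 w1 x2 w2 y1 v1 y2 v2) (hc : q.AllComm) (hm : q.Mixed) : False := by
  obtain ⟨⟨c11, -⟩, c21, -⟩ := hc
  obtain ⟨⟨n11, -⟩, -, n21⟩ := hm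
  obtain ⟨-, -, g, hg, hgfix⟩ := q.dir_facts h c11 n11
  obtain ⟨f21, -, -⟩ := q.symmK.flip.dir_facts h (commutes_symm c21) n21
  have hgw : Commute g w2 := by
    obtain ⟨k, rfl⟩ := mem_zpowers_iff.1 hg
    exact (show Commute y1 w2 from conj_eq_iff_comm.1 f21).zpow_left k
  have hX : Commute (g * x1 * g⁻¹) w2 :=
    (hgw.mul_left (conj_eq_iff_comm.1 (q.o.x_fix h q.hK))).mul_left hgw.inv_left
  have hXT : g * x1 * g⁻¹ ∈ (T : Subgroup G) := by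
    rw [← q.cent_z h hns, mem_centralizer_singleton_iff]
    exact ((show Commute (g * x1 * g⁻¹) w1 from conj_eq_iff_comm.1 hgfix).mul_right hX).eq
  refine q.o.c1.node.x_ne_one ?_
  have h1 : g * x1 * g⁻¹ = 1 := eq_one_of_odd T.2 hXT (by
    rw [show g * x1 * g⁻¹ = MulAut.conj g x1 from rfl, MulEquiv.orderOf_eq]; exact q.o.c1.node.x_odd)
  calc x1 = g⁻¹ * (g * x1 * g⁻¹) * g := by group
    _ = 1 := by rw [h1]; group

/-- Some cross pair does not commute. -/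
theorem Quad.exists_nc {K1 K2 L1 L2 : Subgroup G} {x1 w1 x2 w2 y1 v1 y2 v2 : G}
    (hns : ∀ K, IsK (T : Subgroup G) K → ¬ (T : Subgroup G) ≤ normalizer (K : Set G))
    (q : Quad (T : Subgroup G) K1 K2 L1 L2 x1 w1 x2 w2 y1 v1 y2 v2) :
    ∃ A1 A2 B1 B2 a1 u1 a2 u2 b1 r1 b2 r2, Quad (T : Subgroup G) A1 A2 B1 B2 a1 u1 a2 u2 b1 r1 b2 r2 ∧
      ¬ Cfsg.wOf B1 ≤ centralizer (Cfsg.wOf A1 : Set G) := by
  by_cases hc : q.AllComm
  · rcases q.mixed_cases h hc with hm | hm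
    · exact (q.mixed_false h hns hc hm).elim
    · exact (q.symmL.mixed_false h hns ⟨⟨hc.1.2, hc.1.1⟩, hc.2.2, hc.2.1⟩ hm).elim
  simp only [Quad.AllComm, not_and_or] at hc
  rcases hc with (hn | hn) | (hn | hn)
  exacts [⟨_, _, _, _, _, _, _, _, _, _, _, _, q, hn⟩, ⟨_, _, _, _, _, _, _, _, _, _, _, _, q.symmL, hn⟩,
    ⟨_, _, _, _, _, _, _, _, _, _, _, _, q.symmK, hn⟩, ⟨_, _, _, _, _, _, _, _, _, _, _, _, q.symmK.symmL, hn⟩]

end Cfsg.Lib.QTLf
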